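import Cfsg.Agent.Lib.MTwentyTwo.Embed
import Cfsg.Agent.Lib.Concrete.SporMathieu

/-!
# A simple group of order 443520 is M22
-/

set_option autoImplicit false
set_option linter.style.haveILetI false
set_option linter.unusedSectionVars false

namespace Cfsg.Lib.MTwentyTwo

open Cfsg Cfsg.Lib

universe u w

theorem isM22_spor : IsM22 Spor.M22 :=
  ⟨Concrete.isSimple_sporM22, Concrete.card_sporM22⟩

/-- Two simple groups of order 443520 in the automorphisms of the model graph are equal. -/
theorem eq_of_le_autGraph {A B : Subgroup (Equiv.Perm (Fin 77))} (hA : A ≤ autGraph) (hB : B ≤ autGraph)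
    (hcA : Nat.card A = 443520) (hcB : Nat.card B = 443520) [IsSimpleGroup B] : B = A := by
  have hidx : A.relIndex autGraph ≤ 2 := by
    have h := (A.subgroupOf autGraph).card_mul_index
    rw [Nat.card_congr (Subgroup.subgroupOfEquivOfLe hA).toEquiv, hcA] at h
    change (A.subgroupOf autGraph).index ≤ 2
    have := card_autGraph_le
    omega
  have hne : A.relIndex autGraph ≠ 0 := Subgroup.index_ne_zero_of_finite
  have hle : (A.subgroupOf B).index ≤ 2 := (Subgroup.relIndex_le_of_le_right hB hne).trans hidx
  have h1 : (A.subgroupOf B).index ≠ 0 := Subgroup.index_ne_zero_of_finite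
  have htop : A.subgroupOf B = ⊤ := by
    rw [← Subgroup.index_eq_one]
    by_contra h
    have h2 : (A.subgroupOf B).index = 2 := by omega
    haveI := Subgroup.normal_of_index_eq_two h2
    rcases (inferInstance : (A.subgroupOf B).Normal).eq_bot_or_eq_top with e | e
    · rw [e, Subgroup.index_bot, hcB] at h2
      omega
    · rw [e, Subgroup.index_top] at h2
      omega
  exact Subgroup.eq_of_le_of_card_ge (Subgroup.subgroupOf_eq_top.1 htop) (by rw [hcA, hcB])

theorem nonempty_mulEquiv {G : Type u} {K : Type w} [Group G] [Finite G] [Group K] [Finite K]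
    (hG : IsM22 G) (hK : IsM22 K) : Nonempty (G ≃* K) := by
  haveI := Fintype.ofFinite G
  haveI := Fintype.ofFinite K
  haveI := hK.1
  obtain ⟨φ, hφ, hφle⟩ := exists_embedding hG
  obtain ⟨ψ, hψ, hψle⟩ := exists_embedding hK
  let e1 := MonoidHom.ofInjective hφ
  let e2 := MonoidHom.ofInjective hψ
  haveI : Nontrivial ψ.range := e2.toEquiv.symm.nontrivial
  haveI : IsSimpleGroup ψ.range := IsSimpleGroup.isSimpleGroup_of_surjective e2.toMonoidHom e2.surjective
  have heq : ψ.range = φ.range := eq_of_le_autGraph hφle hψle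
    (by rw [← Nat.card_congr e1.toEquiv, hG.2]) (by rw [← Nat.card_congr e2.toEquiv, hK.2])
  exact ⟨e1.trans ((MulEquiv.subgroupCongr heq.symm).trans e2.symm)⟩

/-- A simple group of order 443520 is isomorphic to M22. -/
theorem isoM22 {G : Type u} [Group G] [Finite G] (hG : IsM22 G) : Spor.IsoM22 G :=
  nonempty_mulEquiv hG isM22_spor

end Cfsg.Lib.MTwentyTwo
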