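import Cfsg.Agent.Lib.MEleven.Basic
import Cfsg.Agent.Lib.Small.BlockShape

/-!
# Character values at an involution of a simple group

The value of an irreducible character at an involution is an integer congruent to the degree modulo
four, of smaller absolute value when the character is nontrivial, and it satisfies the integrality
of the class sum and the second orthogonality relation.
-/

set_option autoImplicit false
set_option linter.style.haveILetI false
set_option linter.unusedSectionVars false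

namespace Cfsg.Lib.MTwentyTwo

open Cfsg Cfsg.Lib

universe u

variable {G : Type u} [Group G] [Fintype G]

/-- The degree. -/
noncomputable abbrev deg (χ : IrrCharacter G) : ℕ := Cfsg.charDegree (χ : G → ℂ)

/-- The value as an integer, when it is one. -/
noncomputable def intVal (z : G) (χ : IrrCharacter G) : ℤ :=
  open Classical in if h : ∃ m : ℤ, (χ : G → ℂ) z = m then h.choose else 0

theorem cast_intVal_of {z : G} {χ : IrrCharacter G} (h : ∃ m : ℤ, (χ : G → ℂ) z = m) :
    ((intVal z χ : ℤ) : ℂ) = (χ : G → ℂ) z := by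
  rw [intVal, dif_pos h]
  exact h.choose_spec.symm

theorem exists_eigen_sign (χ : IrrCharacter G) {z : G} (hz : z ^ 2 = 1) :
    ∃ (n : ℕ) (ρ : Representation ℂ G (Fin n → ℂ))
      (b : Module.Basis (Fin (Module.finrank ℂ (Fin n → ℂ))) ℂ (Fin n → ℂ))
      (k : Finset (Fin (Module.finrank ℂ (Fin n → ℂ)))),
      ρ.character = (χ : G → ℂ) ∧ Module.finrank ℂ (Fin n → ℂ) = deg χ ∧
      (∀ i, ρ z (b i) = (if i ∈ k then (-1 : ℂ) else 1) • b i) ∧
      (χ : G → ℂ) z = (((deg χ : ℤ) - 2 * k.card : ℤ) : ℂ) := by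
  classical
  obtain ⟨n, ρ, -, hρ⟩ := χ.2
  obtain ⟨b, μ, hb, hμ⟩ := Char.exists_eigenbasis ρ z
  have hμ2 : ∀ i, μ i = 1 ∨ μ i = -1 := fun i => by
    have h : μ i ^ 2 = 1 := by
      obtain ⟨m, hm⟩ := orderOf_dvd_of_pow_eq_one hz
      rw [hm, pow_mul, hμ, one_pow]
    exact sq_eq_one_iff.1 h
  have hn : Module.finrank ℂ (Fin n → ℂ) = deg χ := by
    have h := congrFun hρ 1
    rw [ρ.char_one, MEleven.apply_one] at h
    exact_mod_cast h
  refine ⟨n, ρ, b, Finset.univ.filter fun i => μ i = -1, hρ, hn, fun i => ?_, ?_⟩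
  · rw [hb]
    rcases hμ2 i with e | e <;> simp [e] <;> norm_num
  · rw [← hρ]
    show LinearMap.trace ℂ _ (ρ z) = _
    rw [Char.trace_eq_sum_of_eigenbasis _ b μ hb]
    have e : ∀ i, μ i = 1 - 2 * (if μ i = -1 then (1 : ℂ) else 0) := fun i => by
      rcases hμ2 i with e | e <;> rw [e] <;> norm_num
    rw [Finset.sum_congr rfl fun i _ => e i, Finset.sum_sub_distrib, Finset.sum_const,
      Finset.card_univ, Fintype.card_fin, ← Finset.mul_sum, Finset.sum_boole, nsmul_eq_mul,
      mul_one]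
    simp [hn]

theorem exists_int_apply (χ : IrrCharacter G) {z : G} (hz : z ^ 2 = 1) :
    ∃ m : ℤ, (χ : G → ℂ) z = m := by
  obtain ⟨n, ρ, b, k, -, -, -, h⟩ := exists_eigen_sign χ hz
  exact ⟨_, h⟩

theorem cast_intVal (χ : IrrCharacter G) {z : G} (hz : z ^ 2 = 1) :
    ((intVal z χ : ℤ) : ℂ) = (χ : G → ℂ) z :=
  cast_intVal_of (exists_int_apply χ hz)

theorem intVal_eq {z : G} {χ : IrrCharacter G} {m : ℤ} (h : (χ : G → ℂ) z = m) : intVal z χ = m := by
  have := cast_intVal_of ⟨m, h⟩
  rw [h] at this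
  exact_mod_cast this

theorem intVal_mod_four (hperf : commutator G = ⊤) (χ : IrrCharacter G) {z : G} (hz : z ^ 2 = 1) :
    (intVal z χ - deg χ) % 4 = 0 := by
  classical
  obtain ⟨n, ρ, b, k, -, -, hb, h⟩ := exists_eigen_sign χ hz
  have hp := Small.prod_eigen_eq_one hperf ρ z b _ hb
  rw [Finset.prod_ite_mem, Finset.univ_inter, Finset.prod_const] at hp
  have hev : Even k.card := by
    by_contra ho
    rw [(Nat.not_even_iff_odd.1 ho).neg_one_pow] at hp
    norm_num at hp
  obtain ⟨j, hj⟩ := hev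
  rw [intVal_eq h, hj]
  push_cast
  omega

theorem natAbs_intVal_lt [IsSimpleGroup G] (hnc : ¬ IsCyclic G) {χ : IrrCharacter G}
    (hχ : χ ≠ Small.one' G) {z : G} (hz : z ^ 2 = 1) (hz1 : z ≠ 1) :
    (intVal z χ).natAbs < deg χ := by
  classical
  obtain ⟨n, ρ, b, k, hρ, hn, hb, h⟩ := exists_eigen_sign χ hz
  have hk : k.card ≤ deg χ := by
    rw [← hn]
    exact (Finset.card_le_univ k).trans (le_of_eq (Fintype.card_fin _))
  have h0 : k.card ≠ 0 := fun h0 => hz1 (Small.eq_one_of_apply_eq hχ (by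
    rw [h, h0, MEleven.apply_one]
    push_cast
    simp))
  have h1 : k.card ≠ deg χ := by
    intro h1
    have hall : ∀ i, i ∈ k := fun i => by
      have hu : k = Finset.univ := Finset.eq_univ_of_card k (by rw [h1, Fintype.card_fin, hn])
      rw [hu]; exact Finset.mem_univ i
    have hscal : ρ z = -1 := b.ext fun i => by
      rw [hb, if_pos (hall i), LinearMap.neg_apply, Module.End.one_apply, neg_one_smul]
    have hcen : z ∈ Subgroup.center G := by
      refine Subgroup.mem_center_iff.2 fun g => ?_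
      have h2 : (χ : G → ℂ) (g * z * (g⁻¹ * z⁻¹)) = (χ : G → ℂ) 1 := by
        rw [← hρ]
        show LinearMap.trace ℂ _ (ρ (g * z * (g⁻¹ * z⁻¹))) = LinearMap.trace ℂ _ (ρ 1)
        congr 1
        have hzi : z⁻¹ = z := inv_eq_of_mul_eq_one_right (by rw [← pow_two, hz])
        rw [map_mul, map_mul, map_mul, hzi, hscal]
        refine LinearMap.ext fun v => ?_
        simp only [Module.End.mul_apply, LinearMap.neg_apply, Module.End.one_apply, map_neg, neg_neg]
        rw [← Module.End.mul_apply, ← map_mul, mul_inv_cancel]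
      have h3 := Small.eq_one_of_apply_eq hχ h2
      rw [← mul_inv_rev, mul_inv_eq_one] at h3
      exact h3
    rcases (inferInstance : (Subgroup.center G).Normal).eq_bot_or_eq_top with e | e
    · exact hz1 ((Subgroup.eq_bot_iff_forall _).1 e z hcen)
    · apply hnc
      let _ : CommGroup G := { (inferInstance : Group G) with
        mul_comm := fun a b => (Subgroup.mem_center_iff.mp (e ▸ Subgroup.mem_top b) a) }
      exact IsSimpleGroup.isCyclic
  rw [intVal_eq h]
  omega

theorem sum_intVal_sq {z : G} (hz : z ^ 2 = 1) :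
    ∑ χ : IrrCharacter G, intVal z χ * intVal z χ =
      (Nat.card (Subgroup.centralizer ({z} : Set G)) : ℤ) := by
  classical
  have h := Char.column_orthogonality z z
  rw [if_pos (IsConj.refl z)] at h
  have e : ∀ χ : IrrCharacter G, ((intVal z χ * intVal z χ : ℤ) : ℂ) =
      (χ : G → ℂ) z * starRingEnd ℂ ((χ : G → ℂ) z) := fun χ => by
    rw [Int.cast_mul, ← cast_intVal χ hz, map_intCast]
  have : ((∑ χ : IrrCharacter G, intVal z χ * intVal z χ : ℤ) : ℂ) =
      ((Nat.card (Subgroup.centralizer ({z} : Set G)) : ℤ) : ℂ) := by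
    rw [Int.cast_sum, Finset.sum_congr rfl fun χ _ => e χ, h]
    push_cast
    rfl
  exact_mod_cast this

theorem sum_deg_intVal {z : G} (hz : z ^ 2 = 1) (hz1 : z ≠ 1) :
    ∑ χ : IrrCharacter G, (deg χ : ℤ) * intVal z χ = 0 := by
  have h := MEleven.sum_column_degree hz1
  have : ((∑ χ : IrrCharacter G, (deg χ : ℤ) * intVal z χ : ℤ) : ℂ) = 0 := by
    rw [Int.cast_sum, ← h]
    exact Finset.sum_congr rfl fun χ _ => by rw [Int.cast_mul, cast_intVal χ hz, Int.cast_natCast]
  exact_mod_cast this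

/-- The class sum makes the value divisible by the part of the degree prime to the class size. -/
theorem qof_dvd_intVal (χ : IrrCharacter G) {z : G} (hz : z ^ 2 = 1) {C : ℕ}
    (hC : Nat.card (Subgroup.centralizer ({z} : Set G)) = C) :
    ((deg χ / Nat.gcd (deg χ) (Nat.card G / C) : ℕ) : ℤ) ∣ intVal z χ := by
  classical
  have hd : deg χ ≠ 0 := (χ.2.charDegree_pos).ne'
  have hcl : (Char.classFinset z).card = Nat.card G / C := by
    rw [Char.card_classFinset, ← hC]
    refine (Nat.div_eq_of_eq_mul_left Nat.card_pos ?_).symm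
    rw [Subgroup.index_mul_card]
  set K := Nat.card G / C
  have h : IsIntegral ℤ ((K : ℂ) * (χ : G → ℂ) z / (χ : G → ℂ) 1) := hcl ▸ χ.2.isIntegral_class z
  rw [← cast_intVal χ hz, MEleven.apply_one] at h
  obtain ⟨m, hm⟩ := Char.exists_int_of_isIntegral_rat (q := (((K : ℤ) * intVal z χ : ℤ) : ℚ) / (deg χ : ℚ))
    (by push_cast; exact h)
  rw [div_eq_iff (Nat.cast_ne_zero.2 hd)] at hm
  have hm' : (K : ℤ) * intVal z χ = m * (deg χ : ℤ) := by exact_mod_cast hm
  set g := Nat.gcd (deg χ) K with hg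
  have hg0 : 0 < g := Nat.gcd_pos_of_pos_left _ (Nat.pos_of_ne_zero hd)
  have hcop : Int.gcd (deg χ / g : ℕ) (K / g : ℕ) = 1 := by
    rw [Int.gcd_natCast_natCast]
    exact Nat.coprime_div_gcd_div_gcd hg0
  refine Int.dvd_of_dvd_mul_right_of_gcd_one (b := (K / g : ℕ)) ⟨m, ?_⟩ hcop
  apply mul_left_cancel₀ (show (g : ℤ) ≠ 0 by exact_mod_cast hg0.ne')
  have e1 : (g : ℤ) * (deg χ / g : ℕ) = deg χ := by
    exact_mod_cast Nat.mul_div_cancel' (Nat.gcd_dvd_left _ _)
  have e2 : (g : ℤ) * (K / g : ℕ) = K := by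
    exact_mod_cast Nat.mul_div_cancel' (Nat.gcd_dvd_right _ _)
  rw [← mul_assoc, e2, hm', ← mul_assoc, e1, mul_comm]

end Cfsg.Lib.MTwentyTwo
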