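import Cfsg.Agent.Lib.MTwentyTwo.Families
import Mathlib.GroupTheory.SchurZassenhaus

/-!
# Pairs of involutions with product in a Sylow subgroup of prime order or its centralizer

For a class `K` of involutions and a nontrivial element `x` of a Sylow subgroup `P` of prime order
the signed weighted square sum of the values at `K` is controlled by the number of pairs in `K`
with product in `x W`, `W` the complement of `P` in its centralizer.
-/

set_option autoImplicit false
set_option linter.style.haveILetI false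
set_option linter.unusedSectionVars false

namespace Cfsg.Lib.MTwentyTwo

open Cfsg Cfsg.Lib
open scoped ComplexConjugate

universe u

noncomputable local instance (priority := high) fintypeSubgroupMTwentyTwoCount {A : Type u}
    [Group A] [Fintype A] (H : Subgroup A) : Fintype H := Fintype.ofFinite H

variable {G : Type u} [Group G] [Fintype G]

theorem not_dvd_orderOf {p : ℕ} (hp : p.Prime) (hp2 : p ≠ 2) {z : G} (hz : orderOf z = 2) :
    ¬ p ∣ orderOf z := by
  rw [hz]
  exact fun h => hp2 ((Nat.prime_dvd_prime_iff_eq hp Nat.prime_two).1 h)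

theorem inv_eq_self {a : G} (ha : a ^ 2 = 1) : a⁻¹ = a :=
  inv_eq_of_mul_eq_one_right (by rw [← pow_two, ha])

theorem sq_eq_one_of_isConj {z a : G} (hz : z ^ 2 = 1) (h : IsConj z a) : a ^ 2 = 1 := by
  obtain ⟨c, rfl⟩ := isConj_iff.1 h
  rw [conj_pow, hz, mul_one, mul_inv_cancel]

namespace Dat

variable {p : ℕ} [Fact p.Prime] (D : Dat G p) {x z : G}

/-- The centralizer of `P`. -/
abbrev C : Subgroup G := Subgroup.centralizer ((D.P : Subgroup G) : Set G)

theorem P_le_C : (D.P : Subgroup G) ≤ D.C := Block.le_centralizer_self D.S.card_P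

theorem sqrt_mem (hp2 : p ≠ 2) {v : G} (hv : v ∈ (D.P : Subgroup G)) :
    ∃ w ∈ (D.P : Subgroup G), w ^ 2 = v := by
  have h : orderOf v ∣ p := D.S.card_P ▸ Subgroup.orderOf_dvd_natCard _ hv
  obtain ⟨m, hm⟩ := exists_pow_eq_self_of_coprime (x := v) (n := 2)
    ((Nat.Prime.coprime_iff_not_dvd Nat.prime_two).2 fun h2 => hp2
      ((Nat.prime_dvd_prime_iff_eq Nat.prime_two Fact.out).1 (h2.trans h)).symm)
  exact ⟨v ^ m, pow_mem hv m, by rw [← pow_mul, mul_comm, pow_mul]; exact hm⟩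

theorem inv_ne (hp2 : p ≠ 2) (hx : x ∈ (D.P : Subgroup G)) (hx1 : x ≠ 1) : x⁻¹ ≠ x := fun h => by
  have h2 : x ^ 2 = 1 := by rw [pow_two]; nth_rewrite 1 [← h]; exact inv_mul_cancel x
  exact hp2 ((Nat.prime_dvd_prime_iff_eq Fact.out Nat.prime_two).1
    (D.orderOf_eq hx hx1 ▸ orderOf_dvd_of_pow_eq_one h2))

theorem inverts (hx : x ∈ (D.P : Subgroup G)) (hx1 : x ≠ 1) {a : G} (ha : a * x * a⁻¹ = x⁻¹)
    {v : G} (hv : v ∈ (D.P : Subgroup G)) : a * v * a⁻¹ = v⁻¹ := by
  rw [← Small.zpowers_eq_of_prime_card D.S.card_P hx hx1] at hv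
  obtain ⟨i, rfl⟩ := Subgroup.mem_zpowers_iff.1 hv
  rw [← conj_zpow, ha, inv_zpow]

open Classical in
/-- The members of the class of `z` inverting `x`. -/
noncomputable def inverters (x z : G) : Finset G :=
  (Char.classFinset z).filter fun a => a * x * a⁻¹ = x⁻¹

theorem mem_inverters {a : G} :
    a ∈ inverters x z ↔ IsConj z a ∧ a * x * a⁻¹ = x⁻¹ := by
  classical
  simp [inverters, Char.mem_classFinset]

theorem inverters_mul (hp2 : p ≠ 2) (hx : x ∈ (D.P : Subgroup G)) (hx1 : x ≠ 1) {a v : G}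
    (ha : a ∈ inverters x z) (hv : v ∈ (D.P : Subgroup G)) : a * v ∈ inverters x z := by
  obtain ⟨hza, hax⟩ := mem_inverters.1 ha
  obtain ⟨w, hw, rfl⟩ := D.sqrt_mem hp2 hv
  have haw : a * w * a⁻¹ = w⁻¹ := D.inverts hx hx1 hax hw
  have e : a * w ^ 2 = w⁻¹ * a * w := by
    rw [← haw, pow_two]; group
  have e2 : w⁻¹ * a * w = w⁻¹ * a * (w⁻¹)⁻¹ := by rw [inv_inv]
  refine mem_inverters.2 ⟨hza.trans (isConj_iff.2 ⟨w⁻¹, (e.trans e2).symm⟩), ?_⟩
  have hc : w ^ 2 * x * (w ^ 2)⁻¹ = x := by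
    rw [Subgroup.mem_centralizer_iff.1 (D.P_le_C hx) _ (pow_mem hw 2), mul_inv_cancel_right]
  calc a * w ^ 2 * x * (a * w ^ 2)⁻¹ = a * (w ^ 2 * x * (w ^ 2)⁻¹) * a⁻¹ := by group
    _ = x⁻¹ := by rw [hc, hax]

theorem quot_mem_C (hx : x ∈ (D.P : Subgroup G)) (hx1 : x ≠ 1) {a b : G}
    (ha : a ∈ inverters x z) (hb : b ∈ inverters x z) : a⁻¹ * b ∈ D.C := by
  rw [C, ← D.centralizer_eq hx hx1, Subgroup.mem_centralizer_singleton_iff]
  obtain ⟨-, hax⟩ := mem_inverters.1 ha
  obtain ⟨-, hbx⟩ := mem_inverters.1 hb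
  have h : a * x * a⁻¹ = b * x * b⁻¹ := hax.trans hbx.symm
  calc a⁻¹ * b * x = a⁻¹ * (b * x * b⁻¹) * b := by group
    _ = a⁻¹ * (a * x * a⁻¹) * b := by rw [h]
    _ = x * (a⁻¹ * b) := by group

/-- An inverting involution forces an even automizer. -/
theorem even_of_inverter (hp2 : p ≠ 2) (hx : x ∈ (D.P : Subgroup G)) (hx1 : x ≠ 1) (hz : z ^ 2 = 1)
    {a : G} (ha : a ∈ inverters x z) : 2 ∣ D.e := by
  obtain ⟨hza, hax⟩ := mem_inverters.1 ha
  set N := Subgroup.normalizer ((D.P : Subgroup G) : Set G)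
  have haN : a ∈ N := Subgroup.mem_normalizer_fintype fun v hv => by
    rw [SetLike.mem_coe, D.inverts hx hx1 hax hv]
    exact inv_mem hv
  set K := (Subgroup.centralizer ((D.P : Subgroup G) : Set G)).subgroupOf N with hK
  haveI : K.Normal := by
    rw [hK, ← Subgroup.normalizerMonoidHom_ker]
    infer_instance
  by_contra hodd
  have h1 : orderOf (QuotientGroup.mk' K ⟨a, haN⟩) ∣ 2 := orderOf_dvd_of_pow_eq_one (by
    rw [← map_pow]
    have : (⟨a, haN⟩ : N) ^ 2 = 1 := Subtype.ext (sq_eq_one_of_isConj hz hza)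
    rw [this, map_one])
  have h2 : orderOf (QuotientGroup.mk' K ⟨a, haN⟩) ∣ D.e := by
    refine (_root_.orderOf_dvd_natCard _).trans (dvd_of_eq ?_)
    exact D.S.relIndex_eq
  have h3 := Nat.eq_one_of_dvd_coprimes ((Nat.Prime.coprime_iff_not_dvd Nat.prime_two).2 hodd) h1 h2
  rw [orderOf_eq_one_iff, ← MonoidHom.mem_ker, QuotientGroup.ker_mk', hK,
    Subgroup.mem_subgroupOf] at h3
  apply D.inv_ne hp2 hx hx1
  rw [← hax, ← Subgroup.mem_centralizer_iff.1 h3 x hx, mul_inv_cancel_right]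

/-- The count for a self-centralizing Sylow subgroup. -/
theorem frac_one (hp2 : p ≠ 2) (hc : D.c = 1) (hz : orderOf z = 2) :
    (2 ∣ D.e ∧ (Nat.card (Subgroup.centralizer ({z} : Set G)) : ℂ) ^ 2 * p =
        (Nat.card G : ℂ) * Lst.T D z) ∨ Lst.T D z = 0 := by
  classical
  obtain ⟨x, hx, hx1⟩ := D.exists_x
  have hz2 : z ^ 2 = 1 := hz ▸ pow_orderOf_eq_one z
  have hzp := not_dvd_orderOf (G := G) Fact.out hp2 hz
  have hC : Nat.card D.C = p := by rw [D.hc, hc, mul_one]
  have h := D.S.formula_int hC hzp hzp hx hx1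
  have hT : ∑ χ ∈ D.S.Z, (D.S.σ χ : ℂ) * ((χ : G → ℂ) z * (χ : G → ℂ) z / (χ : G → ℂ) 1) =
      Lst.T D z := Finset.sum_congr rfl fun χ _ => by
    rw [← cast_intVal χ hz2, MEleven.apply_one]
  rw [hT] at h
  set F := (Char.classFinset z ×ˢ Char.classFinset z).filter fun q => q.1 * q.2 = x with hF
  have hbij : F.card = (inverters x z).card := by
    refine Finset.card_bij (fun q _ => q.1) ?_ ?_ ?_
    · intro q hq
      simp only [hF, Finset.mem_filter, Finset.mem_product, Char.mem_classFinset] at hq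
      obtain ⟨⟨h1, h2⟩, h3⟩ := hq
      refine mem_inverters.2 ⟨h1, ?_⟩
      rw [← h3, mul_inv_rev, inv_eq_self (sq_eq_one_of_isConj hz2 h1),
        inv_eq_self (sq_eq_one_of_isConj hz2 h2), ← mul_assoc q.1 q.1 q.2, ← pow_two,
        sq_eq_one_of_isConj hz2 h1, one_mul]
    · intro q hq r hr e
      simp only [hF, Finset.mem_filter] at hq hr
      exact Prod.ext e (mul_left_cancel (a := r.1) (by rw [hr.2, ← hq.2, e]))
    · intro a ha
      obtain ⟨hza, -⟩ := mem_inverters.1 ha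
      refine ⟨(a, a * x), ?_, rfl⟩
      simp only [hF, Finset.mem_filter, Finset.mem_product, Char.mem_classFinset]
      refine ⟨⟨hza, (mem_inverters.1 (D.inverters_mul hp2 hx hx1 ha hx)).1⟩, ?_⟩
      rw [← mul_assoc, ← pow_two, sq_eq_one_of_isConj hz2 hza, one_mul]
  rw [hbij] at h
  rcases (inverters x z).eq_empty_or_nonempty with he | ⟨a, ha⟩
  · right
    rw [he, Finset.card_empty, Nat.cast_zero, zero_mul, zero_mul] at h
    exact (mul_eq_zero.1 h.symm).resolve_left (Nat.cast_ne_zero.2 Nat.card_pos.ne')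
  · left
    refine ⟨D.even_of_inverter hp2 hx hx1 hz2 ha, ?_⟩
    have hcard : (inverters x z).card = p := by
      have : inverters x z = (Finset.univ.filter (· ∈ (D.P : Subgroup G))).image (a * ·) := by
        ext b
        simp only [Finset.mem_image, Finset.mem_filter, Finset.mem_univ, true_and]
        constructor
        · intro hb
          refine ⟨a⁻¹ * b, ?_, by group⟩
          have h4 := D.quot_mem_C hx hx1 ha hb
          have h5 : D.C = (D.P : Subgroup G) :=
            (Subgroup.eq_of_le_of_card_ge D.P_le_C (by rw [hC, D.S.card_P])).symm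
          rwa [h5] at h4
        · rintro ⟨v, hv, rfl⟩
          exact D.inverters_mul hp2 hx hx1 ha hv
      rw [this, Finset.card_image_of_injective _ (mul_right_injective a),
        ← Fintype.card_subtype, ← Nat.card_eq_fintype_card, D.S.card_P]
    rw [hcard] at h
    rw [← h]
    ring

/-- The vanishing outside the principal block for a self-centralizing Sylow subgroup. -/
theorem dvd_deg_of_notMem (hc : D.c = 1) {χ : IrrCharacter G} (hχ : χ ∉ Lst.B D) :
    p ∣ deg χ := by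
  classical
  rw [Lst.mem_B, ← D.S.mem_block] at hχ
  have hC : Nat.card D.C = p := by rw [D.hc, hc, mul_one]
  obtain ⟨x, hx, hx1⟩ := D.exists_x
  have hone : ¬ p ∣ orderOf (1 : G) := by
    rw [orderOf_one]; exact (Fact.out : p.Prime).not_dvd_one
  have hCP : D.C = (D.P : Subgroup G) :=
    (Subgroup.eq_of_le_of_card_ge D.P_le_C (by rw [hC, D.S.card_P])).symm
  have hB : IsPBlock D.S.M (blockOf D.S.M (χ : G → ℂ)) := Block.isPBlock_blockOf χ
  have hd0 : blockDefect p (blockOf D.S.M (χ : G → ℂ)) = 0 := by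
    by_contra hd
    have h1 := Block.isDefectGroup_of_pos D.S.hM D.P D.S.card_P hB hd
    have h2 := Block.isDefectGroup_principal_sylow D.S.hM D.P
    have hsub : Subsingleton {K : ConjClasses (Subgroup.normalizer ((D.P : Subgroup G) : Set G)) //
        ∀ n : Subgroup.normalizer ((D.P : Subgroup G) : Set G), ConjClasses.mk n = K →
          ¬ p ∣ orderOf n ∧ (n : G) ∈ Subgroup.centralizer ((D.P : Subgroup G) : Set G)} := by
      refine ⟨fun K K' => Subtype.ext ?_⟩
      have key : ∀ K : {K : ConjClasses (Subgroup.normalizer ((D.P : Subgroup G) : Set G)) //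
        ∀ n : Subgroup.normalizer ((D.P : Subgroup G) : Set G), ConjClasses.mk n = K →
          ¬ p ∣ orderOf n ∧ (n : G) ∈ Subgroup.centralizer ((D.P : Subgroup G) : Set G)},
          K.1 = ConjClasses.mk 1 := by
        rintro ⟨K, hK⟩
        obtain ⟨n, rfl⟩ := ConjClasses.mk_surjective K
        obtain ⟨h3, h4⟩ := hK n rfl
        rw [show Subgroup.centralizer ((D.P : Subgroup G) : Set G) = (D.P : Subgroup G) from hCP] at h4
        have h5 : orderOf n ∣ p := by
          rw [← Subgroup.orderOf_coe]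
          exact (Subgroup.orderOf_dvd_natCard _ h4).trans D.S.card_P.dvd
        rcases (Nat.dvd_prime Fact.out).1 h5 with h6 | h6
        · exact congrArg ConjClasses.mk (orderOf_eq_one_iff.1 h6)
        · exact absurd h6.symm.dvd h3
      rw [key K, key K']
    have hle : Nat.card {B : Set (IrrCharacter G) // IsPBlock D.S.M B ∧
        IsDefectGroup p D.S.M B (D.P : Subgroup G)} ≤ 1 := by
      rw [Cfsg.Agent.S0953.result p D.S.M D.S.hM D.P]
      exact Finite.card_le_one_iff_subsingleton.2 hsub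
    have := Finite.card_le_one_iff_subsingleton.1 hle
    have h3 := congrArg Subtype.val (@Subsingleton.elim _ this
      ⟨_, hB, h1⟩ ⟨_, Block.isPBlock_principal, h2⟩)
    have h3' : blockOf D.S.M (χ : G → ℂ) = principalBlock D.S.M G := h3
    exact hχ (h3' ▸ Block.self_mem_blockOf D.S.hM χ)
  obtain ⟨ψ, hψ, -⟩ := (Block.blockDefect_eq_zero_iff D.S.hM hB).1 hd0
  have hψ' : χ = ψ := by
    have := Block.self_mem_blockOf D.S.hM χ; rw [hψ] at this; exact this
  have hvan : ∀ v ∈ (D.P : Subgroup G), v ≠ 1 → (χ : G → ℂ) v = 0 := by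
    intro v hv hv1
    have h4 := Block.sum_block_mul_conj_eq_zero D.S.hM (Block.vInt_indVec D.S.hM hB) (g := 1) (h := v)
      (Block.not_isConj_pPt_of_dvd hone (D.orderOf_eq hv hv1 ▸ dvd_rfl))
    rw [hψ, finsum_mem_singleton, ← hψ', mul_eq_zero] at h4
    simpa using h4.resolve_left χ.2.apply_one_ne_zero
  obtain ⟨n, hn⟩ := MEleven.exists_nat_sum χ (D.P : Subgroup G)
  rw [Finset.sum_eq_single (1 : (D.P : Subgroup G))
    (fun v _ hv => hvan v v.2 fun e => hv (Subtype.ext e)) (by simp), OneMemClass.coe_one,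
    MEleven.apply_one, D.S.card_P] at hn
  exact ⟨n, by exact_mod_cast hn⟩

/-- A complement of `P` in its centralizer. -/
structure Compl (D : Dat G p) where
  /-- the complement -/
  W : Subgroup G
  le : W ≤ D.C
  card_W : Nat.card W = D.c
  factor : ∀ y ∈ D.C, ∃ v ∈ (D.P : Subgroup G), ∃ w ∈ W, y = v * w
  uniq : ∀ v ∈ (D.P : Subgroup G), ∀ w ∈ W, v * w = 1 → v = 1

theorem exists_compl (hpc : ¬ p ∣ D.c) : Nonempty (Compl D) := by
  set Q := (D.P : Subgroup G).subgroupOf D.C with hQ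
  haveI : Q.Normal := ⟨fun v hv g => by
    rw [hQ, Subgroup.mem_subgroupOf] at hv ⊢
    rw [Subgroup.coe_mul, Subgroup.coe_mul, ← Subgroup.mem_centralizer_iff.1 g.2 _ hv,
      InvMemClass.coe_inv, mul_inv_cancel_right]
    exact hv⟩
  have hQc : Nat.card Q = p := by
    rw [Nat.card_congr (Subgroup.subgroupOfEquivOfLe D.P_le_C).toEquiv, D.S.card_P]
  have hidx : Q.index = D.c := by
    have h := Q.card_mul_index
    rw [hQc, D.hc] at h
    exact Nat.eq_of_mul_eq_mul_left (Fact.out : p.Prime).pos h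
  obtain ⟨H, hH⟩ := Subgroup.exists_right_complement'_of_coprime (N := Q)
    (by rw [hQc, hidx]; exact (Fact.out : p.Prime).coprime_iff_not_dvd.2 hpc)
  have hmul := hH.card_mul_card
  rw [hQc, D.hc] at hmul
  refine ⟨⟨H.map D.C.subtype, Subgroup.map_subtype_le H, ?_, ?_, ?_⟩⟩
  · rw [Subgroup.card_map_of_injective D.C.subtype_injective]
    exact Nat.eq_of_mul_eq_mul_left (Fact.out : p.Prime).pos hmul
  · intro y hy
    obtain ⟨⟨v, w⟩, hvw⟩ := hH.2 ⟨y, hy⟩
    refine ⟨((v : D.C) : G), v.2, ((w : D.C) : G), ⟨_, w.2, rfl⟩, ?_⟩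
    have := congrArg Subtype.val hvw
    simpa using this.symm
  · rintro v hv _ ⟨w, hw, rfl⟩ h
    have h' : (⟨v, D.P_le_C hv⟩ : D.C) * w = 1 := Subtype.ext h
    have hv' : (⟨v, D.P_le_C hv⟩ : D.C) ∈ Q := hv
    have := hH.1 (a₁ := (⟨_, hv'⟩, ⟨w, hw⟩)) (a₂ := (1, 1)) (by simpa using h')
    exact congrArg (fun q : Q × H => ((q.1 : D.C) : G)) this

namespace Compl

variable {D} (W : Compl D)

theorem eq_of_mul_eq {v v' w w' : G} (hv : v ∈ (D.P : Subgroup G)) (hv' : v' ∈ (D.P : Subgroup G))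
    (hw : w ∈ W.W) (hw' : w' ∈ W.W) (h : v * w = v' * w') : v = v' ∧ w = w' := by
  have hv1 : v'⁻¹ * v = 1 := W.uniq _ (mul_mem (inv_mem hv') hv) _ (mul_mem hw (inv_mem hw')) (by
    calc v'⁻¹ * v * (w * w'⁻¹) = v'⁻¹ * (v * w) * w'⁻¹ := by group
      _ = v'⁻¹ * (v' * w') * w'⁻¹ := by rw [h]
      _ = 1 := by group)
  have hvv : v = v' := (inv_mul_eq_one.1 hv1).symm
  exact ⟨hvv, mul_left_cancel (hvv ▸ h)⟩

theorem pow_c {w : G} (hw : w ∈ W.W) : w ^ D.c = 1 := by
  rw [← W.card_W]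
  exact orderOf_dvd_iff_pow_eq_one.1 (Subgroup.orderOf_dvd_natCard _ hw)

variable (hpc : ¬ p ∣ D.c)
include W hpc

theorem regular {w : G} (hw : w ∈ W.W) : ¬ p ∣ orderOf w := fun h =>
  hpc (W.card_W ▸ h.trans (Subgroup.orderOf_dvd_natCard _ hw))

theorem mem_of_pow {y : G} (hy : y ∈ D.C) (h : y ^ D.c = 1) : y ∈ W.W := by
  obtain ⟨v, hv, w, hw, rfl⟩ := W.factor y hy
  have hc : Commute v w := Subgroup.mem_centralizer_iff.1 (W.le hw) v hv
  rw [hc.mul_pow, W.pow_c hw, mul_one] at h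
  have h1 : orderOf v ∣ D.c := orderOf_dvd_of_pow_eq_one h
  have h2 : orderOf v ∣ p := D.S.card_P ▸ Subgroup.orderOf_dvd_natCard _ hv
  rw [orderOf_eq_one_iff.1 (Nat.eq_one_of_dvd_coprimes
    ((Fact.out : p.Prime).coprime_iff_not_dvd.2 hpc) h2 h1), one_mul]
  exact hw

theorem conj_mem_C (hx : x ∈ (D.P : Subgroup G)) (hx1 : x ≠ 1) {w w' g : G} (hw : w ∈ W.W)
    (hw' : w' ∈ W.W) (h : g * (x * w) * g⁻¹ = x * w') : g ∈ D.C ∧ g * w * g⁻¹ = w' := by
  have h' := congrArg (· ^ D.c) h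
  simp only [conj_pow] at h'
  rw [(show Commute x w from Subgroup.mem_centralizer_iff.1 (W.le hw) x hx).mul_pow, W.pow_c hw,
    mul_one, (show Commute x w' from Subgroup.mem_centralizer_iff.1 (W.le hw') x hx).mul_pow,
    W.pow_c hw', mul_one] at h'
  have hxc1 : x ^ D.c ≠ 1 := fun e => hpc (by
    have := orderOf_dvd_of_pow_eq_one e
    rwa [D.orderOf_eq hx hx1] at this)
  have hg : g ∈ D.C := by
    rw [Dat.C, ← D.centralizer_eq (pow_mem hx _) hxc1, Subgroup.mem_centralizer_singleton_iff]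
    exact mul_inv_eq_iff_eq_mul.1 h'
  refine ⟨hg, mul_left_cancel (a := x) ?_⟩
  rw [← h]
  have hgx : x * g = g * x := Subgroup.mem_centralizer_iff.1 hg x hx
  calc x * (g * w * g⁻¹) = (x * g) * w * g⁻¹ := by group
    _ = _ := by rw [hgx]; group

theorem sum_centralizer (hx : x ∈ (D.P : Subgroup G)) (hx1 : x ≠ 1) {w : G} (hw : w ∈ W.W) :
    ∑ w' : W.W, (open Classical in if IsConj (x * w) (x * (w' : G)) then
      (Nat.card (Subgroup.centralizer ({x * w} : Set G)) : ℂ) else 0) = (p * D.c : ℕ) := by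
  classical
  set wC : D.C := ⟨w, W.le hw⟩
  have hset : ((Finset.univ.filter fun w' : W.W => IsConj (x * w) (x * (w' : G))).card) =
      (Char.classFinset wC).card := by
    refine Finset.card_bij (fun w' _ => (⟨(w' : G), W.le w'.2⟩ : D.C)) ?_ ?_ ?_
    · intro w' hw'
      obtain ⟨g, hg⟩ := isConj_iff.1 (Finset.mem_filter.1 hw').2
      obtain ⟨hgC, hgw⟩ := W.conj_mem_C hpc hx hx1 hw w'.2 hg
      exact Char.mem_classFinset.2 (isConj_iff.2 ⟨⟨g, hgC⟩, Subtype.ext hgw⟩)
    · intro a _ b _ e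
      exact Subtype.ext (congrArg (fun q : D.C => (q : G)) e)
    · intro y hy
      obtain ⟨⟨g, hgC⟩, hg⟩ := isConj_iff.1 (Char.mem_classFinset.1 hy)
      have hg' : g * w * g⁻¹ = (y : G) := congrArg Subtype.val hg
      have hyW : (y : G) ∈ W.W := W.mem_of_pow hpc y.2 (by
        rw [← hg', conj_pow, W.pow_c hw, mul_one, mul_inv_cancel])
      refine ⟨⟨y, hyW⟩, Finset.mem_filter.2 ⟨Finset.mem_univ _, isConj_iff.2 ⟨g, ?_⟩⟩, rfl⟩
      show g * (x * w) * g⁻¹ = x * (y : G)
      rw [← hg']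
      have hgx : x * g = g * x := Subgroup.mem_centralizer_iff.1 hgC x hx
      calc g * (x * w) * g⁻¹ = (g * x) * w * g⁻¹ := by group
        _ = _ := by rw [← hgx]; group
  have hcent : Nat.card (Subgroup.centralizer ({x * w} : Set G)) =
      Nat.card (Subgroup.centralizer ({wC} : Set D.C)) := by
    have e : Subgroup.centralizer ({x * w} : Set G) =
        (Subgroup.centralizer ({wC} : Set D.C)).map D.C.subtype := by
      ext g
      rw [Subgroup.mem_centralizer_singleton_iff]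
      constructor
      · intro h
        have h' : g * (x * w) * g⁻¹ = x * w := by rw [h, mul_inv_cancel_right]
        obtain ⟨hgC, hgw⟩ := W.conj_mem_C hpc hx hx1 hw hw h'
        refine ⟨⟨g, hgC⟩, Subgroup.mem_centralizer_singleton_iff.2 (Subtype.ext ?_), rfl⟩
        exact mul_inv_eq_iff_eq_mul.1 hgw
      · rintro ⟨g, hg, rfl⟩
        have hgw : (g : G) * w = w * g :=
          congrArg Subtype.val (Subgroup.mem_centralizer_singleton_iff.1 hg)
        have hgx : x * (g : G) = g * x := Subgroup.mem_centralizer_iff.1 g.2 x hx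
        calc (g : G) * (x * w) = x * g * w := by rw [hgx, mul_assoc]
          _ = x * w * g := by rw [mul_assoc, hgw, mul_assoc]
    rw [e, Subgroup.card_map_of_injective D.C.subtype_injective]
  rw [Finset.sum_ite, Finset.sum_const_zero, add_zero, Finset.sum_const, nsmul_eq_mul, hset,
    Char.card_classFinset, hcent, ← Nat.cast_mul, Subgroup.index_mul_card, D.hc]

theorem sum_sq (hx : x ∈ (D.P : Subgroup G)) (hx1 : x ≠ 1) :
    ∑ χ : IrrCharacter G, (∑ w : W.W, (χ : G → ℂ) (x * (w : G))) *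
      conj (∑ w : W.W, (χ : G → ℂ) (x * (w : G))) = (p * D.c * D.c : ℕ) := by
  classical
  simp only [map_sum, Finset.sum_mul, Finset.mul_sum]
  rw [Finset.sum_comm]
  rw [Finset.sum_congr rfl fun (w : W.W) _ => Finset.sum_comm]
  simp only [Char.column_orthogonality]
  rw [Finset.sum_comm]
  rw [Finset.sum_congr rfl fun (w : W.W) _ => W.sum_centralizer hpc hx hx1 w.2, Finset.sum_const,
    Finset.card_univ, ← Nat.card_eq_fintype_card, W.card_W, nsmul_eq_mul]
  push_cast
  ring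

theorem sum_principal (hx : x ∈ (D.P : Subgroup G)) (hx1 : x ≠ 1) :
    (∀ χ ∈ D.S.X, ∑ w : W.W, (χ : G → ℂ) (x * (w : G)) = (D.c : ℂ) * (D.S.σ χ : ℂ)) ∧
      ∑ θ' ∈ D.S.Y, ∑ w : W.W, (θ' : G → ℂ) (x * (w : G)) = (D.c : ℂ) * (D.S.σ D.S.θ : ℂ) := by
  classical
  constructor
  · intro χ hχ
    rw [Finset.sum_congr rfl fun (w : W.W) _ =>
      D.S.val χ hχ x hx hx1 w (W.le w.2) (W.regular hpc w.2), Finset.sum_const, Finset.card_univ,
      ← Nat.card_eq_fintype_card, W.card_W, nsmul_eq_mul]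
  · rw [Finset.sum_comm, Finset.sum_congr rfl fun (w : W.W) _ =>
      D.sum_Y hx hx1 (W.le w.2) (W.regular hpc w.2), Finset.sum_const, Finset.card_univ,
      ← Nat.card_eq_fintype_card, W.card_W, nsmul_eq_mul]

theorem sum_outside (he : D.e + 1 = p) (hx : x ∈ (D.P : Subgroup G)) (hx1 : x ≠ 1)
    {χ : IrrCharacter G} (hχ : χ ∉ Lst.B D) : ∑ w : W.W, (χ : G → ℂ) (x * (w : G)) = 0 := by
  classical
  set F : IrrCharacter G → ℂ := fun χ => ∑ w : W.W, (χ : G → ℂ) (x * (w : G))
  obtain ⟨hX, hY⟩ := W.sum_principal hpc hx hx1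
  have hY1 : D.S.Y = {D.S.θ} := by
    refine (Finset.eq_singleton_iff_unique_mem.2 ⟨D.S.θ_mem, fun y hy => ?_⟩)
    obtain ⟨w, hw⟩ := Finset.card_eq_one.1 (show D.S.Y.card = 1 by
      rw [D.S.card_Y, show p - 1 = D.e by omega, Nat.div_self D.S.e_pos])
    have := D.S.θ_mem
    rw [hw, Finset.mem_singleton] at this hy
    rw [hy, this]
  rw [hY1, Finset.sum_singleton] at hY
  have hsq : ∀ m : ℤ, m = 1 ∨ m = -1 →
      ((D.c : ℂ) * (m : ℂ)) * conj ((D.c : ℂ) * (m : ℂ)) = ((D.c * D.c : ℕ) : ℂ) := by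
    rintro m (rfl | rfl) <;> simp
  have hin : ∑ ψ ∈ Lst.B D, F ψ * conj (F ψ) = (p * D.c * D.c : ℕ) := by
    rw [Lst.B, Finset.sum_union D.S.disj, hY1, Finset.sum_singleton,
      Finset.sum_congr rfl fun ψ h => by rw [show F ψ = _ from hX ψ h, hsq _ (D.S.sign ψ (D.S.mem_Z.2 (Or.inr h)))],
      show F D.S.θ = _ from hY, hsq _ D.sign_θ, Finset.sum_const, D.S.card_X, nsmul_eq_mul]
    have hp' : (D.e : ℂ) + 1 = (p : ℂ) := by exact_mod_cast he
    push_cast
    rw [← hp']
    ring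
  have hall := W.sum_sq hpc hx hx1
  change ∑ ψ, F ψ * conj (F ψ) = _ at hall
  have hre : ∀ ψ, F ψ * conj (F ψ) = ((‖F ψ‖ ^ 2 : ℝ) : ℂ) := fun ψ => by
    rw [Complex.mul_conj']; push_cast; rfl
  rw [← Finset.sum_add_sum_compl (Lst.B D), hin, add_eq_left,
    Finset.sum_congr rfl fun ψ _ => hre ψ, ← Complex.ofReal_sum, Complex.ofReal_eq_zero,
    Finset.sum_eq_zero_iff_of_nonneg fun ψ _ => sq_nonneg _] at hall
  exact norm_eq_zero.1 (pow_eq_zero_iff two_ne_zero |>.1 (hall χ (Finset.mem_compl.2 hχ)))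

theorem pairs_mul (hp2 : p ≠ 2) (hx : x ∈ (D.P : Subgroup G)) (hx1 : x ≠ 1) (hz : z ^ 2 = 1) :
    p * (∑ w : W.W, (open Classical in (Char.classFinset z ×ˢ Char.classFinset z).filter
      fun q => q.1 * q.2 = x * (w : G)).card) = (inverters x z).card ^ 2 := by
  classical
  set S : Finset ((G × (Σ _ : W.W, G × G))) := (Finset.univ.filter (· ∈ (D.P : Subgroup G))) ×ˢ
    (Finset.univ.sigma fun w : W.W => (Char.classFinset z ×ˢ Char.classFinset z).filter
      fun q => q.1 * q.2 = x * (w : G)) with hS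
  have hScard : S.card = p * ∑ w : W.W, ((Char.classFinset z ×ˢ Char.classFinset z).filter
      fun q => q.1 * q.2 = x * (w : G)).card := by
    rw [hS, Finset.card_product, Finset.card_sigma, ← Fintype.card_subtype,
      ← Nat.card_eq_fintype_card, D.S.card_P]
  rw [← hScard, pow_two, ← Finset.card_product]
  have hinv : ∀ {a b : G} (w : W.W), IsConj z a → IsConj z b → a * b = x * (w : G) →
      a ∈ inverters x z ∧ b ∈ inverters x z := by
    intro a b w ha hb hab
    have haa := sq_eq_one_of_isConj hz ha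
    have hbb := sq_eq_one_of_isConj hz hb
    have key : ∀ g : G, g * (x * (w : G)) * g⁻¹ = (x * (w : G))⁻¹ → g * x * g⁻¹ = x⁻¹ := by
      intro g hg
      have hcw : Commute x (w : G) := Subgroup.mem_centralizer_iff.1 (W.le w.2) x hx
      have h := congrArg (· ^ D.c) hg
      simp only [conj_pow, inv_pow, hcw.mul_pow, W.pow_c w.2, mul_one] at h
      obtain ⟨k, hk⟩ := exists_pow_eq_self_of_coprime (x := x) (n := D.c) (by
        rw [D.orderOf_eq hx hx1]
        exact ((Fact.out : p.Prime).coprime_iff_not_dvd.2 hpc).symm)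
      rw [← hk, ← conj_pow, h, inv_pow]
    refine ⟨mem_inverters.2 ⟨ha, key a ?_⟩, mem_inverters.2 ⟨hb, key b ?_⟩⟩
    · rw [← hab, mul_inv_rev, inv_eq_self haa, inv_eq_self hbb, ← mul_assoc, ← pow_two, haa, one_mul]
    · rw [← hab, mul_inv_rev, inv_eq_self haa, inv_eq_self hbb]
      calc b * (a * b) * b = b * a * (b ^ 2) := by rw [pow_two]; group
        _ = b * a := by rw [hbb, mul_one]
  refine Finset.card_bij (fun s _ => (s.2.2.1, s.2.2.2 * s.1)) ?_ ?_ ?_
  · rintro ⟨v, w, a, b⟩ hs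
    simp only [hS, Finset.mem_product, Finset.mem_filter, Finset.mem_univ, true_and,
      Finset.mem_sigma, Char.mem_classFinset] at hs
    obtain ⟨hv, ⟨ha, hb⟩, hab⟩ := hs
    obtain ⟨h1, h2⟩ := hinv w ha hb hab
    exact Finset.mem_product.2 ⟨h1, D.inverters_mul hp2 hx hx1 h2 hv⟩
  · rintro ⟨v, w, a, b⟩ hs ⟨v', w', a', b'⟩ hs' e
    simp only [hS, Finset.mem_product, Finset.mem_filter, Finset.mem_univ, true_and,
      Finset.mem_sigma, Char.mem_classFinset] at hs hs'
    simp only [Prod.mk.injEq] at e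
    obtain ⟨rfl, e⟩ := e
    have h2 : x * (w : G) * v = x * (w' : G) * v' := by
      rw [← hs.2.2, ← hs'.2.2, mul_assoc, mul_assoc, e]
    have hwv : v * (w : G) = v' * (w' : G) := by
      rw [Subgroup.mem_centralizer_iff.1 (W.le w.2) v hs.1,
        Subgroup.mem_centralizer_iff.1 (W.le w'.2) v' hs'.1]
      rw [mul_assoc, mul_assoc] at h2
      exact mul_left_cancel h2
    obtain ⟨rfl, hw⟩ := W.eq_of_mul_eq hs.1 hs'.1 w.2 w'.2 hwv
    obtain rfl : w = w' := Subtype.ext hw
    rw [mul_right_cancel e]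
  · rintro ⟨a, b⟩ hab
    obtain ⟨(ha : a ∈ inverters x z), (hb : b ∈ inverters x z)⟩ := Finset.mem_product.1 hab
    have haa := sq_eq_one_of_isConj hz (mem_inverters.1 ha).1
    obtain ⟨v, hv, w, hw, hvw⟩ := W.factor (a⁻¹ * b) (D.quot_mem_C hx hx1 ha hb)
    have hu : x⁻¹ * v ∈ (D.P : Subgroup G) := mul_mem (inv_mem hx) hv
    refine ⟨(x⁻¹ * v, ⟨⟨w, hw⟩, a, b * (x⁻¹ * v)⁻¹⟩), ?_, Prod.ext rfl (inv_mul_cancel_right _ _)⟩
    simp only [hS, Finset.mem_product, Finset.mem_filter, Finset.mem_univ, true_and,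
      Finset.mem_sigma, Char.mem_classFinset]
    refine ⟨hu, ⟨(mem_inverters.1 ha).1,
      (mem_inverters.1 (D.inverters_mul hp2 hx hx1 hb (inv_mem hu))).1⟩, ?_⟩
    have hc : v * w = w * v := Subgroup.mem_centralizer_iff.1 (W.le hw) v hv
    have hcx : x * w = w * x := Subgroup.mem_centralizer_iff.1 (W.le hw) x hx
    rw [inv_eq_self haa] at hvw
    calc a * (b * (x⁻¹ * v)⁻¹) = (a * b) * v⁻¹ * x := by group
      _ = (w * v) * v⁻¹ * x := by rw [hvw, hc]
      _ = x * w := by rw [hcx]; group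

theorem inverters_card (hp2 : p ≠ 2) (hx : x ∈ (D.P : Subgroup G)) (hx1 : x ≠ 1) :
    ∃ m, m ≤ D.c ∧ (inverters x z).card = p * m := by
  classical
  rcases (inverters x z).eq_empty_or_nonempty with he | ⟨a, ha⟩
  · exact ⟨0, Nat.zero_le _, by simp [he]⟩
  set J := Finset.univ.filter fun w : W.W => a * (w : G) ∈ inverters x z with hJ
  refine ⟨J.card, ?_, ?_⟩
  · refine (Finset.card_le_univ _).trans (le_of_eq ?_)
    rw [← Nat.card_eq_fintype_card, W.card_W]
  · have hP : (Finset.univ.filter (· ∈ (D.P : Subgroup G))).card = p := by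
      rw [← Fintype.card_subtype, ← Nat.card_eq_fintype_card, D.S.card_P]
    rw [show p * J.card = ((Finset.univ.filter (· ∈ (D.P : Subgroup G))) ×ˢ J).card by
      rw [Finset.card_product, hP]]
    refine (Finset.card_bij (fun q _ => a * (q.2 : G) * q.1) ?_ ?_ ?_).symm
    · intro q hq
      simp only [Finset.mem_product, Finset.mem_filter, Finset.mem_univ, true_and, hJ] at hq
      exact D.inverters_mul hp2 hx hx1 hq.2 hq.1
    · intro q hq r hr e
      simp only [Finset.mem_product, Finset.mem_filter, Finset.mem_univ, true_and, hJ] at hq hr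
      rw [mul_assoc, mul_assoc] at e
      have e' := mul_left_cancel e
      rw [← Subgroup.mem_centralizer_iff.1 (W.le q.2.2) q.1 hq.1,
        ← Subgroup.mem_centralizer_iff.1 (W.le r.2.2) r.1 hr.1] at e'
      obtain ⟨h1, h2⟩ := W.eq_of_mul_eq hq.1 hr.1 q.2.2 r.2.2 e'
      exact Prod.ext h1 (Subtype.ext h2)
    · intro b hb
      obtain ⟨v, hv, w, hw, hvw⟩ := W.factor (a⁻¹ * b) (D.quot_mem_C hx hx1 ha hb)
      have hc : v * w = w * v := Subgroup.mem_centralizer_iff.1 (W.le hw) v hv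
      have hb' : b = a * w * v := by rw [mul_assoc, ← hc, ← hvw]; group
      refine ⟨(v, ⟨w, hw⟩), ?_, hb'.symm⟩
      simp only [Finset.mem_product, Finset.mem_filter, Finset.mem_univ, true_and, hJ]
      refine ⟨hv, ?_⟩
      have := D.inverters_mul hp2 hx hx1 hb (inv_mem hv)
      rwa [hb', mul_inv_cancel_right] at this

end Compl

/-- The count when every member of the family is non-exceptional. -/
theorem frac_full (hp2 : p ≠ 2) (hpc : ¬ p ∣ D.c) (he : D.e + 1 = p) (hz : orderOf z = 2) :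
    ∃ m, m ≤ D.c ∧ (p * m * m : ℕ) * (Nat.card (Subgroup.centralizer ({z} : Set G)) : ℂ) ^ 2 =
      (Nat.card G : ℂ) * (D.c : ℂ) * Lst.T D z := by
  classical
  obtain ⟨x, hx, hx1⟩ := D.exists_x
  obtain ⟨W⟩ := D.exists_compl hpc
  have hz2 : z ^ 2 = 1 := hz ▸ pow_orderOf_eq_one z
  have hzp := not_dvd_orderOf (G := G) Fact.out hp2 hz
  obtain ⟨m, hm, hcard⟩ := W.inverters_card hpc (z := z) hp2 hx hx1
  refine ⟨m, hm, ?_⟩
  set N := ∑ w : W.W, ((Char.classFinset z ×ˢ Char.classFinset z).filter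
      fun q => q.1 * q.2 = x * (w : G)).card with hN
  have hNm : N = p * m * m := by
    have h := W.pairs_mul hpc hp2 hx hx1 hz2
    rw [hcard] at h
    refine Nat.eq_of_mul_eq_mul_left (Fact.out : p.Prime).pos ?_
    rw [hN, h]
    ring
  have hcl : ((Char.classFinset z).card : ℂ) *
      (Nat.card (Subgroup.centralizer ({z} : Set G)) : ℂ) = (Nat.card G : ℂ) := by
    rw [Char.card_classFinset, ← Nat.cast_mul, mul_comm, Subgroup.card_mul_index]
  obtain ⟨hX, hY⟩ := W.sum_principal hpc hx hx1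
  set F : IrrCharacter G → ℂ := fun χ => ∑ w : W.W, (χ : G → ℂ) (x * (w : G)) with hF
  have hG : (Nat.card G : ℂ) ≠ 0 := Nat.cast_ne_zero.2 Nat.card_pos.ne'
  have hsum : ∑ χ : IrrCharacter G,
      (χ : G → ℂ) z * (χ : G → ℂ) z * conj (F χ) / (χ : G → ℂ) 1 = (D.c : ℂ) * Lst.T D z := by
    rw [← Finset.sum_subset (Finset.subset_univ (Lst.B D)) fun χ _ hχ => by
      rw [show F χ = 0 from W.sum_outside hpc he hx hx1 hχ, map_zero, mul_zero, zero_div],
      Lst.B, Finset.sum_union D.S.disj]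
    have hone : ¬ p ∣ orderOf (1 : G) := by
      rw [orderOf_one]; exact (Fact.out : p.Prime).not_dvd_one
    rw [Finset.sum_congr (rfl : D.S.Y = D.S.Y) fun θ' h => by
      rw [D.S.agree θ' h z hzp, D.S.agree θ' h 1 hone], ← Finset.sum_div, ← Finset.mul_sum,
      show ∑ θ' ∈ D.S.Y, conj (F θ') = conj ((D.c : ℂ) * (D.S.σ D.S.θ : ℂ)) by
        rw [← map_sum]; exact congrArg conj hY,
      Lst.T, D.sum_Z, mul_add, Finset.mul_sum, add_comm]
    congr 1
    · rw [cast_intVal _ hz2, MEleven.apply_one, map_mul, map_natCast, map_intCast]; ring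
    · refine Finset.sum_congr rfl fun χ h => ?_
      rw [show F χ = _ from hX χ h, cast_intVal _ hz2, MEleven.apply_one, map_mul, map_natCast,
        map_intCast]
      ring
  have hkey : (N : ℂ) = ((Char.classFinset z).card : ℂ) * (Char.classFinset z).card /
      (Nat.card G : ℂ) * ((D.c : ℂ) * Lst.T D z) := by
    rw [hN, Nat.cast_sum, Finset.sum_congr rfl fun (w : W.W) _ => Char.card_class_product z z _,
      ← Finset.mul_sum, Finset.sum_comm, ← hsum]
    congr 1
    refine Finset.sum_congr rfl fun χ _ => ?_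
    rw [hF, map_sum, Finset.mul_sum, Finset.sum_div]
  rw [← hNm, hkey]
  field_simp
  linear_combination ((D.c : ℂ) * Lst.T D z) *
    (((Char.classFinset z).card : ℂ) * (Nat.card (Subgroup.centralizer ({z} : Set G)) : ℂ) +
      (Nat.card G : ℂ)) * hcl

end Dat

end Cfsg.Lib.MTwentyTwo
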