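import Cfsg.Agent.Lib.MTwentyTwo.Defs
import Mathlib

/-!
# The block search for a simple group of order 443520: completeness of the list functions
-/

set_option autoImplicit false

namespace Cfsg.Lib.MTwentyTwo

@[simp] theorem withNat_eq {α : Type} (n : ℕ) (k : ℕ → α) : withNat n k = k n := by cases n <;> rfl

@[simp] theorem withInt_eq {α : Type} (n : ℤ) (k : ℤ → α) : withInt n k = k n := by
  cases n <;> simp [withInt]

@[simp] theorem normList_eq (l : List ℤ) : normList l = l := by
  induction l <;> simp [normList, *]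

/-- Divisors of a prime power. -/
def powDivs (p k : ℕ) : List ℕ := (List.range (k + 1)).map fun i => p ^ i

theorem mem_powDivs {p k d : ℕ} (hp : p.Prime) (h : d ∣ p ^ k) : d ∈ powDivs p k := by
  obtain ⟨i, hi, rfl⟩ := (Nat.dvd_prime_pow hp).1 h
  exact List.mem_map.2 ⟨i, List.mem_range.2 (Nat.lt_succ_of_le hi), rfl⟩

theorem divList_check : (((powDivs 2 7).flatMap fun a => (powDivs 3 2).flatMap fun b =>
    (powDivs 5 1).flatMap fun c => (powDivs 7 1).flatMap fun e => (powDivs 11 1).map fun f =>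
      a * (b * (c * (e * f)))).all fun d => divList.contains d) = true := by
  decide +kernel

theorem mem_divList {d : ℕ} (h : d ∣ ord) : d ∈ divList := by
  rw [show ord = 2 ^ 7 * (3 ^ 2 * (5 ^ 1 * (7 ^ 1 * 11 ^ 1))) from rfl] at h
  obtain ⟨a, x, ha, hx, rfl⟩ := Nat.dvd_mul.1 h
  obtain ⟨b, y, hb, hy, rfl⟩ := Nat.dvd_mul.1 hx
  obtain ⟨c, z, hc, hz, rfl⟩ := Nat.dvd_mul.1 hy
  obtain ⟨e, f, he, hf, rfl⟩ := Nat.dvd_mul.1 hz
  have := List.all_eq_true.1 divList_check (a * (b * (c * (e * f)))) (by
    simp only [List.mem_flatMap, List.mem_map]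
    exact ⟨a, mem_powDivs Nat.prime_two ha, b, mem_powDivs Nat.prime_three hb,
      c, mem_powDivs Nat.prime_five hc, e, mem_powDivs (by norm_num) he,
      f, mem_powDivs (by norm_num) hf, rfl⟩)
  simpa using this

/-- A signed degree as a slot of a single character. -/
def single (x : ℤ × ℕ) : Slot := ⟨x.1, x.2, 1⟩

theorem msums_complete : ∀ (X : List (ℤ × ℕ)) (r : ℕ) (need : ℤ) (q : ℕ) (s : List (ℤ × ℕ)),
    X.Pairwise (fun a b => b.2 ≤ a.2) → (∀ x ∈ X, x.1 = 1 ∨ x.1 = -1) → (∀ x ∈ s, x ∈ X) →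
    s.length = r → need + (s.map fun x => x.1 * (x.2 : ℤ)).sum = 0 →
    (s.map fun x => x.2 * x.2).sum ≤ q → ∃ o ∈ msums X r need q, o.Perm (s.map single)
  | [], r, need, q, s, _, _, hs, hl, hn, _ => by
    have : s = [] := List.eq_nil_iff_forall_not_mem.2 fun x hx => List.not_mem_nil (hs x hx)
    subst this
    simp only [List.length_nil] at hl
    simp only [List.map_nil, List.sum_nil, add_zero] at hn
    exact ⟨[], by simp [msums, ← hl, hn], by simp⟩
  | (a, d) :: X, r, need, q, s, hX, hsg, hs, hl, hn, hq => by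
    classical
    simp only [msums]
    rcases Nat.eq_zero_or_pos r with hr | hr
    · subst hr
      obtain rfl := List.length_eq_zero_iff.1 hl
      simp only [List.map_nil, List.sum_nil, add_zero] at hn
      exact ⟨[], by simp [hn], by simp⟩
    rw [if_neg hr.ne']
    have hbound : need.natAbs ≤ r * d := by
      have hall : ∀ x ∈ s, (x.1 * (x.2 : ℤ)).natAbs ≤ d := fun x hx => by
        have h1 : x.2 ≤ d := by
          rcases List.mem_cons.1 (hs x hx) with e | e
          · rw [e]
          · exact (List.pairwise_cons.1 hX).1 x e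
        rcases hsg x (hs x hx) with e | e <;> rw [e] <;> simpa using h1
      have key : ∀ t : List (ℤ × ℕ), (∀ x ∈ t, (x.1 * (x.2 : ℤ)).natAbs ≤ d) →
          ((t.map fun x => x.1 * (x.2 : ℤ)).sum).natAbs ≤ t.length * d := by
        intro t ht
        induction t with
        | nil => simp
        | cons x t ih =>
          have := ih fun y hy => ht y (List.mem_cons_of_mem _ hy)
          have := ht x List.mem_cons_self
          simp only [List.map_cons, List.sum_cons, List.length_cons, add_mul, one_mul]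
          have := Int.natAbs_add_le (x.1 * (x.2 : ℤ)) (t.map fun x => x.1 * (x.2 : ℤ)).sum
          omega
      have := key s hall
      rw [hl] at this
      have e : need = -(s.map fun x => x.1 * (x.2 : ℤ)).sum := by omega
      rw [e, Int.natAbs_neg]
      exact this
    rw [if_pos hbound]
    obtain ⟨rest, j, hperm, hrest, hj⟩ : ∃ (rest : List (ℤ × ℕ)) (j : ℕ),
        s.Perm (List.replicate j (a, d) ++ rest) ∧ (∀ x ∈ rest, x ∈ X) ∧ j + rest.length = r := by
      refine ⟨s.filter (fun x => !decide (x = (a, d))), (s.filter (fun x => decide (x = (a, d)))).length,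
        ?_, ?_, ?_⟩
      · have h1 : s.filter (fun x => decide (x = (a, d))) =
            List.replicate (s.filter (fun x => decide (x = (a, d)))).length (a, d) :=
          List.eq_replicate_of_mem fun x hx => by simpa using (List.mem_filter.1 hx).2
        rw [← h1]
        exact (List.filter_append_perm _ s).symm
      · intro x hx
        obtain ⟨h1, h2⟩ := List.mem_filter.1 hx
        rcases List.mem_cons.1 (hs x h1) with e | e
        · simp [e] at h2
        · exact e
      · rw [← hl, ← (List.filter_append_perm (fun x => decide (x = (a, d))) s).length_eq,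
          List.length_append]
    have e1 := (hperm.map fun x => x.1 * (x.2 : ℤ)).sum_eq
    have e2 := (hperm.map fun x => x.2 * x.2).sum_eq
    simp only [List.map_append, List.map_replicate, List.sum_append, List.sum_replicate,
      smul_eq_mul, nsmul_eq_mul] at e1 e2
    rw [e1] at hn
    rw [e2] at hq
    have hjd : j * d * d ≤ q := by rw [mul_assoc]; omega
    obtain ⟨o, ho, hoe⟩ := msums_complete X (r - j) (need + j * a * d) (q - j * d * d) rest
      (List.pairwise_cons.1 hX).2 (fun x hx => hsg x (List.mem_cons_of_mem _ hx)) hrest (by omega)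
      (by rw [← hn]; ring)
      (by rw [mul_assoc] at hjd ⊢; omega)
    refine ⟨List.replicate j ⟨a, d, 1⟩ ++ o, ?_, ?_⟩
    · refine List.mem_flatMap.2 ⟨j, List.mem_range.2 (by omega), ?_⟩
      rw [if_pos hjd]
      exact List.mem_map.2 ⟨o, ho, rfl⟩
    · refine List.Perm.trans ?_ (hperm.map single).symm
      rw [List.map_append, List.map_replicate]
      exact hoe.append_left _

theorem mem_dom {d m C : ℕ} {v : ℤ} (hd : d ≠ 1) (hm : 1 ≤ m) (hC : C ≤ 40320)
    (hlt : v.natAbs < d) (hdvd : ((qof d C : ℕ) : ℤ) ∣ v) (h4 : (v - d) % 4 = 0)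
    (hsq : (m : ℤ) * v * v ≤ C) : v ∈ dom d m C := by
  simp only [dom, if_neg hd, withNat_eq, normList_eq, List.mem_filter, List.mem_map]
  obtain ⟨u, rfl⟩ := hdvd
  set q := qof d C with hq
  refine ⟨?_, by simp [h4, hsq]⟩
  have hq0 : 0 < q := by
    rw [hq, qof]
    have hd0 : 0 < d := by omega
    exact Nat.div_pos (Nat.le_of_dvd hd0 (Nat.gcd_dvd_left _ _)) (Nat.gcd_pos_of_pos_left _ hd0)
  have h201 : ((q : ℤ) * u).natAbs ≤ 201 := by
    by_contra hgt
    push Not at hgt
    have h1 : (202 : ℤ) * 202 ≤ ((q : ℤ) * u) * ((q : ℤ) * u) := by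
      have h0 := Int.natAbs_mul_self (a := (q : ℤ) * u)
      have h202 : (202 : ℤ) ≤ (((q : ℤ) * u).natAbs : ℤ) := by exact_mod_cast hgt
      have := mul_le_mul h202 h202 (by norm_num) (Int.natCast_nonneg _)
      rw [Nat.cast_mul] at h0
      linarith
    have h2 : ((q : ℤ) * u) * ((q : ℤ) * u) ≤ (m : ℤ) * ((q : ℤ) * u) * ((q : ℤ) * u) := by
      rw [mul_assoc (m : ℤ)]
      exact le_mul_of_one_le_left (mul_self_nonneg _) (by exact_mod_cast hm)
    have h3 : (C : ℤ) ≤ 40320 := by exact_mod_cast hC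
    linarith
  have hk : u.natAbs ≤ min (d - 1) 201 / q := by
    rw [Nat.le_div_iff_mul_le hq0]
    rw [Int.natAbs_mul, Int.natAbs_natCast] at h201 hlt
    rw [Nat.mul_comm]
    omega
  generalize hK : min (d - 1) 201 / q = k at hk ⊢
  refine ⟨(u + (k : ℤ)).toNat, List.mem_range.2 (by omega), ?_⟩
  rw [Int.toNat_of_nonneg (show 0 ≤ u + (k : ℤ) by omega), add_sub_cancel_right, mul_comm]

/-- The signed weighted square sum. -/
def qSum (L : ℕ) : List Slot → List ℤ → ℤ
  | x :: l, v :: vs => x.s * v * v * (L / x.d : ℕ) + qSum L l vs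
  | _, _ => 0

/-- The signed sum. -/
def linSum : List Slot → List ℤ → ℤ
  | x :: l, v :: vs => x.s * v + linSum l vs
  | _, _ => 0

theorem valSq_nonneg : ∀ (l : List Slot) (vs : List ℤ), 0 ≤ valSq l vs
  | [], _ => le_rfl
  | _ :: _, [] => le_rfl
  | x :: l, v :: vs => by
    have h1 := valSq_nonneg l vs
    have h2 : 0 ≤ (x.m : ℤ) * v * v := by
      rw [mul_assoc]; exact mul_nonneg (Int.natCast_nonneg _) (mul_self_nonneg _)
    simp only [valSq]; omega

theorem topWeight_cons (z : Prep) (l : List Prep) : topWeight (z :: l) = (z.wp, z.wn) := rfl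

theorem prep_bounds (L C : ℕ) : ∀ (l : List Slot) (vs : List ℤ),
    (∀ x ∈ l, x.s = 1 ∨ x.s = -1) → (∀ x ∈ l, 1 ≤ x.m) →
    qSum L l vs ≤ ((topWeight (prep L C l)).1 : ℤ) * valSq l vs ∧
      -(((topWeight (prep L C l)).2 : ℤ) * valSq l vs) ≤ qSum L l vs
  | [], vs, _, _ => by simp [qSum, valSq]
  | x :: l, [], _, _ => by simp [qSum, valSq]
  | x :: l, v :: vs, hs, hm => by
    obtain ⟨ih1, ih2⟩ := prep_bounds L C l vs (fun y hy => hs y (List.mem_cons_of_mem _ hy))
      (fun y hy => hm y (List.mem_cons_of_mem _ hy))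
    simp only [prep, withNat_eq, qSum, valSq, topWeight_cons]
    set P := (topWeight (prep L C l)).1
    set N := (topWeight (prep L C l)).2
    set w := L / x.d
    have hn := valSq_nonneg l vs
    have hvv : 0 ≤ v * v := mul_self_nonneg v
    have hm1 : (1 : ℤ) ≤ x.m := by exact_mod_cast hm x List.mem_cons_self
    have hw : (0 : ℤ) ≤ w := Int.natCast_nonneg _
    rcases hs x List.mem_cons_self with e | e
    · rw [e, if_pos rfl, if_neg (by norm_num : ¬(1 : ℤ) = -1)]
      have h1 : (w : ℤ) ≤ (max w P : ℕ) := by exact_mod_cast le_max_left _ _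
      have h2 : (P : ℤ) ≤ (max w P : ℕ) := by exact_mod_cast le_max_right _ _
      have h3 := mul_le_mul_of_nonneg_right h2 hn
      have h4 := mul_le_mul_of_nonneg_left hm1 (mul_nonneg (Int.natCast_nonneg (max w P)) hvv)
      have h5 := mul_le_mul_of_nonneg_right h1 hvv
      have h6 : 0 ≤ v * v * (w : ℤ) := mul_nonneg hvv hw
      have h7 : 0 ≤ (N : ℤ) * ((x.m : ℤ) * v * v) :=
        mul_nonneg (Int.natCast_nonneg _) (by rw [mul_assoc]; exact mul_nonneg (by linarith) hvv)
      constructor <;> linarith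
    · rw [e, if_neg (by norm_num : ¬(-1 : ℤ) = 1), if_pos rfl]
      have h1 : (w : ℤ) ≤ (max w N : ℕ) := by exact_mod_cast le_max_left _ _
      have h2 : (N : ℤ) ≤ (max w N : ℕ) := by exact_mod_cast le_max_right _ _
      have h3 := mul_le_mul_of_nonneg_right h2 hn
      have h4 := mul_le_mul_of_nonneg_left hm1 (mul_nonneg (Int.natCast_nonneg (max w N)) hvv)
      have h5 := mul_le_mul_of_nonneg_right h1 hvv
      have h6 : 0 ≤ v * v * (w : ℤ) := mul_nonneg hvv hw
      have h7 : 0 ≤ (P : ℤ) * ((x.m : ℤ) * v * v) :=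
        mul_nonneg (Int.natCast_nonneg _) (by rw [mul_assoc]; exact mul_nonneg (by linarith) hvv)
      constructor <;> linarith

theorem colsRec_complete (L C : ℕ) : ∀ (l : List Slot) (vs : List ℤ) (lin ss qd : ℤ),
    (∀ x ∈ l, x.s = 1 ∨ x.s = -1) → (∀ x ∈ l, 1 ≤ x.m) →
    List.Forall₂ (fun x v => v ∈ dom x.d x.m C) l vs →
    lin + linSum l vs = 0 → qd + qSum L l vs = 0 → ss + valSq l vs ≤ C →
    vs ∈ colsRec C (prep L C l) lin ss qd
  | [], _, lin, ss, qd, _, _, hd, h1, h2, _ => by
    cases hd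
    simp only [linSum, qSum, add_zero] at h1 h2
    simp [prep, colsRec, h1, h2]
  | [x], _, lin, ss, qd, hs, _, hd, h1, h2, h3 => by
    rcases hd with _ | ⟨hv, hrest⟩
    cases hrest
    rename_i v
    simp only [linSum, qSum, valSq, add_zero] at h1 h2 h3
    have hve : -lin * x.s = v := by
      rcases hs x List.mem_cons_self with e | e <;> rw [e] at h1 ⊢ <;> linarith
    simp only [prep, withNat_eq, colsRec, withInt_eq, hve]
    rw [if_pos ⟨h2, h3, hv⟩]
    exact List.mem_singleton.2 rfl
  | x :: y :: l, _, lin, ss, qd, hs, hm, hd, h1, h2, h3 => by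
    have hb := fun vs => prep_bounds L C (x :: y :: l) vs hs hm
    rcases hd with _ | ⟨hv, hrest⟩
    rename_i v vs
    obtain ⟨hb1, hb2⟩ := hb (v :: vs)
    have hsq' := valSq_nonneg (y :: l) vs
    have hP := mul_le_mul_of_nonneg_left
      (show valSq (x :: y :: l) (v :: vs) ≤ (C : ℤ) - ss by linarith)
      (Int.natCast_nonneg (topWeight (prep L C (x :: y :: l))).1)
    have hN := mul_le_mul_of_nonneg_left
      (show valSq (x :: y :: l) (v :: vs) ≤ (C : ℤ) - ss by linarith)
      (Int.natCast_nonneg (topWeight (prep L C (x :: y :: l))).2)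
    have hcond : 0 ≤ qd + ((C : ℤ) - ss) * (topWeight (prep L C (x :: y :: l))).1 ∧
        qd - ((C : ℤ) - ss) * (topWeight (prep L C (x :: y :: l))).2 ≤ 0 := by
      constructor <;> linarith
    simp only [prep, withNat_eq, topWeight_cons] at hcond
    simp only [prep, withNat_eq, topWeight_cons, colsRec, withInt_eq]
    rw [if_pos hcond]
    refine List.mem_flatMap.2 ⟨v, hv, ?_⟩
    have h3' : ss + (x.m : ℤ) * v * v ≤ C := by simp only [valSq] at h3; linarith
    rw [if_pos h3']
    refine List.mem_map.2 ⟨vs, ?_, rfl⟩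
    have ih := colsRec_complete L C (y :: l) vs (lin + x.s * v) (ss + (x.m : ℤ) * v * v)
      (qd + x.s * v * v * (L / x.d : ℕ)) (fun z hz => hs z (List.mem_cons_of_mem _ hz))
      (fun z hz => hm z (List.mem_cons_of_mem _ hz)) hrest
      (by simp only [linSum] at h1 ⊢; linarith) (by simp only [qSum] at h2 ⊢; linarith)
      (by simp only [valSq] at h3 ⊢; linarith)
    simpa only [prep, withNat_eq, topWeight_cons] using ih

theorem cols_complete {cfg : List Slot} {C : ℕ} {vs : List ℤ}
    (hs : ∀ x ∈ cfg, x.s = 1 ∨ x.s = -1) (hm : ∀ x ∈ cfg, 1 ≤ x.m)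
    (hd : List.Forall₂ (fun x v => v ∈ dom x.d x.m C) cfg vs) (hlin : linSum cfg vs = 0)
    (hq : qSum (degLcm cfg) cfg vs = 0) (hsq : valSq cfg vs ≤ C) : vs ∈ cols cfg C := by
  simp only [cols, withNat_eq]
  exact colsRec_complete _ C cfg vs 0 0 0 hs hm hd (by rw [zero_add]; exact hlin)
    (by rw [zero_add]; exact hq) (by rw [zero_add]; exact hsq)

theorem dvd_degLcm : ∀ {l : List Slot} {x : Slot}, x ∈ l → x.d ∣ degLcm l
  | y :: l, x, h => by
    rcases List.mem_cons.1 h with rfl | h
    · exact Nat.dvd_lcm_left _ _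
    · exact (dvd_degLcm h).trans (Nat.dvd_lcm_right _ _)

/-- The new squares of a value list. -/
def addSq : List Cell → List ℤ → ℤ
  | z :: l, v :: vs => (if z.add then (z.x.m : ℤ) * v * v else 0) + addSq l vs
  | _, _ => 0

theorem addSq_nonneg : ∀ (l : List Cell) (vs : List ℤ), 0 ≤ addSq l vs
  | [], _ => le_rfl
  | _ :: _, [] => le_rfl
  | z :: l, v :: vs => by
    have h1 := addSq_nonneg l vs
    have h2 : 0 ≤ (z.x.m : ℤ) * v * v := by
      rw [mul_assoc]; exact mul_nonneg (Int.natCast_nonneg _) (mul_self_nonneg _)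
    simp only [addSq]; split_ifs <;> omega

theorem search_complete (C : ℕ) (done : List ℤ → ℤ → Bool) : ∀ (cells : List Cell) (vs : List ℤ)
    (lin ss : ℤ) (acc : List ℤ), List.Forall₂ (fun z v => v ∈ z.cand) cells vs →
    lin + linSum (cells.map Cell.x) vs = 0 → ss + addSq cells vs ≤ C →
    done (acc.reverse ++ vs) (ss + addSq cells vs) = true →
    search C done cells lin ss acc = true
  | [], _, lin, ss, acc, hd, h1, _, h3 => by
    cases hd
    simp only [List.map_nil, linSum, addSq, add_zero, List.append_nil] at h1 h3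
    simp [search, h1, h3]
  | z :: l, _, lin, ss, acc, hd, h1, h2, h3 => by
    rcases hd with _ | ⟨hv, hrest⟩
    rename_i v vs
    simp only [List.map_cons, linSum, addSq] at h1 h2 h3
    simp only [search, withInt_eq, List.any_eq_true]
    refine ⟨v, hv, ?_⟩
    have hn := addSq_nonneg l vs
    simp only [Bool.and_eq_true]
    refine ⟨⟨?_, by simp only [decide_eq_true_eq]; omega⟩, ?_⟩
    · cases l with
      | nil => cases hrest; simp only [List.map_nil, linSum, add_zero] at h1; simp [h1]
      | cons => simp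
    · refine search_complete C done l vs _ _ _ hrest (by omega) (by omega) ?_
      rw [List.reverse_cons, List.append_assoc, List.singleton_append, add_assoc]
      exact h3

theorem frac_spec : ∀ (l : List Slot) (vs : List ℤ), (∀ x ∈ l, x.d ≠ 0) →
    (frac l vs).2 ≠ 0 ∧ ((frac l vs).1 : ℂ) = ((frac l vs).2 : ℂ) *
      (List.zipWith (fun (x : Slot) (v : ℤ) => (x.s : ℂ) * (v : ℂ) * (v : ℂ) / (x.d : ℂ)) l vs).sum
  | [], _, _ => by simp [frac]
  | x :: l, [], _ => by simp [frac]
  | x :: l, v :: vs, h => by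
    obtain ⟨ih1, ih2⟩ := frac_spec l vs fun y hy => h y (List.mem_cons_of_mem _ hy)
    have hd := h x List.mem_cons_self
    simp only [frac, List.zipWith_cons_cons, List.sum_cons]
    refine ⟨Nat.mul_ne_zero ih1 hd, ?_⟩
    have hdC : (x.d : ℂ) ≠ 0 := Nat.cast_ne_zero.2 hd
    push_cast
    rw [ih2]
    field_simp
    ring

theorem mem_valsOf : ∀ {l : List Slot} {vs : List ℤ} {x : Slot} {v : ℤ},
    (x, v) ∈ l.zip vs → v ∈ valsOf l vs x.d
  | y :: l, u :: us, x, v, h => by
    simp only [List.zip_cons_cons, List.mem_cons, Prod.mk.injEq] at h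
    simp only [valsOf]
    rcases h with ⟨rfl, rfl⟩ | h
    · simp
    · have := mem_valsOf h
      split_ifs with e
      · exact List.mem_cons_of_mem _ this
      · exact this

end Cfsg.Lib.MTwentyTwo
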