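import Cfsg.Prelude.Def_Sporadic
import Cfsg.Agent.Lib.MEleven.Basic
import Cfsg.Agent.Lib.Small.BlockOrders
import Cfsg.Agent.Lib.Small.SylowCount
import Cfsg.Agent.Lib.MTwentyTwo.Sound
import Cfsg.Agent.Lib.MTwentyTwo.Values

/-!
# A simple group of order 443520: subgroups and the principal families at 5, 7 and 11

The principal block at each of the primes 5, 7, 11 gives a signed family, whose degrees form one
of the lists `std p e c`.
-/

set_option autoImplicit false
set_option linter.style.haveILetI false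
set_option linter.unusedSectionVars false

namespace Cfsg.Lib.MTwentyTwo

open Cfsg Cfsg.Lib
open scoped ComplexConjugate

universe u

variable {G : Type u} [Group G] [Fintype G]

section Group

variable (hG : IsM22 G)
include hG

theorem card_G : Nat.card G = ord := hG.2

theorem not_cyclic : ¬ IsCyclic G := by
  haveI := hG.1
  exact Small.not_isCyclic_of_card (by rw [hG.2]; norm_num)

theorem perfect : commutator G = ⊤ := by
  haveI := hG.1
  exact Small.commutator_eq_top (not_cyclic hG)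

theorem eleven_le_index {H : Subgroup G} (hH : H ≠ ⊤) : 11 ≤ H.index := by
  haveI := hG.1
  by_contra h
  have := Small.index_dvd_factorial_le hH (b := 10) (by omega)
  rw [hG.2] at this
  norm_num [Nat.factorial] at this

theorem card_mul_eleven_le {H : Subgroup G} (hH : H ≠ ⊤) : Nat.card H * 11 ≤ ord := by
  have h := H.card_mul_index
  rw [card_G hG] at h
  rw [← h]
  exact Nat.mul_le_mul_left _ (eleven_le_index hG hH)

theorem center_eq_bot : Subgroup.center G = ⊥ := by
  haveI := hG.1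
  refine ((inferInstance : (Subgroup.center G).Normal).eq_bot_or_eq_top).resolve_right fun e => ?_
  apply not_cyclic hG
  let _ : CommGroup G := { (inferInstance : Group G) with
    mul_comm := fun a b => (Subgroup.mem_center_iff.mp (e ▸ Subgroup.mem_top b) a) }
  exact IsSimpleGroup.isCyclic

theorem centralizer_ne_top {z : G} (hz : z ≠ 1) : Subgroup.centralizer ({z} : Set G) ≠ ⊤ := by
  intro h
  apply hz
  rw [← Subgroup.mem_bot, ← center_eq_bot hG, Subgroup.mem_center_iff]
  intro g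
  exact Subgroup.mem_centralizer_singleton_iff.1 (h ▸ Subgroup.mem_top g)

theorem card_centralizer_le {z : G} (hz : z ≠ 1) :
    Nat.card (Subgroup.centralizer ({z} : Set G)) ≤ 40320 := by
  have := card_mul_eleven_le hG (centralizer_ne_top hG hz)
  rw [ord] at this
  omega

theorem card_centralizer_dvd (z : G) :
    Nat.card (Subgroup.centralizer ({z} : Set G)) ∣ ord :=
  card_G hG ▸ Subgroup.card_subgroup_dvd_card _

theorem card_sylow_two [Fact (Nat.Prime 2)] (S : Sylow 2 G) :
    Nat.card (S : Subgroup G) = 128 := by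
  rw [Small.card_sylow 7 3465 (by rw [hG.2]; norm_num) (by norm_num) S]; norm_num

theorem four_dvd_centralizer {z : G} (hz : orderOf z = 2) :
    4 ∣ Nat.card (Subgroup.centralizer ({z} : Set G)) := by
  classical
  haveI : Fact (Nat.Prime 2) := ⟨Nat.prime_two⟩
  obtain ⟨S, hS⟩ := (IsPGroup.of_card (G := ↥(Subgroup.zpowers z)) (p := 2) (n := 1)
    (by rw [Nat.card_zpowers, hz, pow_one])).exists_le_sylow
  haveI : Nontrivial (S : Subgroup G) := by
    rw [← Finite.one_lt_card_iff_nontrivial, card_sylow_two hG S]; norm_num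
  haveI : Nontrivial (Subgroup.center (S : Subgroup G)) := S.2.center_nontrivial
  have hzS : z ∈ (S : Subgroup G) := hS (Subgroup.mem_zpowers z)
  set H := Subgroup.centralizer ({z} : Set G) ⊓ (S : Subgroup G) with hH
  obtain ⟨k, -, hk⟩ : ∃ k, k ≤ 7 ∧ Nat.card H = 2 ^ k :=
    (Nat.dvd_prime_pow Nat.prime_two).1 (by
      have := Subgroup.card_dvd_of_le (inf_le_right : H ≤ (S : Subgroup G))
      rw [card_sylow_two hG S] at this
      rwa [show (2 : ℕ) ^ 7 = 128 from rfl])
  refine dvd_trans ?_ (Subgroup.card_dvd_of_le (inf_le_left : H ≤ _))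
  rw [hk]
  suffices 3 ≤ Nat.card H by
    have h2 : 2 ≤ k := by
      by_contra h
      have := Nat.pow_le_pow_right (show 1 ≤ 2 by norm_num) (show k ≤ 1 by omega)
      omega
    exact dvd_trans (show 4 ∣ 2 ^ 2 by norm_num) (Nat.pow_dvd_pow 2 h2)
  have hz1 : z ≠ 1 := fun e => by rw [e, orderOf_one] at hz; omega
  by_cases hc : ∀ s ∈ (S : Subgroup G), s * z = z * s
  · have hle : (S : Subgroup G) ≤ H :=
      le_inf (fun s hs => Subgroup.mem_centralizer_singleton_iff.2 (hc s hs)) le_rfl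
    have := Subgroup.card_le_of_le hle
    rw [card_sylow_two hG S] at this
    omega
  · obtain ⟨⟨⟨w, hwS⟩, hwc⟩, hw1⟩ := exists_ne (1 : Subgroup.center (S : Subgroup G))
    have hwz : w ≠ z := by
      rintro rfl
      exact hc fun s hs => congrArg Subtype.val (Subgroup.mem_center_iff.1 hwc ⟨s, hs⟩)
    have hw1' : w ≠ 1 := fun e => hw1 (Subtype.ext (Subtype.ext e))
    have hwH : w ∈ H := ⟨Subgroup.mem_centralizer_singleton_iff.2
      (congrArg Subtype.val (Subgroup.mem_center_iff.1 hwc ⟨z, hzS⟩)).symm, hwS⟩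
    have hzH : z ∈ H := ⟨Subgroup.mem_centralizer_singleton_iff.2 rfl, hzS⟩
    have hsub : ({1, w, z} : Finset G) ⊆ Finset.univ.filter (· ∈ H) := by
      intro g hg
      simp only [Finset.mem_insert, Finset.mem_singleton] at hg
      rcases hg with rfl | rfl | rfl <;> simp [hwH, hzH]
    have h3 := Finset.card_le_card hsub
    rw [Finset.card_insert_of_notMem (by simp [Ne.symm hw1', Ne.symm hz1]),
      Finset.card_pair hwz] at h3
    rw [Nat.card_eq_fintype_card, Fintype.card_subtype]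
    omega

end Group

/-- The data of a principal family at `p`. -/
structure Dat (G : Type u) [Group G] [Fintype G] (p : ℕ) [Fact p.Prime] where
  /-- the Sylow subgroup -/
  P : Sylow p G
  /-- the automizer order -/
  e : ℕ
  /-- the cofactor of the centralizer -/
  c : ℕ
  /-- the number of Sylow subgroups -/
  n : ℕ
  /-- the family -/
  S : Small.Shape P e
  hc : Nat.card (Subgroup.centralizer ((P : Subgroup G) : Set G)) = p * c
  hn : n * e * c = ord / p
  hmod : n % p = 1
  hn1 : n ≠ 1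
  he2 : 2 ≤ e
  hed : e ∣ p - 1
  hn_card : n = Nat.card (Sylow p G)

theorem exists_dat (hG : IsM22 G) (p : ℕ) [Fact p.Prime] (hp : p = 5 ∨ p = 7 ∨ p = 11) :
    Nonempty (Dat G p) := by
  haveI := hG.1
  have hm : Nat.card G = p * (ord / p) ∧ ¬ p ∣ ord / p ∧ ord / p ≠ 1 ∧ p ≠ 2 := by
    rw [hG.2]; rcases hp with rfl | rfl | rfl <;> decide
  obtain ⟨hm, hpm, hm1, h2⟩ := hm
  obtain ⟨P, e, c, n, ⟨S⟩, hc, hn, hmod, hn1, he2, hed, hcard⟩ :=
    Small.block_setup h2 hm hpm hm1
  exact ⟨⟨P, e, c, n, S, hc, hn, hmod, hn1, he2, hed, hcard⟩⟩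

namespace Dat

variable {p : ℕ} [Fact p.Prime] (D : Dat G p)

/-- The number of characters standing in the slot of a member. -/
noncomputable def mult (χ : IrrCharacter G) : ℕ :=
  open Classical in if χ = D.S.θ then (p - 1) / D.e else 1

/-- The slot of a member. -/
noncomputable def slot (χ : IrrCharacter G) : Slot := ⟨D.S.σ χ, deg χ, D.mult χ⟩

theorem one_lt : 1 < p := (Fact.out : p.Prime).one_lt

theorem c_pos : 0 < D.c := by
  rcases Nat.eq_zero_or_pos D.c with h | h
  · have := D.hc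
    rw [h, mul_zero] at this
    exact absurd this Nat.card_pos.ne'
  · exact h

theorem e_le : D.e + 1 ≤ p := D.S.e_lt

theorem mult_θ : D.mult D.S.θ = (p - 1) / D.e := if_pos rfl

theorem mult_of_mem_X {χ : IrrCharacter G} (h : χ ∈ D.S.X) : D.mult χ = 1 :=
  if_neg fun (e : χ = D.S.θ) => D.S.θ_notMem (e ▸ h)

theorem orderOf_eq {x : G} (hx : x ∈ (D.P : Subgroup G)) (hx1 : x ≠ 1) : orderOf x = p := by
  rw [← Nat.card_zpowers, Small.zpowers_eq_of_prime_card D.S.card_P hx hx1, D.S.card_P]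

theorem exists_x : ∃ x ∈ (D.P : Subgroup G), x ≠ 1 := by
  haveI : Nontrivial (D.P : Subgroup G) := by
    rw [← Finite.one_lt_card_iff_nontrivial, D.S.card_P]; exact (Fact.out : p.Prime).one_lt
  obtain ⟨⟨x, hx⟩, h⟩ := exists_ne (1 : (D.P : Subgroup G))
  exact ⟨x, hx, fun e => h (Subtype.ext e)⟩

theorem centralizer_eq {x : G} (hx : x ∈ (D.P : Subgroup G)) (hx1 : x ≠ 1) :
    Subgroup.centralizer ({x} : Set G) = Subgroup.centralizer ((D.P : Subgroup G) : Set G) := by
  rw [← Small.centralizer_zpowers, Small.zpowers_eq_of_prime_card D.S.card_P hx hx1]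

theorem orderOf_mul {x y : G} (hx : x ∈ (D.P : Subgroup G)) (hx1 : x ≠ 1)
    (hy : y ∈ Subgroup.centralizer ((D.P : Subgroup G) : Set G)) (hy' : ¬ p ∣ orderOf y) :
    p ∣ orderOf (x * y) := by
  have hxy : Commute x y := Subgroup.mem_centralizer_iff.1 hy x hx
  rw [hxy.orderOf_mul_eq_mul_orderOf_of_coprime (by
    rw [D.orderOf_eq hx hx1]; exact (Fact.out : p.Prime).coprime_iff_not_dvd.2 hy'),
    D.orderOf_eq hx hx1]
  exact dvd_mul_right _ _

/-- The exceptional members add up to the sign. -/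
theorem sum_Y {x y : G} (hx : x ∈ (D.P : Subgroup G)) (hx1 : x ≠ 1)
    (hy : y ∈ Subgroup.centralizer ((D.P : Subgroup G) : Set G)) (hy' : ¬ p ∣ orderOf y) :
    ∑ θ' ∈ D.S.Y, (θ' : G → ℂ) (x * y) = (D.S.σ D.S.θ : ℂ) := by
  classical
  have hone : ¬ p ∣ orderOf (1 : G) := by
    rw [orderOf_one]; exact (Fact.out : p.Prime).not_dvd_one
  have hX : ∀ χ ∈ D.S.X, conj ((χ : G → ℂ) (x * y)) = (D.S.σ χ : ℂ) := fun χ h => by
    rw [D.S.val χ h x hx hx1 y hy hy', map_intCast]
  have hf0 : (D.S.θ : G → ℂ) 1 ≠ 0 := D.S.θ.2.apply_one_ne_zero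
  have h4 := Block.sum_block_mul_conj_eq_zero D.S.hM
    (Block.vInt_indVec D.S.hM Block.isPBlock_principal) (g := 1) (h := x * y)
    (Block.not_isConj_pPt_of_dvd hone (D.orderOf_mul hx hx1 hy hy'))
  rw [finsum_mem_eq_finite_toFinset_sum _ (principalBlock D.S.M G).toFinite,
    show (principalBlock D.S.M G).toFinite.toFinset = D.S.X ∪ D.S.Y by
      ext χ; rw [Set.Finite.mem_toFinset, Finset.mem_union]; exact D.S.mem_block χ,
    Finset.sum_union D.S.disj, Finset.sum_congr rfl fun χ h => by rw [hX χ h],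
    Finset.sum_congr (rfl : D.S.Y = D.S.Y) fun θ' h => by rw [D.S.agree θ' h 1 hone],
    ← Finset.mul_sum] at h4
  have h5 := D.S.rel 1 hone
  rw [D.S.Z_eq, Finset.sum_insert D.S.θ_notMem,
    Finset.sum_congr rfl fun (χ : IrrCharacter G) _ => mul_comm (D.S.σ χ : ℂ) ((χ : G → ℂ) 1)] at h5
  have h6 : ∑ θ' ∈ D.S.Y, conj ((θ' : G → ℂ) (x * y)) = (D.S.σ D.S.θ : ℂ) := by
    apply mul_left_cancel₀ hf0
    linear_combination h4 - h5
  have h7 := congrArg conj h6
  simpa [map_sum] using h7

theorem deg_Y {θ' : IrrCharacter G} (h : θ' ∈ D.S.Y) : deg θ' = deg D.S.θ := by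
  have h' := D.S.agree θ' h 1 (by rw [orderOf_one]; exact (Fact.out : p.Prime).not_dvd_one)
  rw [MEleven.apply_one, MEleven.apply_one] at h'
  exact_mod_cast h'

theorem sign_θ : D.S.σ D.S.θ = 1 ∨ D.S.σ D.S.θ = -1 :=
  D.S.sign _ (D.S.mem_Z.2 (Or.inl rfl))

theorem deg_dvd (hG : IsM22 G) {χ : IrrCharacter G} (hχ : χ ∈ D.S.Z) :
    deg χ ∣ ord / p / D.c := by
  classical
  obtain ⟨x, hx, hx1⟩ := D.exists_x
  have hcl : (Char.classFinset x).card = ord / p / D.c := by
    rw [Char.card_classFinset, D.centralizer_eq hx hx1, Nat.div_div_eq_div_mul, ← D.hc, ← card_G hG]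
    refine (Nat.div_eq_of_eq_mul_left Nat.card_pos ?_).symm
    rw [Subgroup.index_mul_card]
  have hone : ¬ p ∣ orderOf (1 : G) := by
    rw [orderOf_one]; exact (Fact.out : p.Prime).not_dvd_one
  rw [← hcl]
  rcases D.S.mem_Z.1 hχ with rfl | h
  · refine Small.degree_dvd_class D.S.Y (fun θ' h' => D.deg_Y h') (Block.charDegree_pos _).ne'
      D.sign_θ ?_
    have := D.sum_Y hx hx1 (Subgroup.one_mem _) hone
    simpa using this
  · refine Small.degree_dvd_class {χ} (fun θ' h' => by rw [Finset.mem_singleton.1 h'])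
      (Block.charDegree_pos _).ne' (D.S.sign χ hχ) ?_
    have := D.S.val χ h x hx hx1 1 (Subgroup.one_mem _) hone
    simpa using this

end Dat

theorem exists_perm_map {α β : Type*} {f : α → β} : ∀ {a b : List β}, a.Perm b →
    ∀ l : List α, l.map f = b → ∃ l' : List α, l'.Perm l ∧ l'.map f = a := by
  intro a b h
  induction h with
  | nil => exact fun l hl => ⟨l, List.Perm.refl l, hl⟩
  | cons x _ ih =>
    intro l hl
    cases l with
    | nil => simp at hl
    | cons y l =>
      simp only [List.map_cons, List.cons.injEq] at hl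
      obtain ⟨l', h1, h2⟩ := ih l hl.2
      exact ⟨y :: l', h1.cons y, by rw [List.map_cons, hl.1, h2]⟩
  | swap x y l =>
    intro l' hl
    match l', hl with
    | u :: v :: r, hl =>
      simp only [List.map_cons, List.cons.injEq] at hl
      exact ⟨v :: u :: r, List.Perm.swap u v r, by simp [hl.1, hl.2.1, hl.2.2]⟩
  | trans _ _ ih1 ih2 =>
    intro l hl
    obtain ⟨l1, h1, h1'⟩ := ih2 l hl
    obtain ⟨l2, h2, h2'⟩ := ih1 l1 h1'
    exact ⟨l2, h2.trans h1, h2'⟩

theorem divList_sorted : divList.Pairwise (fun a b => b ≤ a) := by decide +kernel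

theorem xCands_sorted (p c : ℕ) : (xCands p c).Pairwise (fun a b => b.2 ≤ a.2) := by
  have hd : (degs p c).Pairwise (fun a b => b ≤ a) := divList_sorted.filter _
  rw [xCands, List.pairwise_flatMap]
  refine ⟨fun d _ => ?_, ?_⟩
  · rw [List.pairwise_map]
    exact List.pairwise_of_forall fun _ _ => le_rfl
  · refine hd.imp fun {a b} hab x hx y hy => ?_
    obtain ⟨_, _, rfl⟩ := List.mem_map.1 hx
    obtain ⟨_, _, rfl⟩ := List.mem_map.1 hy
    exact hab

theorem xCands_sign (p c : ℕ) : ∀ x ∈ xCands p c, x.1 = 1 ∨ x.1 = -1 := by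
  intro x hx
  simp only [xCands, List.mem_flatMap, List.mem_map, List.mem_filter] at hx
  obtain ⟨d, -, s, ⟨hs, -⟩, rfl⟩ := hx
  simpa [signs] using hs

theorem msums_members (hG : IsM22 G) {p : ℕ} [Fact p.Prime] (D : Dat G p) (R : Finset (IrrCharacter G))
    (hR : R ⊆ D.S.Z) (hR1 : Small.one' G ∉ R)
    (hcong : ∀ χ ∈ R, D.S.σ χ * (deg χ : ℤ) ≡ 1 [ZMOD p]) (hmult : ∀ χ ∈ R, D.mult χ = 1)
    (hdeg : ∀ χ ∈ R, deg χ ∈ degs p D.c)
    (need : ℤ) (q : ℕ) (hneed : need + ∑ χ ∈ R, D.S.σ χ * (deg χ : ℤ) = 0)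
    (hq : ∑ χ ∈ R, deg χ ^ 2 ≤ q) :
    ∃ l : List (IrrCharacter G), l.Perm R.toList ∧
      l.map D.slot ∈ msums (xCands p D.c) R.card need q := by
  let f : IrrCharacter G → ℤ × ℕ := fun χ => (D.S.σ χ, deg χ)
  have hmem : ∀ x ∈ R.toList.map f, x ∈ xCands p D.c := by
    intro x hx
    obtain ⟨χ, hχ, rfl⟩ := List.mem_map.1 hx
    rw [Finset.mem_toList] at hχ
    simp only [xCands, List.mem_flatMap, List.mem_map, List.mem_filter, f]
    refine ⟨deg χ, hdeg χ hχ, D.S.σ χ, ⟨?_, ?_⟩, rfl⟩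
    · rcases D.S.sign χ (hR hχ) with e | e <;> simp [signs, e]
    · simpa using Int.ModEq.dvd (hcong χ hχ).symm |> Int.emod_eq_zero_of_dvd
  obtain ⟨o, ho, hperm⟩ := msums_complete (xCands p D.c) R.card need q (R.toList.map f)
    (xCands_sorted _ _) (xCands_sign _ _) hmem (by simp)
    (by rw [List.map_map, Finset.sum_map_toList R]; exact hneed)
    (by
      rw [List.map_map, Finset.sum_map_toList R]
      refine le_trans (le_of_eq (Finset.sum_congr rfl fun χ _ => ?_)) hq
      simp [f, pow_two])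
  rw [List.map_map] at hperm
  obtain ⟨l, hl, hl'⟩ := exists_perm_map hperm R.toList rfl
  refine ⟨l, hl, ?_⟩
  have e : l.map D.slot = l.map (single ∘ f) := List.map_congr_left fun χ hχ => by
    have hχR : χ ∈ R := Finset.mem_toList.1 (hl.mem_iff.1 hχ)
    simp [Dat.slot, single, f, hmult χ hχR]
  rw [e, hl']
  exact ho

namespace Dat

variable {p : ℕ} [Fact p.Prime] (D : Dat G p)

theorem two_le_deg (hG : IsM22 G) {χ : IrrCharacter G} (h1 : χ ≠ Small.one' G) : 2 ≤ deg χ :=
  Small.two_le_charDegree_of_perfect (perfect hG) h1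

theorem sum_sq_Z_le (hG : IsM22 G) :
    ∑ χ ∈ D.S.X, deg χ ^ 2 + (p - 1) / D.e * deg D.S.θ ^ 2 ≤ ord :=
  card_G hG ▸ D.S.sum_sq

theorem div_pos : 0 < (p - 1) / D.e :=
  Nat.div_pos (by have := D.e_le; omega) D.S.e_pos

theorem sum_Z {M : Type*} [AddCommMonoid M] (f : IrrCharacter G → M) :
    ∑ χ ∈ D.S.Z, f χ = f D.S.θ + ∑ χ ∈ D.S.X, f χ := by
  classical
  rw [D.S.Z_eq, Finset.sum_insert D.S.θ_notMem]

theorem mem_degs (hG : IsM22 G) (hsq : ¬ p ^ 2 ∣ Nat.card G) {χ : IrrCharacter G}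
    (hχ : χ ∈ D.S.Z) (h1 : χ ≠ Small.one' G) : deg χ ∈ degs p D.c := by
  classical
  haveI := hG.1
  have hdd := D.deg_dvd hG hχ
  have hord : deg χ ∣ ord := card_G hG ▸ Block.charDegree_dvd_card χ
  refine List.mem_filter.2 ⟨mem_divList hord, ?_⟩
  simp only [decide_eq_true_eq]
  refine ⟨Nat.mod_eq_zero_of_dvd hdd, ?_, ?_⟩
  · split_ifs with hc
    · exact two_le_deg hG h1
    · by_contra hlt
      have := D.S.small (not_cyclic hG) hsq hχ h1 (by show deg χ < 2 * p; omega)
      rw [D.hc] at this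
      exact hc ((Nat.mul_eq_left (Fact.out : p.Prime).ne_zero).1 this)
  · have h := D.sum_sq_Z_le hG
    have hle : deg χ ^ 2 + 1 ≤ ord := by
      have hone : deg (Small.one' G) = 1 := Small.charDegree_one'
      rcases D.S.mem_Z.1 hχ with rfl | hX
      · have h2 := (D.S.mem_Z.1 D.S.one_mem).resolve_left (Ne.symm h1)
        have h3 := Finset.single_le_sum (f := fun ψ => deg ψ ^ 2) (fun _ _ => Nat.zero_le _) h2
        simp only [hone, one_pow] at h3
        have := Nat.le_mul_of_pos_left (deg D.S.θ ^ 2) D.div_pos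
        omega
      · have h4 := Nat.le_mul_of_pos_left (deg D.S.θ ^ 2) D.div_pos
        rcases D.S.mem_Z.1 D.S.one_mem with h2 | h2
        · have h3 := Finset.single_le_sum (f := fun ψ => deg ψ ^ 2) (fun _ _ => Nat.zero_le _) hX
          rw [← h2, hone, one_pow] at h4 h
          omega
        · have h3 : deg χ ^ 2 + deg (Small.one' G) ^ 2 ≤ ∑ ψ ∈ D.S.X, deg ψ ^ 2 := by
            rw [← Finset.sum_pair (f := fun ψ => deg ψ ^ 2) h1]
            exact Finset.sum_le_sum_of_subset (Finset.insert_subset hX (Finset.singleton_subset_iff.2 h2))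
          rw [hone, one_pow] at h3
          omega
    rw [← pow_two]; omega

theorem slot_one : D.mult (Small.one' G) = 1 → D.slot (Small.one' G) = oneSlot := fun h => by
  simp only [slot, h, D.S.sign_one, oneSlot]
  congr 1
  exact Small.charDegree_one'

/-- The members can be listed as one of the standard lists. -/
theorem exists_std (hG : IsM22 G) (hsq : ¬ p ^ 2 ∣ Nat.card G) :
    ∃ L : List (IrrCharacter G), L.Nodup ∧ (∀ χ, χ ∈ L ↔ χ ∈ D.S.Z) ∧
      L.map D.slot ∈ std p D.e D.c := by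
  classical
  haveI := hG.1
  have hrel : D.S.σ D.S.θ * (deg D.S.θ : ℤ) + ∑ χ ∈ D.S.X, D.S.σ χ * (deg χ : ℤ) = 0 := by
    rw [← D.sum_Z fun χ => D.S.σ χ * (deg χ : ℤ)]
    exact D.S.rel_deg
  have hsum := D.sum_sq_Z_le hG
  have hone : deg (Small.one' G) = 1 := Small.charDegree_one'
  rcases Nat.lt_or_ge (D.e + 1) p with hlt | hge
  · -- a genuine exceptional slot
    have h1X : Small.one' G ∈ D.S.X := D.S.one_mem_X hlt
    have hθ1 : D.S.θ ≠ Small.one' G := D.S.θ_ne_one hlt
    have ht : (p - 1) / D.e ≠ 1 := by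
      intro h
      have := Nat.div_mul_cancel D.hed
      rw [h, one_mul] at this
      omega
    set R := D.S.X.erase (Small.one' G) with hR
    have hRcard : R.card = D.e - 1 := by rw [hR, Finset.card_erase_of_mem h1X, D.S.card_X]
    have hsplit : ∀ f : IrrCharacter G → ℤ, ∑ χ ∈ D.S.X, f χ = f (Small.one' G) + ∑ χ ∈ R, f χ :=
      fun f => by rw [hR, Finset.add_sum_erase _ _ h1X]
    have hsplitN : ∑ χ ∈ D.S.X, deg χ ^ 2 = 1 + ∑ χ ∈ R, deg χ ^ 2 := by
      rw [hR, ← Finset.add_sum_erase _ _ h1X, hone, one_pow]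
    obtain ⟨l, hl, hmem⟩ := msums_members hG D R
      (fun χ h => D.S.mem_Z.2 (Or.inr (Finset.mem_of_mem_erase h))) (Finset.notMem_erase _ _)
      (fun χ h => D.S.cong χ (Finset.mem_of_mem_erase h))
      (fun χ h => D.mult_of_mem_X (Finset.mem_of_mem_erase h))
      (fun χ h => D.mem_degs hG hsq (D.S.mem_Z.2 (Or.inr (Finset.mem_of_mem_erase h)))
        (Finset.ne_of_mem_erase h))
      (1 + D.S.σ D.S.θ * (deg D.S.θ : ℤ)) (ord - 1 - (p - 1) / D.e * deg D.S.θ * deg D.S.θ)
      (by rw [hsplit, D.S.sign_one, hone] at hrel; push_cast at hrel; linarith)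
      (by rw [hsplitN, pow_two, ← mul_assoc] at hsum; omega)
    refine ⟨Small.one' G :: (l ++ [D.S.θ]), ?_, ?_, ?_⟩
    · have hnd : l.Nodup := hl.nodup_iff.2 (Finset.nodup_toList _)
      simp only [List.nodup_cons, List.mem_append, List.mem_singleton, not_or, List.nodup_append,
        List.nodup_nil, and_true, List.not_mem_nil, not_false_eq_true]
      refine ⟨⟨fun h => Finset.notMem_erase _ _ (Finset.mem_toList.1 (hl.mem_iff.1 h)),
        Ne.symm hθ1⟩, hnd, trivial, fun a ha b hb => ?_⟩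
      subst hb
      exact fun e => D.S.θ_notMem
        (e ▸ Finset.mem_of_mem_erase (Finset.mem_toList.1 (hl.mem_iff.1 ha)))
    · intro χ
      rw [List.mem_cons, List.mem_append, List.mem_singleton, hl.mem_iff, Finset.mem_toList, hR,
        Finset.mem_erase, D.S.mem_Z]
      constructor
      · rintro (rfl | ⟨-, h⟩ | rfl)
        · exact Or.inr h1X
        · exact Or.inr h
        · exact Or.inl rfl
      · rintro (rfl | h)
        · exact Or.inr (Or.inr rfl)
        · by_cases e : χ = Small.one' G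
          · exact Or.inl e
          · exact Or.inr (Or.inl ⟨e, h⟩)
    · rw [std, if_neg ht, List.mem_flatMap]
      refine ⟨(D.S.σ D.S.θ, deg D.S.θ), ?_, ?_⟩
      · simp only [tCands, List.mem_flatMap, List.mem_map, List.mem_filter]
        refine ⟨deg D.S.θ, D.mem_degs hG hsq (D.S.mem_Z.2 (Or.inl rfl)) hθ1, D.S.σ D.S.θ,
          ⟨?_, ?_⟩, rfl⟩
        · rcases D.sign_θ with e | e <;> simp [signs, e]
        · simp only [decide_eq_true_eq]
          refine ⟨Int.emod_eq_zero_of_dvd ?_, ?_⟩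
          · have := Int.ModEq.dvd D.S.congθ.symm
            simpa using this
          · rw [hsplitN, pow_two, ← mul_assoc] at hsum
            omega
      · refine List.mem_map.2 ⟨l.map D.slot, ?_, ?_⟩
        · rwa [hRcard] at hmem
        · rw [List.map_cons, List.map_append, D.slot_one (D.mult_of_mem_X h1X)]
          simp [slot, D.mult_θ]
  · -- all members are alike
    have he : D.e + 1 = p := by have := D.e_le; omega
    have ht : (p - 1) / D.e = 1 := by
      rw [show p - 1 = D.e by omega, Nat.div_self D.S.e_pos]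
    have hm1 : ∀ χ ∈ D.S.Z, D.mult χ = 1 := fun χ h => by
      rcases D.S.mem_Z.1 h with rfl | h
      · rw [D.mult_θ, ht]
      · exact D.mult_of_mem_X h
    set R := D.S.Z.erase (Small.one' G) with hR
    have hRcard : R.card = D.e := by
      rw [hR, Finset.card_erase_of_mem D.S.one_mem, D.S.card_Z]; omega
    have hsq' : ∑ χ ∈ R, deg χ ^ 2 ≤ ord - 1 := by
      have h2 := Finset.add_sum_erase D.S.Z (fun χ => deg χ ^ 2) D.S.one_mem
      rw [D.sum_Z fun χ => deg χ ^ 2, hone, one_pow, ← hR] at h2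
      rw [ht, one_mul] at hsum
      omega
    obtain ⟨l, hl, hmem⟩ := msums_members hG D R (Finset.erase_subset _ _) (Finset.notMem_erase _ _)
      (fun χ h => D.S.cong_all he (Finset.mem_of_mem_erase h))
      (fun χ h => hm1 χ (Finset.mem_of_mem_erase h))
      (fun χ h => D.mem_degs hG hsq (Finset.mem_of_mem_erase h) (Finset.ne_of_mem_erase h))
      1 (ord - 1)
      (by
        have h2 := D.S.rel_deg
        rw [← Finset.add_sum_erase _ _ D.S.one_mem, D.S.sign_one] at h2
        change 1 * (deg (Small.one' G) : ℤ) + _ = 0 at h2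
        rw [hone] at h2
        simpa using h2) hsq'
    refine ⟨Small.one' G :: l, ?_, ?_, ?_⟩
    · rw [List.nodup_cons]
      exact ⟨fun h => Finset.notMem_erase _ _ (Finset.mem_toList.1 (hl.mem_iff.1 h)),
        hl.nodup_iff.2 (Finset.nodup_toList _)⟩
    · intro χ
      rw [List.mem_cons, hl.mem_iff, Finset.mem_toList, hR, Finset.mem_erase]
      by_cases e : χ = Small.one' G
      · simp [e, D.S.one_mem]
      · simp [e]
    · rw [std, if_pos ht]
      refine List.mem_map.2 ⟨l.map D.slot, ?_, ?_⟩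
      · rwa [hRcard] at hmem
      · rw [List.map_cons, D.slot_one (hm1 _ D.S.one_mem)]

theorem mem_options (hG : IsM22 G) (h11 : p = 11 ∨ ¬ 11 ∣ D.c) : (D.e, D.c) ∈ options p := by
  have hmul := D.hn
  have hcord : D.c ∣ ord := by
    have h := Subgroup.card_subgroup_dvd_card (Subgroup.centralizer ((D.P : Subgroup G) : Set G))
    rw [D.hc, card_G hG] at h
    exact (dvd_mul_left _ _).trans h
  have hec : 0 < D.e * D.c := Nat.mul_pos D.S.e_pos D.c_pos
  have hdiv : ord / p / (D.e * D.c) = D.n := by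
    rw [← hmul, mul_assoc, Nat.mul_div_cancel _ hec]
  simp only [options, List.mem_flatMap, List.mem_map, List.mem_filter, List.mem_range,
    decide_eq_true_eq]
  refine ⟨D.e, ⟨D.e_le, D.he2, Nat.mod_eq_zero_of_dvd D.hed⟩, D.c,
    ⟨mem_divList hcord, ?_, ?_, ?_, ?_⟩, rfl⟩
  · exact Nat.mod_eq_zero_of_dvd ⟨D.n, by rw [← hmul]; ring⟩
  · rw [hdiv]; exact D.hmod
  · rw [hdiv]; exact D.hn1
  · exact h11.imp_right fun h e => h (Nat.dvd_of_mod_eq_zero e)

end Dat

end Cfsg.Lib.MTwentyTwo
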