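import Cfsg.Agent.Lib.MTwentyTwo.Pair
import Cfsg.Agent.Lib.StrongEmb.TwoNilp

/-!
# The action on the 77 conjugates of the elementary group

The permutation character has the constituents of degrees 1, 21 and 55: an involution fixes 13 points
and the normalizer has three orbits.
-/

set_option autoImplicit false
set_option linter.style.haveILetI false
set_option linter.unusedSectionVars false

namespace Cfsg.Lib.MTwentyTwo

open Cfsg Cfsg.Lib Cfsg.Lib.StrongEmb.TwoNilp
open scoped ComplexConjugate

universe u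

/-- The numerical data of the action. -/
structure Fix {G : Type u} [Group G] (x : G) : Prop where
  fix : ∀ t : G, orderOf t = 2 → Nat.card {c : G ⧸ normTwo x // t • c = c} = 13
  orbits : Nat.card (MulAction.orbitRel.Quotient (normTwo x) (G ⧸ normTwo x)) = 3

variable {G : Type u} [Group G] [Fintype G]

theorem fix_card_mul (H : Subgroup G) (g : G) [DecidablePred (· ∈ H)] :
    Nat.card {c : G ⧸ H // g • c = c} * Nat.card H =
      (Finset.univ.filter fun z : G => z * g * z⁻¹ ∈ H).card := by
  classical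
  have h1 : Nat.card (QuotientGroup.mk (s := H) ⁻¹' {c : G ⧸ H | g • c = c}) =
      Nat.card H * Nat.card {c : G ⧸ H // g • c = c} := by
    rw [Nat.card_congr (QuotientGroup.preimageMkEquivSubgroupProdSet _ _), Nat.card_prod]
    rfl
  rw [mul_comm, ← h1, ← Nat.card_eq_finsetCard]
  refine Nat.card_congr ((Equiv.inv G).subtypeEquiv fun z => ?_)
  simp only [Set.mem_preimage, Set.mem_ofPred_eq, Finset.mem_filter, Finset.mem_univ, true_and,
    Equiv.inv_apply, inv_inv]
  rw [MulAction.Quotient.smul_mk, QuotientGroup.eq, ← H.inv_mem_iff]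
  simp [mul_assoc]

theorem deg_sum_key {a b c d e f g h i j k : ℕ}
    (H : 1 * 1 + 21 * a + 45 * b + 45 * c + 55 * d + 99 * e + 154 * f + 210 * g + 231 * h + 280 * i +
      280 * j + 385 * k = 77) :
    a = 1 ∧ b = 0 ∧ c = 0 ∧ d = 1 ∧ e = 0 ∧ f = 0 ∧ g = 0 ∧ h = 0 ∧ i = 0 ∧ j = 0 ∧ k = 0 := by
  obtain rfl : e = 0 := by by_contra h0; linarith [Nat.pos_of_ne_zero h0]
  obtain rfl : f = 0 := by by_contra h0; linarith [Nat.pos_of_ne_zero h0]
  obtain rfl : g = 0 := by by_contra h0; linarith [Nat.pos_of_ne_zero h0]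
  obtain rfl : h = 0 := by by_contra h0; linarith [Nat.pos_of_ne_zero h0]
  obtain rfl : i = 0 := by by_contra h0; linarith [Nat.pos_of_ne_zero h0]
  obtain rfl : j = 0 := by by_contra h0; linarith [Nat.pos_of_ne_zero h0]
  obtain rfl : k = 0 := by by_contra h0; linarith [Nat.pos_of_ne_zero h0]
  have : a ≤ 3 := by linarith
  have : b ≤ 1 := by linarith
  have : c ≤ 1 := by linarith
  interval_cases a <;> interval_cases b <;> interval_cases c <;> omega

theorem fix_data (hG : IsM22 G) {x v : G} (P : Pair x v) : Fix x := by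
  classical
  obtain ⟨T⟩ := exists_tbl_of hG
  have L := loc hG
  set H := normTwo x with hH
  have hH0 : (Nat.card H : ℂ) ≠ 0 := Nat.cast_ne_zero.2 Nat.card_pos.ne'
  set n : IrrCharacter G → ℕ := fun χ => fixDim H χ with hn
  have hone : n (Small.one' G) = 1 := by
    have h := avg_eq H (Small.one' G)
    simp only [Small.one'_apply, Finset.sum_const, Finset.card_univ, nsmul_eq_mul, mul_one,
      ← Nat.card_eq_fintype_card] at h
    rw [inv_mul_cancel₀ hH0] at h
    exact_mod_cast h.symm
  have hsum : ∑ χ : IrrCharacter G, deg χ * n χ = 77 := by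
    have h := sum_degree_fixDim (G := G) H
    have h' : ((∑ χ : IrrCharacter G, deg χ * n χ : ℕ) : ℂ) = 77 := by
      push_cast
      rw [Finset.sum_congr rfl (g := fun χ : IrrCharacter G => (χ : G → ℂ) 1 * (fixDim H χ : ℂ)) fun χ _ => by
        rw [MEleven.apply_one], h, L.card, hH, P.card_normTwo L]
      norm_num
    exact_mod_cast h'
  rw [T.sum_eq, hone, show deg (Small.one' G) = 1 from Small.charDegree_one', T.ha, T.hb, T.hc, T.hd,
    T.he, T.hf, T.hg, T.hh, T.hi, T.hj, T.hk] at hsum
  obtain ⟨ha, hb, hc, hd, he, hf, hg, hh, hi, hj, hk⟩ := deg_sum_key hsum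
  have hπ : ∀ g : G, (Nat.card {c : G ⧸ H // g • c = c} : ℂ) =
      1 + (T.a : G → ℂ) g + (T.d : G → ℂ) g := by
    intro g
    have h1 : permChar H g = (Nat.card {c : G ⧸ H // g • c = c} : ℂ) := by
      rw [permChar, Finset.sum_boole, inv_mul_eq_iff_eq_mul₀ hH0, ← Nat.cast_mul, mul_comm,
        fix_card_mul]
    have h2 := congrFun (Char.eq_sum_classInner (isClassFunction_permChar H)) g
    simp only [Finset.sum_apply, Pi.smul_apply, smul_eq_mul, classInner_permChar] at h2
    have h3 := T.sum_eq fun χ => (fixDim H χ : ℂ) * (χ : G → ℂ) g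
    rw [h3, show fixDim H (Small.one' G) = 1 from hone, show fixDim H T.a = 1 from ha,
      show fixDim H T.d = 1 from hd, show fixDim H T.b = 0 from hb, show fixDim H T.c = 0 from hc,
      show fixDim H T.e = 0 from he, show fixDim H T.f = 0 from hf, show fixDim H T.g = 0 from hg,
      show fixDim H T.h = 0 from hh, show fixDim H T.i = 0 from hi, show fixDim H T.j = 0 from hj,
      show fixDim H T.k = 0 from hk, Small.one'_apply, h1] at h2
    rw [h2]
    push_cast
    ring
  refine ⟨fun t ht => ?_, ?_⟩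
  · obtain ⟨-, e1, -, -, e2, -⟩ := T.inv_col hG ht
    have h := hπ t
    rw [e1, e2] at h
    refine Nat.cast_injective (R := ℂ) (h.trans ?_)
    norm_num
  · haveI : Fintype (MulAction.orbitRel.Quotient H (G ⧸ H)) := Fintype.ofFinite _
    haveI : ∀ h : H, Fintype (MulAction.fixedBy (G ⧸ H) h) := fun _ => Fintype.ofFinite _
    have hB := MulAction.sum_card_fixedBy_eq_card_orbits_mul_card_group H (G ⧸ H)
    have hfix : ∀ h : H, Fintype.card (MulAction.fixedBy (G ⧸ H) h) =
        Nat.card {c : G ⧸ H // (h : G) • c = c} := fun h => by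
      rw [← Nat.card_eq_fintype_card]
      exact Nat.card_congr (Equiv.subtypeEquivRight fun _ => Iff.rfl)
    rw [Finset.sum_congr rfl fun h _ => hfix h, ← Nat.card_eq_fintype_card,
      ← Nat.card_eq_fintype_card] at hB
    have h : ∑ h : H, (Nat.card {c : G ⧸ H // (h : G) • c = c} : ℂ) = (Nat.card H : ℂ) * 3 := by
      have havg : ∀ χ : IrrCharacter G, ∑ h : H, (χ : G → ℂ) h = (Nat.card H : ℂ) * (n χ : ℂ) :=
        fun χ => (inv_mul_eq_iff_eq_mul₀ hH0).1 (avg_eq H χ)
      simp only [hπ, Finset.sum_add_distrib, havg, ha, hd, Finset.sum_const, Finset.card_univ,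
        nsmul_eq_mul, mul_one, ← Nat.card_eq_fintype_card]
      push_cast
      ring
    have h' : (Nat.card H : ℂ) * 3 =
        (Nat.card (MulAction.orbitRel.Quotient H (G ⧸ H)) : ℂ) * (Nat.card H : ℂ) := by
      rw [← h, ← Nat.cast_mul, ← hB, Nat.cast_sum]
    rw [mul_comm] at h'
    have := mul_right_cancel₀ hH0 h'
    exact_mod_cast this.symm

end Cfsg.Lib.MTwentyTwo
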