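import Cfsg.Agent.Lib.MTwentyTwo.Four
import Mathlib.Data.Fintype.Perm

/-!
# The elementary group of order 16

For `x` of order 3 the centralizer of its four-group is an elementary group of order 16 extended by
`x`; this group contains exactly one further four-group of the same kind commuting with it.
-/

set_option autoImplicit false
set_option linter.style.haveILetI false
set_option linter.unusedSectionVars false

namespace Cfsg.Lib.MTwentyTwo

open Cfsg Cfsg.Lib

universe u

variable {G : Type u} [Group G] [Finite G]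

/-- The centralizer of the four-group of `x`. -/
def centFour (x : G) : Subgroup G := Subgroup.centralizer ((four x : Subgroup G) : Set G)

theorem mem_centFour {x g : G} : g ∈ centFour x ↔ ∀ v ∈ four x, v * g = g * v :=
  Subgroup.mem_centralizer_iff

/-- The relation: the two four-groups commute. -/
def Rel (a b : G) : Prop := four a ≤ centFour b

theorem Rel.symm {a b : G} (h : Rel a b) : Rel b a := fun g hg =>
  mem_centFour.2 fun v hv => (mem_centFour.1 (h hv) g hg).symm

theorem four_le_centralizer {x : G} {H : Subgroup G} (h : ∀ g ∈ four x, ∀ r ∈ H, g * r = r * g) :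
    H ≤ centFour x := fun r hr => mem_centFour.2 fun g hg => h g hg r hr

set_option synthInstance.maxSize 2000 in
theorem perm_three_key : ∀ σ τ : Equiv.Perm (Fin 3),
    σ ^ 2 = 1 → τ ≠ 1 → τ ^ 3 = 1 → σ * τ = τ * σ → σ = 1 := by
  decide

theorem conj_pow_two {g : G} {k : ℕ} (h : g ^ 2 ^ k = 1) (c : G) : (c * g * c⁻¹) ^ 2 ^ k = 1 := by
  rw [conj_pow, h, mul_one, mul_inv_cancel]

theorem pow_two_of_card {H : Subgroup G} {k : ℕ} (h : Nat.card H = 2 ^ k) {g : G} (hg : g ∈ H) :
    g ^ 2 ^ k = 1 :=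
  orderOf_dvd_iff_pow_eq_one.1 (h ▸ Subgroup.orderOf_dvd_natCard _ hg)

namespace Loc

variable (L : Loc G)
include L

theorem exists_four_ne_one {x : G} (hx : orderOf x = 3) : ∃ g ∈ four x, g ≠ 1 := by
  have h : four x ≠ ⊥ := fun e => by
    have := L.card_four hx
    rw [e, Subgroup.card_bot] at this
    omega
  obtain ⟨⟨g, hg⟩, hne⟩ := Subgroup.ne_bot_iff_exists_ne_one.1 h
  exact ⟨g, hg, fun e => hne (Subtype.ext e)⟩

theorem four_le_centFour_self {x : G} (hx : orderOf x = 3) : four x ≤ centFour x := fun g hg =>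
  mem_centFour.2 fun v hv => L.four_comm hx hv hg

theorem self_mem_centFour {x : G} (hx : orderOf x = 3) : x ∈ centFour x :=
  mem_centFour.2 fun _ hv => ((L.four_mem_iff hx).1 hv).1

theorem centFour_conj {x : G} (hx : orderOf x = 3) (c : G) {g : G} (hg : g ∈ centFour x) :
    c * g * c⁻¹ ∈ centFour (c * x * c⁻¹) := by
  refine mem_centFour.2 fun v hv => ?_
  have hv' : c⁻¹ * v * c ∈ four x := by
    have := L.four_conj (show orderOf (c * x * c⁻¹) = 3 by rw [orderOf_conj, hx]) c⁻¹ hv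
    rwa [show c⁻¹ * (c * x * c⁻¹) * c⁻¹⁻¹ = x by group, inv_inv] at this
  have h := mem_centFour.1 hg _ hv'
  calc v * (c * g * c⁻¹) = c * ((c⁻¹ * v * c) * g) * c⁻¹ := by group
    _ = c * (g * (c⁻¹ * v * c)) * c⁻¹ := by rw [h]
    _ = c * g * c⁻¹ * v := by group

theorem centFour_invariant {x w g : G} (hx : orderOf x = 3) (hc : x * w = w * x) (hg : g ∈ centFour x) :
    w * g * w⁻¹ ∈ centFour x := by
  have := L.centFour_conj hx w hg
  rwa [show w * x * w⁻¹ = x by rw [← hc, mul_inv_cancel_right]] at this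

/-- A nontrivial element in the centralizer puts the whole four-group there. -/
theorem four_le_of_mem {x w : G} (hx : orderOf x = 3) (hw : orderOf w = 3) (hc : x * w = w * x)
    (hne : w ∉ Subgroup.zpowers x) {H : Subgroup G} (hH : ∀ r ∈ H, w * r * w⁻¹ ∈ H) {g : G}
    (hg : g ∈ four x) (hgH : g ∈ H) (hg1 : g ≠ 1) : four x ≤ H := by
  intro h hh
  by_cases h1 : h = 1
  · rw [h1]; exact one_mem _
  have hw3 : w ^ 3 = 1 := hw ▸ pow_orderOf_eq_one w
  rcases L.four_cases hx hw hc hne hg hg1 hh h1 with rfl | rfl | rfl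
  · exact hgH
  · exact hH g hgH
  · have h2 := hH _ (hH g hgH)
    have e : w⁻¹ = w * w := (eq_inv_of_mul_eq_one_left (by rw [← pow_two, ← pow_succ, hw3])).symm
    rw [show w * (w * g * w⁻¹) * w⁻¹ = (w * w) * g * (w * w)⁻¹ by group, ← e, inv_inv] at h2
    exact h2

/-- No element centralizing the four-group inverts its element of order 3. -/
theorem no_inv {x s : G} (hx : orderOf x = 3) (hs : s ∈ centFour x) (hinv : s * x * s⁻¹ = x⁻¹) :
    False := by
  obtain ⟨w, hw, hc, hne⟩ := L.exists_partner hx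
  obtain ⟨t, ht, ht1⟩ := L.exists_four_ne_one hx
  have hx3 : x ^ 3 = 1 := hx ▸ pow_orderOf_eq_one x
  have hw3 : w ^ 3 = 1 := hw ▸ pow_orderOf_eq_one w
  -- the factorization of C(x) ∩ C(t)
  set a := w * s * w⁻¹ * s⁻¹ with ha
  have hsx : s⁻¹ * x * s = x⁻¹ := by
    have h := congrArg (·⁻¹) hinv
    simp only [mul_inv_rev, inv_inv] at h
    calc s⁻¹ * x * s = s⁻¹ * (s * (x⁻¹ * s⁻¹)) * s := by rw [h]
      _ = x⁻¹ := by group
  have hax : a * x = x * a := by
    have hwx : w⁻¹ * x⁻¹ * w = x⁻¹ := by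
      rw [mul_assoc, ((show Commute x w from hc).inv_left).eq, inv_mul_cancel_left]
    apply conj_eq_iff_commute.1
    calc a * x * a⁻¹ = w * (s * (w⁻¹ * (s⁻¹ * x * s) * w) * s⁻¹) * w⁻¹ := by rw [ha]; group
      _ = w * (s * x⁻¹ * s⁻¹) * w⁻¹ := by rw [hsx, hwx]
      _ = w * (s * x * s⁻¹)⁻¹ * w⁻¹ := by group
      _ = x := by rw [hinv, inv_inv, ← hc, mul_inv_cancel_right]
  have haV : a ∈ centFour x := mul_mem (L.centFour_invariant hx hc hs) (inv_mem hs)
  have hfac : ∃ i : G, i ∈ Subgroup.zpowers x ∧ ∃ v0 ∈ four x, a = i * v0 := by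
    classical
    haveI := Fintype.ofFinite G
    set K := Subgroup.centralizer ({x} : Set G) ⊓ Subgroup.centralizer ({t} : Set G)
    have haK : a ∈ K := ⟨mem_cent.2 hax, mem_cent.2 (mem_centFour.1 haV t ht).symm⟩
    set F := ((Finset.univ.filter (· ∈ Subgroup.zpowers x)) ×ˢ (Finset.univ.filter (· ∈ four x))).image
      fun q => q.1 * q.2
    have hinj : F.card = 12 := by
      rw [Finset.card_image_of_injOn, Finset.card_product, ← Fintype.card_subtype,
        ← Fintype.card_subtype, ← Nat.card_eq_fintype_card, ← Nat.card_eq_fintype_card,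
        card_zpowers_three hx, L.card_four hx]
      intro q hq r hr e
      simp only [Finset.coe_product, Set.mem_prod, Finset.mem_coe, Finset.mem_filter,
        Finset.mem_univ, true_and] at hq hr
      have e' : r.1⁻¹ * q.1 = r.2 * q.2⁻¹ := by
        calc r.1⁻¹ * q.1 = r.1⁻¹ * (q.1 * q.2) * q.2⁻¹ := by group
          _ = r.1⁻¹ * (r.1 * r.2) * q.2⁻¹ := by rw [show q.1 * q.2 = r.1 * r.2 from e]
          _ = r.2 * q.2⁻¹ := by group
      have h1 : r.1⁻¹ * q.1 ∈ Subgroup.zpowers x := mul_mem (inv_mem hr.1) hq.1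
      have h2 : r.1⁻¹ * q.1 ∈ four x := e' ▸ mul_mem hr.2 (inv_mem hq.2)
      have h3 : r.1⁻¹ * q.1 = 1 := by
        rcases mem_zpowers_three hx h1 with h | h | h
        · exact h
        · rw [h] at h2
          have := L.four_orderOf hx h2 (fun e => by rw [e, orderOf_one] at hx; omega)
          omega
        · rw [h] at h2
          have := L.four_orderOf hx (inv_mem h2) (fun e => by rw [inv_inv] at e; rw [e, orderOf_one] at hx; omega)
          rw [inv_inv] at this
          omega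
      refine Prod.ext (inv_mul_eq_one.1 h3).symm ?_
      rw [h3] at e'
      exact (mul_inv_eq_one.1 e'.symm).symm
    have hsub : F ⊆ Finset.univ.filter (· ∈ K) := by
      intro g hg
      obtain ⟨q, hq, rfl⟩ := Finset.mem_image.1 hg
      simp only [Finset.mem_product, Finset.mem_filter, Finset.mem_univ, true_and] at hq ⊢
      refine mul_mem ?_ ⟨mem_cent.2 ((L.four_mem_iff hx).1 hq.2).1, mem_cent.2 (L.four_comm hx hq.2 ht)⟩
      exact Subgroup.zpowers_le.2 (show x ∈ K from
        ⟨mem_cent.2 rfl, mem_cent.2 ((L.four_mem_iff hx).1 ht).1.symm⟩) hq.1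
    have heq := Finset.eq_of_subset_of_card_le hsub (by
      rw [← Fintype.card_subtype, ← Nat.card_eq_fintype_card, hinj]
      exact (L.card_cent_pair hx ht ht1).le)
    have : a ∈ F := heq ▸ by simp [haK]
    obtain ⟨q, hq, e⟩ := Finset.mem_image.1 this
    simp only [Finset.mem_product, Finset.mem_filter, Finset.mem_univ, true_and] at hq
    exact ⟨q.1, hq.1, q.2, hq.2, e.symm⟩
  obtain ⟨i, hi, v0, hv0, hai⟩ := hfac
  -- a point fixed by the affine action on the four-group
  obtain ⟨v, hv, hvv⟩ : ∃ v ∈ four x, w * v * w⁻¹ * v0 = v := by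
    have hψ : Function.Bijective (fun v : four x => (⟨(v : G) * (w * v * w⁻¹),
        mul_mem v.2 (L.four_invariant hx hc v.2)⟩ : four x)) := by
      rw [← Finite.injective_iff_bijective]
      intro v v' e
      have e' : (v : G) * (w * v * w⁻¹) = v' * (w * v' * w⁻¹) := congrArg Subtype.val e
      by_contra hne'
      set d := (v' : G)⁻¹ * v with hd
      have hdm : d ∈ four x := mul_mem (inv_mem v'.2) v.2
      have hd1 : d ≠ 1 := fun h => hne' (Subtype.ext (inv_mul_eq_one.1 h).symm)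
      have hcd : w * d * w⁻¹ = d := by
        have h2 : d ^ 2 = 1 := ((L.four_mem_iff hx).1 hdm).2
        have e2 : d * (w * d * w⁻¹) = 1 := by
          calc d * (w * d * w⁻¹) = (v' : G)⁻¹ * (v * (w * (v' : G)⁻¹ * w⁻¹)) * (w * v * w⁻¹) := by
                rw [hd]; group
            _ = (v' : G)⁻¹ * ((w * (v' : G)⁻¹ * w⁻¹) * v) * (w * v * w⁻¹) := by
                rw [L.four_comm hx v.2 (L.four_invariant hx hc (inv_mem v'.2))]
            _ = ((v' : G) * (w * v' * w⁻¹))⁻¹ * (v * (w * v * w⁻¹)) := by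
                rw [L.four_comm hx v'.2 (L.four_invariant hx hc v'.2)]
                simp only [mul_inv_rev]
                group
            _ = 1 := by rw [← e', inv_mul_cancel]
        rw [eq_inv_of_mul_eq_one_right e2, inv_eq_of_mul_eq_one_right (by rw [← pow_two, h2])]
      exact L.four_fixed hx hw hc hne hdm hd1 (conj_eq_iff_commute.1 hcd)
    obtain ⟨⟨v, hv⟩, hvv⟩ := hψ.2 ⟨v0, hv0⟩
    refine ⟨v, hv, ?_⟩
    have e : v * (w * v * w⁻¹) = v0 := congrArg Subtype.val hvv
    have hwv := L.four_invariant hx hc hv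
    rw [← e, L.four_comm hx hv hwv, ← mul_assoc, ← pow_two, ((L.four_mem_iff hx).1 hwv).2, one_mul]
  -- an element inverting `x` and commuting with an element of order 3
  set g := v * s with hg
  have hiv : ∀ u ∈ four x, i * u = u * i := by
    intro u hu
    obtain ⟨n, rfl⟩ := Subgroup.mem_zpowers_iff.1 hi
    exact ((show Commute x u from ((L.four_mem_iff hx).1 hu).1.symm).zpow_left n).eq
  have hwg : w * g * w⁻¹ = i * g := by
    calc w * g * w⁻¹ = (w * v * w⁻¹) * a * s := by rw [hg, ha]; group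
      _ = (w * v * w⁻¹) * i * v0 * s := by rw [hai]; group
      _ = i * ((w * v * w⁻¹) * v0) * s := by
        rw [← hiv _ (L.four_invariant hx hc hv)]; group
      _ = i * g := by rw [hvv, hg]; group
  have hgx : g * x * g⁻¹ = x⁻¹ := by
    have hvx : v * x⁻¹ = x⁻¹ * v :=
      ((show Commute v x from ((L.four_mem_iff hx).1 hv).1).inv_right).eq
    calc g * x * g⁻¹ = v * (s * x * s⁻¹) * v⁻¹ := by rw [hg]; group
      _ = x⁻¹ := by rw [hinv, hvx, mul_inv_cancel_right]
  set w' := i * w with hw'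
  have hiw : Commute i w := by
    obtain ⟨n, rfl⟩ := Subgroup.mem_zpowers_iff.1 hi
    exact (show Commute x w from hc).zpow_left n
  have hix : Commute x i := by
    obtain ⟨n, rfl⟩ := Subgroup.mem_zpowers_iff.1 hi
    exact (Commute.refl x).zpow_right n
  have hi3 : i ^ 3 = 1 := by
    rcases mem_zpowers_three hx hi with h | h | h <;> simp [h, hx3]
  have hw'x : w' ∉ Subgroup.zpowers x := fun h => hne (by
    have := mul_mem (inv_mem hi) h
    rwa [hw', inv_mul_cancel_left] at this)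
  have hw'o : orderOf w' = 3 := orderOf_eq_prime_of_pow Nat.prime_three
    (by rw [hw', hiw.mul_pow, hi3, hw3, one_mul]) (fun e => hw'x (e ▸ one_mem _))
  have hw'g : w' * g * w'⁻¹ = g := by
    have hgi : g * i⁻¹ = i * g := by
      obtain ⟨n, rfl⟩ := Subgroup.mem_zpowers_iff.1 hi
      have e : g * (x ^ n)⁻¹ * g⁻¹ = x ^ n := by
        rw [← zpow_neg, ← conj_zpow, hgx, inv_zpow', neg_neg]
      calc g * (x ^ n)⁻¹ = g * (x ^ n)⁻¹ * g⁻¹ * g := by group
        _ = x ^ n * g := by rw [e]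
    calc w' * g * w'⁻¹ = i * (w * g * w⁻¹) * i⁻¹ := by rw [hw']; group
      _ = i * i * (g * i⁻¹) := by rw [hwg]; group
      _ = g := by rw [hgi, ← mul_assoc, ← pow_two, ← pow_succ, hi3, one_mul]
  have hgw' : g * w' = w' * g := (conj_eq_iff_commute.1 hw'g).symm
  set h := g ^ 9 with hh
  have hgo : orderOf g ∣ 36 := by
    have := Subgroup.orderOf_dvd_natCard (Subgroup.centralizer ({w'} : Set G)) (mem_cent.2 hgw')
    rwa [L.cent_three w' hw'o] at this
  have hh4 : h ^ 2 ^ 2 = 1 := by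
    rw [hh, ← pow_mul]; exact orderOf_dvd_iff_pow_eq_one.1 hgo
  have hhw : h ∈ four w' :=
    L.four_mem_of_pow hw'o ((show Commute g w' from hgw').pow_left 9).eq hh4
  have hg2x : g ^ 2 * x = x * g ^ 2 := by
    apply conj_eq_iff_commute.1
    calc g ^ 2 * x * (g ^ 2)⁻¹ = g * (g * x * g⁻¹) * g⁻¹ := by rw [pow_two]; group
      _ = g * x⁻¹ * g⁻¹ := by rw [hgx]
      _ = (g * x * g⁻¹)⁻¹ := by group
      _ = x := by rw [hgx, inv_inv]
  have hhx : h * x * h⁻¹ = x⁻¹ := by
    have e1 : (g ^ 2) ^ 4 * x⁻¹ = x⁻¹ * (g ^ 2) ^ 4 :=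
      (((show Commute (g ^ 2) x from hg2x).pow_left 4).inv_right).eq
    calc h * x * h⁻¹ = (g ^ 2) ^ 4 * (g * x * g⁻¹) * ((g ^ 2) ^ 4)⁻¹ := by
          rw [hh, show g ^ 9 = (g ^ 2) ^ 4 * g by rw [← pow_mul, ← pow_succ]]; group
      _ = x⁻¹ := by rw [hgx, e1, mul_inv_cancel_right]
  have hxw' : w' * x = x * w' := by
    rw [hw', mul_assoc, ← hc, ← mul_assoc, ← hix.eq, mul_assoc]
  have hmem : x * h * x⁻¹ * h⁻¹ ∈ four w' :=
    mul_mem (L.four_invariant hw'o hxw' hhw) (inv_mem hhw)
  have e2 : x * h * x⁻¹ * h⁻¹ = x * x := by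
    rw [show x * h * x⁻¹ * h⁻¹ = x * (h * x * h⁻¹)⁻¹ by group, hhx, inv_inv]
  rw [e2] at hmem
  have h4 : x ^ 4 = 1 := by
    rw [show x ^ 4 = (x * x) ^ 2 by rw [← pow_two, ← pow_mul], ((L.four_mem_iff hw'o).1 hmem).2]
  rw [pow_succ, hx3, one_mul] at h4
  rw [h4, orderOf_one] at hx
  omega

/-- An element of `C(t)` inverts `x`. -/
theorem exists_inverter {x t : G} (hx : orderOf x = 3) (ht : t ∈ four x) (ht1 : t ≠ 1) :
    ∃ s : G, s * t = t * s ∧ s * x * s⁻¹ = x⁻¹ := by
  classical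
  by_contra hno
  push Not at hno
  haveI : Fact (Nat.Prime 3) := ⟨Nat.prime_three⟩
  set C := Subgroup.centralizer ({t} : Set G)
  have hC : Nat.card C = 3 ^ 1 * 128 := L.cent_two t (L.four_orderOf hx ht ht1)
  have hxC : x ∈ C := mem_cent.2 ((L.four_mem_iff hx).1 ht).1.symm
  set X := (Subgroup.zpowers x).subgroupOf C
  have hX : Nat.card X = 3 := by
    rw [Nat.card_congr (Subgroup.subgroupOfEquivOfLe (Subgroup.zpowers_le.2 hxC)).toEquiv,
      card_zpowers_three hx]
  obtain ⟨Q, hQ⟩ := (IsPGroup.of_card (G := ↥X) (p := 3) (n := 1) (by rw [hX, pow_one])).exists_le_sylow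
  have hQX : X = (Q : Subgroup C) := Subgroup.eq_of_le_of_card_ge hQ (by
    rw [Small.card_sylow 1 128 hC (by norm_num) Q, hX, pow_one])
  have hN : Subgroup.normalizer ((Q : Subgroup C) : Set C) =
      (Subgroup.centralizer ({x} : Set G) ⊓ C).subgroupOf C := by
    ext g
    rw [Subgroup.mem_subgroupOf, Subgroup.mem_inf, and_iff_left g.2, mem_cent]
    constructor
    · intro hg
      have hxQ : (⟨x, hxC⟩ : C) ∈ (Q : Subgroup C) := hQX ▸ (Subgroup.mem_zpowers x : x ∈ _)
      have h := (Subgroup.mem_normalizer_iff.1 hg _).1 hxQ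
      rw [← hQX] at h
      rcases mem_zpowers_three hx (show (g : G) * x * (g : G)⁻¹ ∈ Subgroup.zpowers x from h) with e | e | e
      · rw [conj_eq_one_iff] at e; rw [e, orderOf_one] at hx; omega
      · exact conj_eq_iff_commute.1 e
      · exact absurd e (hno g (mem_cent.1 g.2))
    · intro hg
      refine Subgroup.mem_normalizer_fintype fun n hn => ?_
      rw [SetLike.mem_coe, ← hQX] at hn ⊢
      show (g : G) * (n : G) * (g : G)⁻¹ ∈ Subgroup.zpowers x
      obtain ⟨i, hi⟩ := Subgroup.mem_zpowers_iff.1 (show (n : G) ∈ Subgroup.zpowers x from hn)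
      rw [← hi, ((show Commute (g : G) x from hg).zpow_right i).eq, mul_inv_cancel_right, hi]
      exact hn
  have h := Small.card_normalizer_mul Q
  rw [hN, Nat.card_congr (Subgroup.subgroupOfEquivOfLe inf_le_right).toEquiv,
    L.card_cent_pair hx ht ht1, hC] at h
  have := (Small.sylow_facts (G := C) (p := 3) 1 128 hC (by norm_num)).2
  omega

/-- The core of `C(t)`: a normal 2-subgroup with the quotient the symmetric group of degree 3. -/
theorem exists_core {x t : G} (hx : orderOf x = 3) (ht : t ∈ four x) (ht1 : t ≠ 1) :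
    ∃ (α : Type u) (_ : Fintype α) (ρ : Subgroup.centralizer ({t} : Set G) →* Equiv.Perm α),
      Fintype.card α = 3 ∧ Nat.card ρ.ker = 64 ∧
      ρ ⟨x, mem_cent.2 ((L.four_mem_iff hx).1 ht).1.symm⟩ ≠ 1 ∧
      (∀ g : Subgroup.centralizer ({t} : Set G), (g : G) ∈ four x → ρ g = 1) := by
  classical
  haveI : Fact (Nat.Prime 2) := ⟨Nat.prime_two⟩
  set C := Subgroup.centralizer ({t} : Set G) with hCdef
  have hC : Nat.card C = 2 ^ 7 * 3 := L.cent_two t (L.four_orderOf hx ht ht1)
  set xC : C := ⟨x, mem_cent.2 ((L.four_mem_iff hx).1 ht).1.symm⟩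
  have hS : ∀ S : Sylow 2 C, Nat.card (S : Subgroup C) = 128 := fun S => by
    rw [Small.card_sylow 7 3 hC (by norm_num) S]; norm_num
  obtain ⟨hn, -⟩ := Small.sylow_facts (G := C) (p := 2) 7 3 hC (by norm_num)
  have hxo : orderOf xC = 3 := by rw [← Subgroup.orderOf_coe, hx]
  have hn1 : Nat.card (Sylow 2 C) ≠ 1 := by
    intro h1
    haveI : Subsingleton (Sylow 2 C) := (Nat.card_eq_one_iff_unique.1 h1).1
    obtain ⟨S⟩ : Nonempty (Sylow 2 C) := inferInstance
    haveI : (S : Subgroup C).Normal := S.normal_of_subsingleton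
    obtain ⟨s, hst, hsx⟩ := L.exists_inverter hx ht ht1
    set sC : C := ⟨s, mem_cent.2 hst⟩
    obtain ⟨m, hm⟩ : ∃ m, orderOf (sC ^ 3) ∣ 2 ^ m := by
      refine ⟨7, ?_⟩
      apply orderOf_dvd_of_pow_eq_one
      rw [← pow_mul, show 3 * 2 ^ 7 = Nat.card C by rw [hC]; norm_num]
      exact pow_card_eq_one'
    have hsS : sC ^ 3 ∈ (S : Subgroup C) := by
      obtain ⟨S', hS'⟩ := (IsPGroup.of_card (G := ↥(Subgroup.zpowers (sC ^ 3))) (p := 2)
        (n := (orderOf (sC ^ 3)).factorization 2) (by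
          rw [Nat.card_zpowers]
          obtain ⟨j, -, hj⟩ := (Nat.dvd_prime_pow Nat.prime_two).1 hm
          rw [hj, Nat.Prime.factorization_pow Nat.prime_two, Finsupp.single_eq_same])).exists_le_sylow
      exact Subsingleton.elim S' S ▸ hS' (Subgroup.mem_zpowers _)
    have hmem : sC ^ 3 * xC * (sC ^ 3)⁻¹ * xC⁻¹ ∈ (S : Subgroup C) := by
      have := (inferInstance : (S : Subgroup C).Normal).conj_mem _ (inv_mem hsS) xC
      have := mul_mem hsS this
      rwa [show sC ^ 3 * (xC * (sC ^ 3)⁻¹ * xC⁻¹) = sC ^ 3 * xC * (sC ^ 3)⁻¹ * xC⁻¹ by group] at this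
    have hs3 : sC ^ 3 * xC * (sC ^ 3)⁻¹ = xC⁻¹ := by
      apply Subtype.ext
      show s ^ 3 * x * (s ^ 3)⁻¹ = x⁻¹
      calc s ^ 3 * x * (s ^ 3)⁻¹ = s * (s * (s * x * s⁻¹) * s⁻¹) * s⁻¹ := by
            rw [pow_succ, pow_two]; group
        _ = s * (s * x⁻¹ * s⁻¹) * s⁻¹ := by rw [hsx]
        _ = s * (s * x * s⁻¹)⁻¹ * s⁻¹ := by group
        _ = s * x * s⁻¹ := by rw [hsx, inv_inv, hsx]
        _ = x⁻¹ := hsx
    rw [hs3] at hmem
    have h2 := Subgroup.orderOf_dvd_natCard _ hmem
    rw [hS, show xC⁻¹ * xC⁻¹ = (xC * xC)⁻¹ by group, orderOf_inv, ← pow_two,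
      orderOf_pow' xC (by norm_num), hxo] at h2
    norm_num at h2
  have hn3 : Nat.card (Sylow 2 C) = 3 := ((Nat.dvd_prime Nat.prime_three).1 hn).resolve_left hn1
  haveI : Fintype (Sylow 2 C) := Fintype.ofFinite _
  set ρ := MulAction.toPermHom C (Sylow 2 C) with hρ
  have hcard3 : Fintype.card (Sylow 2 C) = 3 := by rw [← Nat.card_eq_fintype_card, hn3]
  have hfix : ∀ g : C, ρ g = 1 → ∀ S : Sylow 2 C, g ∈ (S : Subgroup C) := by
    intro g hg S
    have hgS : g • S = S := Equiv.Perm.ext_iff.1 hg S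
    have hgN : g ∈ Subgroup.normalizer ((S : Subgroup C) : Set C) :=
      Sylow.smul_eq_iff_mem_normalizer.1 hgS
    have hNS : Subgroup.normalizer ((S : Subgroup C) : Set C) = (S : Subgroup C) := by
      refine (Subgroup.eq_of_le_of_card_ge Subgroup.le_normalizer ?_).symm
      have h := Small.card_normalizer_mul S
      rw [hn3, hC] at h
      rw [hS]
      omega
    rw [hNS] at hgN
    exact hgN
  have hker2 : ∀ g ∈ ρ.ker, g ^ 128 = 1 := fun g hg => by
    obtain ⟨S⟩ : Nonempty (Sylow 2 C) := inferInstance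
    exact orderOf_dvd_iff_pow_eq_one.1 (hS S ▸ Subgroup.orderOf_dvd_natCard _ (hfix g hg S))
  have hx1 : ρ xC ≠ 1 := fun h => by
    have := hker2 xC h
    rw [← orderOf_dvd_iff_pow_eq_one, hxo] at this
    norm_num at this
  have hker : Nat.card ρ.ker = 64 := by
    have hidx : ρ.ker.index = Nat.card ρ.range := Subgroup.index_ker ρ
    have hle : Nat.card ρ.range ∣ 6 := by
      refine (Subgroup.card_subgroup_dvd_card _).trans (dvd_of_eq ?_)
      rw [Nat.card_perm, hn3]; rfl
    have h3 : 3 ∣ Nat.card ρ.range := by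
      have ho : orderOf (ρ xC) = 3 := orderOf_eq_prime_of_pow Nat.prime_three
        (by rw [← map_pow, ← hxo, pow_orderOf_eq_one, map_one]) hx1
      exact ho ▸ Subgroup.orderOf_dvd_natCard _ (MonoidHom.mem_range.2 ⟨xC, rfl⟩)
    have hmul := ρ.ker.card_mul_index
    rw [hidx, hC] at hmul
    obtain ⟨S⟩ : Nonempty (Sylow 2 C) := inferInstance
    have hne : Nat.card ρ.ker < 128 := by
      rcases Nat.lt_or_ge (Nat.card ρ.ker) 128 with h | h
      · exact h
      exfalso
      have hsub : ρ.ker ≤ (S : Subgroup C) := fun g hg => hfix g hg S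
      have e := Subgroup.eq_of_le_of_card_ge hsub (by rw [hS]; exact h)
      haveI : (S : Subgroup C).Normal := e ▸ ρ.normal_ker
      refine hn1 (Nat.card_eq_one_iff_unique.2 ⟨⟨fun A B => ?_⟩, ⟨S⟩⟩)
      have : ∀ A : Sylow 2 C, A = S := fun A => by
        obtain ⟨g, hg⟩ := MulAction.exists_smul_eq C S A
        rw [← hg]
        exact Sylow.smul_eq_iff_mem_normalizer.2 (Subgroup.mem_normalizer_fintype fun n hn =>
          (inferInstance : (S : Subgroup C).Normal).conj_mem n hn g)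
      rw [this A, this B]
    obtain ⟨j, hj⟩ := h3
    have := Nat.le_of_dvd (by norm_num) hle
    rw [hj] at hmul hle this
    have hj2 : j ≤ 2 := by omega
    interval_cases j <;> omega
  refine ⟨Sylow 2 C, inferInstance, ρ, hcard3, hker, hx1, fun g hg => ?_⟩
  have hg2 : g ^ 2 = 1 := Subtype.ext ((L.four_mem_iff hx).1 hg).2
  have hcg : ρ g * ρ xC = ρ xC * ρ g := by
    rw [← map_mul, ← map_mul]
    exact congrArg ρ (Subtype.ext ((L.four_mem_iff hx).1 hg).1)
  let e := Fintype.equivFinOfCardEq hcard3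
  let Φ : Equiv.Perm (Sylow 2 C) ≃* Equiv.Perm (Fin 3) := e.permCongrHom
  have := perm_three_key (Φ (ρ g)) (Φ (ρ xC)) (by rw [← map_pow, ← map_pow, hg2, map_one, map_one])
    (fun h => hx1 (Φ.injective (h.trans (map_one Φ).symm)))
    (by rw [← map_pow, ← map_pow, show xC ^ 3 = 1 from Subtype.ext (hx ▸ pow_orderOf_eq_one x),
      map_one, map_one])
    (by simpa only [map_mul] using congrArg Φ hcg)
  exact Φ.injective (this.trans (map_one Φ).symm)

end Loc

end Cfsg.Lib.MTwentyTwo
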