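import Cfsg.Agent.Lib.MTwentyTwo.Data

/-!
# The block search, configurations 72 to 95
-/

set_option autoImplicit false
set_option maxRecDepth 100000

namespace Cfsg.Lib.MTwentyTwo

theorem search_72 : (((cfgTable.drop 72).take 8).all fun cfg =>
    (pairs table5 table7 cfg).isEmpty || decide (cfg = goalCfg ∧ pairs table5 table7 cfg = [(5, goal5, goal7)])) = true := by
  decide +kernel

theorem search_80 : (((cfgTable.drop 80).take 8).all fun cfg =>
    (pairs table5 table7 cfg).isEmpty || decide (cfg = goalCfg ∧ pairs table5 table7 cfg = [(5, goal5, goal7)])) = true := by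
  decide +kernel

theorem search_88 : (((cfgTable.drop 88).take 8).all fun cfg =>
    (pairs table5 table7 cfg).isEmpty || decide (cfg = goalCfg ∧ pairs table5 table7 cfg = [(5, goal5, goal7)])) = true := by
  decide +kernel

end Cfsg.Lib.MTwentyTwo
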