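import Cfsg.Agent.Lib.MTwentyTwo.Degrees

/-!
# The elements of order 2 and 3 of a simple group of order 443520

One class of involutions with centralizer order 384, one class of elements of order 3 with
centralizer order 36, and no element of order 9.
-/

set_option autoImplicit false
set_option linter.style.haveILetI false
set_option linter.unusedSectionVars false

namespace Cfsg.Lib.MTwentyTwo

open Cfsg Cfsg.Lib Cfsg.Lib.Block
open scoped ComplexConjugate

universe u

/-- The orders of centralizers of involutions left by the Sylow data. -/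
def invCents : List ℕ :=
  divList.filter fun C => decide (C % 4 = 0 ∧ C % 5 ≠ 0 ∧ C % 7 ≠ 0 ∧ C % 11 ≠ 0 ∧ C ≤ 40320)

/-- The test of a column at an involution. -/
def invTest (C : ℕ) : List ℤ → Bool
  | [o, i, a, b, c, g] =>
    if b = c then
      (dom 99 1 C).all fun e => withInt (1 + e - b) fun d =>
        if d ∈ dom 55 1 C then
          (dom 154 1 C).all fun f => withInt (f + e - a - 1) fun h =>
            if h ∈ dom 231 1 C then
              withInt (1 + 21 * a + 45 * b + 45 * c + 55 * d + 99 * e + 154 * f + 210 * g + 231 * h +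
                560 * i) fun t =>
              if t % 385 = 0 then
                withInt (-(t / 385)) fun k =>
                  decide (1 + a * a + b * b + c * c + d * d + e * e + f * f + g * g + h * h +
                      2 * (i * i) + k * k ≠ C ∨
                    (o = 1 ∧ C = 384 ∧ a = 5 ∧ b = -3 ∧ d = 7 ∧ e = 3 ∧ f = 10 ∧ g = 2 ∧ h = 7 ∧
                      i = -8 ∧ k = 1))
              else true
            else true
        else true
    else true
  | _ => true

theorem inv_check : (invCents.all fun C => (cols goalCfg C).all (invTest C)) = true := by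
  decide +kernel

/-- The test of the two parameters at an element of order 3. -/
theorem three_check : ((List.range 13).all fun s => (List.range 19).all fun r =>
    withInt ((s : ℤ) - 6) fun t => withInt ((r : ℤ) - 9) fun f =>
      decide (f % 3 ≠ 1 ∨ (1152 : ℤ) % (5 + 27 * (t * t) + 14 * (f * f) - 10 * f) ≠ 0 ∨
        (5 + 27 * (t * t) + 14 * (f * f) - 10 * f) % 9 ≠ 0 ∨
        (f = 1 ∧ (t = 0 ∨ t = 1 ∨ t = -1)))) = true := by
  decide +kernel

noncomputable local instance (priority := high) fintypeSubgroupMTwentyTwoColumns {A : Type u}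
    [Group A] [Fintype A] (H : Subgroup A) : Fintype H := Fintype.ofFinite H

variable {G : Type u} [Group G] [Fintype G]

/-- The values at an involution. -/
def InvCol (T : Tbl G) (z : G) : Prop :=
  (T.a : G → ℂ) z = 5 ∧ (T.b : G → ℂ) z = -3 ∧ (T.c : G → ℂ) z = -3 ∧ (T.d : G → ℂ) z = 7 ∧
    (T.e : G → ℂ) z = 3 ∧ (T.f : G → ℂ) z = 10 ∧ (T.g : G → ℂ) z = 2 ∧ (T.h : G → ℂ) z = 7 ∧
    (T.i : G → ℂ) z = -8 ∧ (T.j : G → ℂ) z = -8 ∧ (T.k : G → ℂ) z = 1

/-- The values at an element of order 3. -/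
def ThreeCol (T : Tbl G) (u : G) (a : ℤ) : Prop :=
  (T.a : G → ℂ) u = a ∧ (T.b : G → ℂ) u = 0 ∧ (T.c : G → ℂ) u = 0 ∧ (T.d : G → ℂ) u = 1 ∧
    (T.e : G → ℂ) u = 0 ∧ (T.f : G → ℂ) u = 1 ∧ (T.g : G → ℂ) u = a ∧ (T.h : G → ℂ) u = -a ∧
    (T.i : G → ℂ) u = 1 ∧ (T.j : G → ℂ) u = 1 ∧ (T.k : G → ℂ) u = -2

theorem card_G' (hG : IsM22 G) : Nat.card G = 3 ^ 2 * 49280 := by rw [hG.2]; norm_num

theorem card_sylow_three (hG : IsM22 G) [Fact (Nat.Prime 3)] (S : Sylow 3 G) :
    Nat.card (S : Subgroup G) = 9 := by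
  rw [Small.card_sylow 2 49280 (card_G' hG) (by norm_num) S]; norm_num

namespace Tbl

variable (T : Tbl G)

theorem mem_cases (χ : IrrCharacter G) : χ = Small.one' G ∨ χ = T.a ∨ χ = T.b ∨ χ = T.c ∨ χ = T.d ∨
    χ = T.e ∨ χ = T.f ∨ χ = T.g ∨ χ = T.h ∨ χ = T.i ∨ χ = T.j ∨ χ = T.k := by
  classical
  by_contra hno
  simp only [not_or] at hno
  obtain ⟨h1, h2, h3, h4, h5, h6, h7, h8, h9, h10, h11, h12⟩ := hno
  have h := T.sum_eq fun ψ => if ψ = χ then (1 : ℕ) else 0
  rw [Finset.sum_ite_eq', if_pos (Finset.mem_univ _), if_neg (Ne.symm h1), if_neg (Ne.symm h2),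
    if_neg (Ne.symm h3), if_neg (Ne.symm h4), if_neg (Ne.symm h5), if_neg (Ne.symm h6),
    if_neg (Ne.symm h7), if_neg (Ne.symm h8), if_neg (Ne.symm h9), if_neg (Ne.symm h10),
    if_neg (Ne.symm h11), if_neg (Ne.symm h12)] at h
  exact absurd h (by norm_num)

theorem eq_of_deg_eq {χ : IrrCharacter G} (h : deg χ = 21 ∨ deg χ = 154) :
    χ = T.a ∨ χ = T.f := by
  have := T.ha; have := T.hb; have := T.hc; have := T.hd; have := T.he; have := T.hf
  have := T.hg; have := T.hh; have := T.hi; have := T.hj; have := T.hk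
  have h1 : deg (Small.one' G) = 1 := Small.charDegree_one'
  rcases T.mem_cases χ with e | e | e | e | e | e | e | e | e | e | e | e <;>
    first | exact Or.inl e | exact Or.inr e | (rw [e] at h; omega)

/-- The characters of unique degree 21 and 154 are real. -/
theorem apply_inv_af (x : G) :
    (T.a : G → ℂ) x⁻¹ = (T.a : G → ℂ) x ∧ (T.f : G → ℂ) x⁻¹ = (T.f : G → ℂ) x := by
  have key : ∀ χ : IrrCharacter G, (deg χ = 21 ∨ deg χ = 154) →
      (χ : G → ℂ) x⁻¹ = (χ : G → ℂ) x := by
    intro χ hχ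
    set ψ : IrrCharacter G := ⟨fun g => conj ((χ : G → ℂ) g), Char.isIrrCharacter_conjFn χ.2⟩
    have hd : deg ψ = deg χ := by
      have h : ((deg ψ : ℕ) : ℂ) = ((deg χ : ℕ) : ℂ) := by
        rw [← MEleven.apply_one, ← MEleven.apply_one]
        show conj ((χ : G → ℂ) 1) = (χ : G → ℂ) 1
        rw [MEleven.apply_one, map_natCast]
      exact_mod_cast h
    have e : ψ = χ := by
      rcases T.eq_of_deg_eq (χ := χ) hχ with e | e <;>
        rcases T.eq_of_deg_eq (χ := ψ) (hd ▸ hχ) with e' | e' <;>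
        first
          | exact e'.trans e.symm
          | (exfalso; have h1 := congrArg deg e; have h2 := congrArg deg e'
             rw [hd] at h2; rw [h1] at h2; rw [T.ha, T.hf] at h2; omega)
    rw [χ.2.isCharacter.apply_inv]
    exact congrFun (congrArg Subtype.val e) x
  exact ⟨key _ (Or.inl T.ha), key _ (Or.inr T.hf)⟩

theorem orth {x y : G} (h : ¬ IsConj x y) :
    1 + (T.a : G → ℂ) x * conj ((T.a : G → ℂ) y) + (T.b : G → ℂ) x * conj ((T.b : G → ℂ) y) +
      (T.c : G → ℂ) x * conj ((T.c : G → ℂ) y) + (T.d : G → ℂ) x * conj ((T.d : G → ℂ) y) +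
      (T.e : G → ℂ) x * conj ((T.e : G → ℂ) y) + (T.f : G → ℂ) x * conj ((T.f : G → ℂ) y) +
      (T.g : G → ℂ) x * conj ((T.g : G → ℂ) y) + (T.h : G → ℂ) x * conj ((T.h : G → ℂ) y) +
      (T.i : G → ℂ) x * conj ((T.i : G → ℂ) y) + (T.j : G → ℂ) x * conj ((T.j : G → ℂ) y) +
      (T.k : G → ℂ) x * conj ((T.k : G → ℂ) y) = 0 := by
  classical
  have h' := Char.column_orthogonality x y
  rw [if_neg h, T.sum_eq, Small.one'_apply, Small.one'_apply, map_one, mul_one] at h'
  exact h'

theorem sum_deg {x : G} (hx : x ≠ 1) :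
    1 + 21 * (T.a : G → ℂ) x + 45 * (T.b : G → ℂ) x + 45 * (T.c : G → ℂ) x +
      55 * (T.d : G → ℂ) x + 99 * (T.e : G → ℂ) x + 154 * (T.f : G → ℂ) x +
      210 * (T.g : G → ℂ) x + 231 * (T.h : G → ℂ) x + 280 * (T.i : G → ℂ) x +
      280 * (T.j : G → ℂ) x + 385 * (T.k : G → ℂ) x = 0 := by
  have h := MEleven.sum_column_degree hx
  rw [T.sum_eq, Small.one'_apply] at h
  simp only [show MEleven.deg (Small.one' G) = 1 from Small.charDegree_one',
    show MEleven.deg T.a = 21 from T.ha, show MEleven.deg T.b = 45 from T.hb,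
    show MEleven.deg T.c = 45 from T.hc, show MEleven.deg T.d = 55 from T.hd,
    show MEleven.deg T.e = 99 from T.he, show MEleven.deg T.f = 154 from T.hf,
    show MEleven.deg T.g = 210 from T.hg, show MEleven.deg T.h = 231 from T.hh,
    show MEleven.deg T.i = 280 from T.hi, show MEleven.deg T.j = 280 from T.hj,
    show MEleven.deg T.k = 385 from T.hk] at h
  push_cast at h
  linear_combination h

variable (hG : IsM22 G)
include T hG

theorem not_dvd_centralizer {p r : ℕ} (hp : p = 5 ∨ p = 7 ∨ p = 11) (hr : r.Prime) (hrp : r ≠ p)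
    {x : G} (hx : orderOf x = r) : ¬ p ∣ Nat.card (Subgroup.centralizer ({x} : Set G)) := by
  haveI : Fact p.Prime := ⟨by rcases hp with rfl | rfl | rfl <;> norm_num⟩
  obtain ⟨D⟩ := exists_dat hG p hp
  intro h
  have := D.dvd_c_of_commute hr hrp hx h
  rw [T.no_five D hp] at this
  exact hr.not_dvd_one this

/-- The column at an involution. -/
theorem inv_col {z : G} (hz : orderOf z = 2) :
    Nat.card (Subgroup.centralizer ({z} : Set G)) = 384 ∧ InvCol T z := by
  classical
  set C := Nat.card (Subgroup.centralizer ({z} : Set G))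
  have hz2 : z ^ 2 = 1 := hz ▸ pow_orderOf_eq_one z
  have hz1 : z ≠ 1 := fun e => by rw [e, orderOf_one] at hz; omega
  have hC : C ∈ invCents := by
    refine List.mem_filter.2 ⟨mem_divList (card_centralizer_dvd hG z), decide_eq_true ⟨?_, ?_, ?_, ?_,
      card_centralizer_le hG hz1⟩⟩
    · exact Nat.mod_eq_zero_of_dvd (four_dvd_centralizer hG hz)
    · exact fun h => T.not_dvd_centralizer hG (Or.inl rfl) Nat.prime_two (by norm_num) hz
        (Nat.dvd_of_mod_eq_zero h)
    · exact fun h => T.not_dvd_centralizer hG (Or.inr (Or.inl rfl)) Nat.prime_two (by norm_num) hz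
        (Nat.dvd_of_mod_eq_zero h)
    · exact fun h => T.not_dvd_centralizer hG (Or.inr (Or.inr rfl)) Nat.prime_two (by norm_num) hz
        (Nat.dvd_of_mod_eq_zero h)
  have h := List.all_eq_true.1 (List.all_eq_true.1 inv_check C hC) _ (T.cols_mem z hz)
  have hone : intVal z (Small.one' G) = 1 := intVal_eq (by rw [Small.one'_apply, Int.cast_one])
  have hn5 : ¬ 5 ∣ orderOf z := not_dvd_orderOf (G := G) (by norm_num) (by norm_num) hz
  have hn7 : ¬ 7 ∣ orderOf z := not_dvd_orderOf (G := G) (by norm_num) (by norm_num) hz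
  have hn11 : ¬ 11 ∣ orderOf z := not_dvd_orderOf (G := G) (by norm_num) (by norm_num) hz
  have hbc : intVal z T.b = intVal z T.c :=
    intVal_eq (by rw [cast_intVal _ hz2]; exact T.eq_bc z hn7)
  have hij : intVal z T.i = intVal z T.j :=
    intVal_eq (by rw [cast_intVal _ hz2]; exact T.eq_ij z hn11)
  have hd' := T.rel_seven z hn7
  have hh' := T.rel_five z hn5
  rw [← cast_intVal T.e hz2, ← cast_intVal T.d hz2, ← cast_intVal T.b hz2] at hd'
  rw [← cast_intVal T.h hz2, ← cast_intVal T.f hz2, ← cast_intVal T.e hz2,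
    ← cast_intVal T.a hz2] at hh'
  have hd : 1 + intVal z T.e - intVal z T.b = intVal z T.d := by
    have : 1 + intVal z T.e - intVal z T.d - intVal z T.b = 0 := by exact_mod_cast hd'
    omega
  have hh : intVal z T.f + intVal z T.e - intVal z T.a - 1 = intVal z T.h := by
    have : 1 + intVal z T.h - intVal z T.f - intVal z T.e + intVal z T.a = 0 := by exact_mod_cast hh'
    omega
  have hdom : ∀ χ : IrrCharacter G, intVal z χ ∈ dom (deg χ) 1 C := fun χ => mem_dom_single hG hz χ
  have hdeg := T.sum_eq fun χ => (deg χ : ℤ) * intVal z χ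
  have hsq := T.sum_eq fun χ => intVal z χ * intVal z χ
  rw [sum_deg_intVal hz2 hz1, hone, ← hbc, ← hij, show deg (Small.one' G) = 1 from Small.charDegree_one',
    T.ha, T.hb, T.hc, T.hd, T.he, T.hf, T.hg, T.hh, T.hi, T.hj, T.hk] at hdeg
  rw [sum_intVal_sq hz2, hone, ← hbc, ← hij] at hsq
  simp only [invTest, if_pos hbc, List.all_eq_true, withInt_eq] at h
  have h2 := h _ (T.he ▸ hdom T.e)
  rw [hd, if_pos (T.hd ▸ hdom T.d), List.all_eq_true] at h2
  have h3 := h2 _ (T.hf ▸ hdom T.f)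
  rw [hh, if_pos (T.hh ▸ hdom T.h), ← hbc] at h3
  push_cast at hdeg
  set t := 1 + 21 * intVal z T.a + 45 * intVal z T.b + 45 * intVal z T.b + 55 * intVal z T.d +
    99 * intVal z T.e + 154 * intVal z T.f + 210 * intVal z T.g + 231 * intVal z T.h +
    560 * intVal z T.i with ht
  have hk : t = 385 * -intVal z T.k := by rw [ht]; linarith
  rw [if_pos (by rw [hk]; exact Int.mul_emod_right _ _), hk, Int.mul_ediv_cancel_left _ (by norm_num),
    neg_neg, decide_eq_true_eq] at h3
  obtain ⟨-, hC384, e1, e2, e4, e5, e6, e7, e8, e9, e10⟩ := h3.resolve_left (fun hne => hne (by linarith))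
  refine ⟨hC384, ?_⟩
  simp only [InvCol, ← cast_intVal _ hz2, ← hbc, ← hij, e1, e2, e4, e5, e6, e7, e8, e9, e10]
  norm_num

/-- There is one class of involutions. -/
theorem inv_conj {z z' : G} (hz : orderOf z = 2) (hz' : orderOf z' = 2) : IsConj z z' := by
  by_contra h
  have h' := T.orth h
  obtain ⟨a1, a2, a3, a4, a5, a6, a7, a8, a9, a10, a11⟩ := (T.inv_col hG hz).2
  obtain ⟨b1, b2, b3, b4, b5, b6, b7, b8, b9, b10, b11⟩ := (T.inv_col hG hz').2
  simp only [a1, a2, a3, a4, a5, a6, a7, a8, a9, a10, a11, b1, b2, b3, b4, b5, b6, b7, b8, b9, b10,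
    b11, map_neg, map_ofNat, map_one] at h'
  norm_num at h'

theorem zero_at_three_singular {x : G} (hx : 3 ∣ orderOf x) :
    (T.b : G → ℂ) x = 0 ∧ (T.c : G → ℂ) x = 0 ∧ (T.e : G → ℂ) x = 0 := by
  haveI : Fact (Nat.Prime 3) := ⟨Nat.prime_three⟩
  have hfac : (Nat.card G).factorization 3 = 2 := by
    rw [card_G' hG, Nat.factorization_mul (by norm_num) (by norm_num), Finsupp.add_apply,
      Nat.Prime.factorization_pow Nat.prime_three, Finsupp.single_eq_same,
      Nat.factorization_eq_zero_of_not_dvd (by norm_num : ¬ 3 ∣ 49280)]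
  have key : ∀ (χ : IrrCharacter G) (n : ℕ), ¬ 3 ∣ n → deg χ = 3 ^ 2 * n → (χ : G → ℂ) x = 0 := by
    intro χ n hn hd
    refine MEleven.apply_eq_zero_of_defectZero (p := 3) χ ?_ hx
    show (deg χ).factorization 3 = _
    rw [hfac, hd, Nat.factorization_mul (by norm_num) (by rintro rfl; norm_num at hn),
      Finsupp.add_apply, Nat.Prime.factorization_pow Nat.prime_three, Finsupp.single_eq_same,
      Nat.factorization_eq_zero_of_not_dvd hn]
  exact ⟨key _ 5 (by norm_num) T.hb, key _ 5 (by norm_num) T.hc, key _ 11 (by norm_num) T.he⟩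

/-- The linear relations at a 3-singular element with order prime to 5, 7 and 11. -/
theorem three_singular {z x : G} (hz : orderOf z = 2) (hx : orderOf x = 3 ∨ orderOf x = 9) :
    (T.b : G → ℂ) x = 0 ∧ (T.c : G → ℂ) x = 0 ∧ (T.e : G → ℂ) x = 0 ∧ (T.d : G → ℂ) x = 1 ∧
      (T.j : G → ℂ) x = (T.i : G → ℂ) x ∧ (T.i : G → ℂ) x = (T.f : G → ℂ) x ∧
      (T.g : G → ℂ) x = (T.f : G → ℂ) x + (T.a : G → ℂ) x - 1 ∧
      (T.h : G → ℂ) x = (T.f : G → ℂ) x - (T.a : G → ℂ) x - 1 ∧
      (T.k : G → ℂ) x = 1 - 3 * (T.f : G → ℂ) x := by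
  have h5 : ¬ 5 ∣ orderOf x := by rcases hx with e | e <;> rw [e] <;> norm_num
  have h7 : ¬ 7 ∣ orderOf x := by rcases hx with e | e <;> rw [e] <;> norm_num
  have h11 : ¬ 11 ∣ orderOf x := by rcases hx with e | e <;> rw [e] <;> norm_num
  obtain ⟨hb, hc, he⟩ := T.zero_at_three_singular hG (x := x)
    (by rcases hx with e | e <;> rw [e] <;> norm_num)
  have r11 := T.rel_eleven x h11
  have r5 := T.rel_five x h5
  have r7 := T.rel_seven x h7
  rw [hb, hc] at r11
  rw [he] at r5
  rw [hb, he] at r7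
  have hj := (T.eq_ij x h11).symm
  have hx1 : x ≠ 1 := fun e => by rcases hx with e' | e' <;> rw [e, orderOf_one] at e' <;> omega
  have hne : ¬ IsConj x z := fun h => by
    obtain ⟨w, rfl⟩ := isConj_iff.1 h
    rw [show orderOf (w * x * w⁻¹) = orderOf x from (MulAut.conj w).orderOf_eq x] at hz
    omega
  have ho := T.orth hne
  obtain ⟨a1, a2, a3, a4, a5, a6, a7, a8, a9, a10, a11⟩ := (T.inv_col hG hz).2
  simp only [a1, a2, a3, a4, a5, a6, a7, a8, a9, a10, a11, map_neg, map_ofNat, map_one] at ho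
  have hd := T.sum_deg hx1
  rw [hj, hb, hc, he] at ho hd
  refine ⟨hb, hc, he, ?_, hj, ?_, ?_, ?_, ?_⟩
  all_goals grind

/-- The column at an element of order 3, up to one parameter. -/
theorem three_col_aux {u : G} (hu : orderOf u = 3) :
    ∃ a : ℤ, (a = 0 ∨ a = 3 ∨ a = -3) ∧ ThreeCol T u a ∧ IsConj u u⁻¹ := by
  classical
  haveI : Fact (Nat.Prime 3) := ⟨Nat.prime_three⟩
  haveI : Fact (Nat.Prime 2) := ⟨Nat.prime_two⟩
  obtain ⟨z, hz⟩ := exists_prime_orderOf_dvd_card' (G := G) 2 (by rw [hG.2]; norm_num)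
  obtain ⟨hb, hc, he, hd, hj, hi, hg, hh, hk⟩ := T.three_singular hG hz (Or.inl hu)
  obtain ⟨hb', hc', he', hd', hj', hi', hg', hh', hk'⟩ :=
    T.three_singular hG hz (x := u⁻¹) (Or.inl (by rw [orderOf_inv, hu]))
  obtain ⟨hai, hfi⟩ := T.apply_inv_af u
  have hconj : IsConj u u⁻¹ := by
    by_contra hne
    have h := Char.column_orthogonality u u⁻¹
    rw [if_neg hne] at h
    have e : ∀ χ : IrrCharacter G, (χ : G → ℂ) u⁻¹ = (χ : G → ℂ) u := by
      intro χ
      rcases T.mem_cases χ with e | e | e | e | e | e | e | e | e | e | e | e <;> subst e <;>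
        simp [Small.one'_apply, hb, hc, he, hd, hj, hi, hg, hh, hk, hb', hc', he', hd', hj', hi',
          hg', hh', hk', hai, hfi]
    have h2 := Char.column_orthogonality u u
    rw [if_pos (IsConj.refl u)] at h2
    rw [Finset.sum_congr rfl fun χ _ => by rw [e χ], h2] at h
    exact Nat.card_pos.ne' (by exact_mod_cast h)
  have hu3 : u ^ 3 = 1 := hu ▸ pow_orderOf_eq_one u
  have hint : ∀ χ : IrrCharacter G, ∃ m : ℤ, (χ : G → ℂ) u = m := fun χ =>
    MEleven.exists_int_value χ fun k hk => by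
      have hk3 : k % 3 = 1 ∨ k % 3 = 2 := by
        have : ¬ 3 ∣ k := fun h => by
          have h3 : 3 ∣ Nat.gcd k (Nat.card G) := Nat.dvd_gcd h ⟨147840, by rw [hG.2]⟩
          rw [Nat.Coprime.gcd_eq_one hk] at h3
          omega
        omega
      rw [← pow_mod_orderOf u k, hu]
      rcases hk3 with h | h <;> rw [h]
      · rw [pow_one]
      · rw [show u ^ 2 = u⁻¹ from eq_inv_of_mul_eq_one_left (by rw [← pow_succ, hu3])]
        exact hconj
  obtain ⟨a, ha⟩ := hint T.a
  obtain ⟨f, hf⟩ := hint T.f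
  have hmod : ∀ (χ : IrrCharacter G) {m : ℤ}, (χ : G → ℂ) u = m → (3 : ℤ) ∣ m - deg χ := fun χ m hm =>
    MEleven.int_modEq_deg (p := 3) χ (k := 1) (by rw [hu, pow_one]) hm
  have h3a := hmod _ ha
  have h3f := hmod _ hf
  rw [T.ha] at h3a
  rw [T.hf] at h3f
  push_cast at h3a h3f
  obtain ⟨t, rfl⟩ : (3 : ℤ) ∣ a := by omega
  set C := Nat.card (Subgroup.centralizer ({u} : Set G))
  have hCeq : (C : ℤ) = 5 + 27 * (t * t) + 14 * (f * f) - 10 * f := by
    have h := Char.column_orthogonality u u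
    rw [if_pos (IsConj.refl u), T.sum_eq, Small.one'_apply, hb, hc, he, hd, hj, hi, hg, hh, hk, ha,
      hf] at h
    simp only [map_sub, map_add, map_mul, map_ofNat, map_one, map_zero, map_intCast] at h
    apply Int.cast_injective (α := ℂ)
    push_cast at h ⊢
    linear_combination -h
  have hu1 : u ≠ 1 := fun e => by rw [e, orderOf_one] at hu; omega
  have h9 : 9 ∣ C := by
    obtain ⟨S, hS⟩ := (IsPGroup.of_card (G := ↥(Subgroup.zpowers u)) (p := 3) (n := 1)
      (by rw [Nat.card_zpowers, hu, pow_one])).exists_le_sylow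
    rw [← card_sylow_three hG S]
    refine Subgroup.card_dvd_of_le fun s hs => Subgroup.mem_centralizer_singleton_iff.2 ?_
    have hcomm := @IsPGroup.commutative_of_card_eq_prime_sq 3 (S : Subgroup G) _ _
      (by rw [card_sylow_three hG S]; norm_num)
    exact congrArg Subtype.val (hcomm ⟨s, hs⟩ ⟨u, hS (Subgroup.mem_zpowers u)⟩)
  have h1152 : C ∣ 1152 := by
    have hd : C ∣ 1152 * (5 * 7 * 11) := by
      have := card_centralizer_dvd hG u
      rwa [ord] at this
    refine Nat.Coprime.dvd_of_dvd_mul_right ?_ hd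
    have h5 := T.not_dvd_centralizer hG (Or.inl rfl) Nat.prime_three (by norm_num) hu
    have h7 := T.not_dvd_centralizer hG (Or.inr (Or.inl rfl)) Nat.prime_three (by norm_num) hu
    have h11 := T.not_dvd_centralizer hG (Or.inr (Or.inr rfl)) Nat.prime_three (by norm_num) hu
    refine Nat.Coprime.mul_right (Nat.Coprime.mul_right ?_ ?_) ?_
    · exact ((Nat.Prime.coprime_iff_not_dvd (by norm_num)).2 h5).symm
    · exact ((Nat.Prime.coprime_iff_not_dvd (by norm_num)).2 h7).symm
    · exact ((Nat.Prime.coprime_iff_not_dvd (by norm_num)).2 h11).symm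
  have hle := Nat.le_of_dvd (by norm_num) h1152
  have htt : t * t ≤ 45 := by nlinarith [sq_nonneg (14 * f - 5)]
  have hff : 14 * (f * f) - 10 * f ≤ 1147 := by nlinarith [mul_self_nonneg t]
  have ht6 : -6 ≤ t ∧ t ≤ 6 := ⟨by nlinarith, by nlinarith⟩
  have hf9 : -9 ≤ f ∧ f ≤ 9 := ⟨by nlinarith, by nlinarith⟩
  have h := List.all_eq_true.1 (List.all_eq_true.1 three_check (t + 6).toNat
    (List.mem_range.2 (by omega))) (f + 9).toNat (List.mem_range.2 (by omega))
  rw [withInt_eq, withInt_eq, Int.toNat_of_nonneg (by omega), Int.toNat_of_nonneg (by omega),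
    add_sub_cancel_right, add_sub_cancel_right, decide_eq_true_eq, ← hCeq] at h
  have k1 : (1152 : ℤ) % (C : ℤ) = 0 :=
    Int.emod_eq_zero_of_dvd (by exact_mod_cast h1152)
  have k2 : (C : ℤ) % 9 = 0 := Int.emod_eq_zero_of_dvd (by exact_mod_cast h9)
  have hfin : f = 1 ∧ (t = 0 ∨ t = 1 ∨ t = -1) := by
    rcases h with h | h | h | h
    · omega
    · exact absurd k1 h
    · exact absurd k2 h
    · exact h
  refine ⟨3 * t, by omega, ?_, hconj⟩
  simp only [ThreeCol, hb, hc, he, hd, hj, hi, hg, hh, hk, ha, hf, hfin.1]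
  norm_num

/-- No element has order 9. -/
theorem no_nine (v : G) : orderOf v ≠ 9 := by
  intro hv
  haveI : Fact (Nat.Prime 3) := ⟨Nat.prime_three⟩
  haveI : Fact (Nat.Prime 2) := ⟨Nat.prime_two⟩
  obtain ⟨z, hz⟩ := exists_prime_orderOf_dvd_card' (G := G) 2 (by rw [hG.2]; norm_num)
  have hu : orderOf (v ^ 3) = 3 := by rw [orderOf_pow' v (by norm_num), hv]; norm_num
  obtain ⟨a, ha, ⟨u1, u2, u3, u4, u5, u6, u7, u8, u9, u10, u11⟩, -⟩ := T.three_col_aux hG hu
  have hne : ¬ IsConj v (v ^ 3) := fun h => by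
    obtain ⟨w, hw⟩ := isConj_iff.1 h
    rw [← hw, show orderOf (w * v * w⁻¹) = orderOf v from (MulAut.conj w).orderOf_eq v, hv] at hu
    omega
  have h := T.orth hne
  obtain ⟨hb, hc, he, hd, hj, hi, hg, hh, hk⟩ := T.three_singular hG hz (Or.inr hv)
  obtain ⟨t, rfl⟩ : (3 : ℤ) ∣ a := by omega
  simp only [u1, u2, u3, u4, u5, u6, u7, u8, u9, u10, u11, hb, hc, he, hd, hj, hi, hg, hh, hk,
    map_neg, map_ofNat, map_one, map_zero, map_intCast] at h
  push_cast at h
  have hta : (t : ℂ) * (T.a : G → ℂ) v + (T.f : G → ℂ) v = 0 := by linear_combination h / 9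
  obtain ⟨M, hM⟩ := Block.exists_isPModular Nat.prime_three
  have hord : orderOf v = 3 ^ 2 := by rw [hv]; norm_num
  have hR : pReg 3 v = 1 := by
    have h1 : pPt 3 v = v :=
      (Block.eq_pPt (p := 3) (mul_one v) (Commute.one_right v) hord (by simp)).symm
    have h2 := Block.pPt_mul_pReg (p := 3) v
    rw [h1] at h2
    exact mul_left_cancel (h2.trans (mul_one v).symm)
  have key : ∀ χ : IrrCharacter G, MemLocalIdeal M ((χ : G → ℂ) v - (deg χ : ℂ)) := fun χ => by
    have h := Block.charVal_sub_pReg_mem (p := 3) hM χ.2.isCharacter v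
    rwa [hR, MEleven.apply_one] at h
  have hm := Block.memLocalIdeal_add hM
    (Block.memLocalIdeal_mul_left hM (Block.isIntegral_mem_locRing hM (z := (t : ℂ))
      (isIntegral_algebraMap (x := t))) (key T.a)) (key T.f)
  rw [T.ha, T.hf] at hm
  have h3 : (3 : ℤ) ∣ -(21 * t + 154) := by
    refine Block.int_dvd_of_memLocalIdeal (p := 3) hM ?_
    convert hm using 1
    push_cast
    linear_combination -hta
  omega

/-- The centralizer and column of an element of order 3. -/
theorem three_col {u : G} (hu : orderOf u = 3) :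
    Nat.card (Subgroup.centralizer ({u} : Set G)) = 36 ∧ ThreeCol T u 3 := by
  classical
  haveI : Fact (Nat.Prime 3) := ⟨Nat.prime_three⟩
  obtain ⟨a, ha, hcol, -⟩ := T.three_col_aux hG hu
  have hconj : ∀ w : G, orderOf w = 3 → IsConj u w := by
    intro w hw
    by_contra hne
    obtain ⟨b, hb, ⟨w1, w2, w3, w4, w5, w6, w7, w8, w9, w10, w11⟩, -⟩ := T.three_col_aux hG hw
    obtain ⟨u1, u2, u3, u4, u5, u6, u7, u8, u9, u10, u11⟩ := hcol
    have h := T.orth hne
    simp only [u1, u2, u3, u4, u5, u6, u7, u8, u9, u10, u11, w1, w2, w3, w4, w5, w6, w7, w8, w9, w10,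
      w11, map_neg, map_ofNat, map_one, map_zero, map_intCast] at h
    rcases ha with rfl | rfl | rfl <;> rcases hb with rfl | rfl | rfl <;>
      (push_cast at h; norm_num at h)
  obtain ⟨S⟩ : Nonempty (Sylow 3 G) := inferInstance
  have hS9 := card_sylow_three hG S
  obtain ⟨n, hn⟩ := MEleven.exists_nat_sum T.a (S : Subgroup G)
  have hval : ∀ s : (S : Subgroup G), s ≠ 1 → (T.a : G → ℂ) s = a := by
    intro s hs
    have hd : orderOf (s : G) ∣ 9 := hS9 ▸ Subgroup.orderOf_dvd_natCard _ s.2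
    obtain ⟨k, hk, hk'⟩ := (Nat.dvd_prime_pow Nat.prime_three).1
      (show orderOf (s : G) ∣ 3 ^ 2 by simpa using hd)
    have h3 : orderOf (s : G) = 3 := by
      interval_cases k
      · exact absurd (Subtype.ext (orderOf_eq_one_iff.1 (by simpa using hk'))) hs
      · simpa using hk'
      · exact absurd (by simpa using hk') (T.no_nine hG (s : G))
    obtain ⟨c, hc⟩ := isConj_iff.1 (hconj _ h3)
    rw [← hc, T.a.2.isClassFunction]
    exact hcol.1
  rw [← Finset.add_sum_erase _ _ (Finset.mem_univ (1 : (S : Subgroup G))), OneMemClass.coe_one,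
    MEleven.apply_one, show MEleven.deg T.a = 21 from T.ha, Finset.sum_congr rfl fun s hs => hval s (Finset.ne_of_mem_erase hs),
    Finset.sum_const, Finset.card_erase_of_mem (Finset.mem_univ _), Finset.card_univ,
    ← Nat.card_eq_fintype_card, hS9, nsmul_eq_mul] at hn
  have hn' : 21 + 8 * a = ((9 * n : ℕ) : ℤ) := by
    have : ((21 + 8 * a : ℤ) : ℂ) = (((9 * n : ℕ) : ℤ) : ℂ) := by
      push_cast at hn ⊢
      linear_combination hn
    exact_mod_cast this
  have ha3 : a = 3 := by push_cast at hn'; omega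
  subst ha3
  refine ⟨?_, hcol⟩
  obtain ⟨u1, u2, u3, u4, u5, u6, u7, u8, u9, u10, u11⟩ := hcol
  have h := Char.column_orthogonality u u
  rw [if_pos (IsConj.refl u), T.sum_eq, Small.one'_apply, u1, u2, u3, u4, u5, u6, u7, u8, u9, u10,
    u11] at h
  simp only [map_neg, map_ofNat, map_one, map_zero, map_intCast, Int.cast_ofNat] at h
  norm_num at h
  rw [← Nat.card_eq_fintype_card] at h
  exact_mod_cast h.symm

/-- There is one class of elements of order 3. -/
theorem three_conj {u w : G} (hu : orderOf u = 3) (hw : orderOf w = 3) : IsConj u w := by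
  by_contra hne
  obtain ⟨-, u1, u2, u3, u4, u5, u6, u7, u8, u9, u10, u11⟩ := T.three_col hG hu
  obtain ⟨-, w1, w2, w3, w4, w5, w6, w7, w8, w9, w10, w11⟩ := T.three_col hG hw
  have h := T.orth hne
  simp only [u1, u2, u3, u4, u5, u6, u7, u8, u9, u10, u11, w1, w2, w3, w4, w5, w6, w7, w8, w9, w10,
    w11, map_neg, map_ofNat, map_one, map_zero, map_intCast] at h
  norm_num at h

end Tbl

end Cfsg.Lib.MTwentyTwo
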