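import Mathlib

/-!
# A strongly regular graph on 77 vertices

Vertex 0, the sixteen vectors of a four-dimensional space over the field with two elements as
vertices 1, ..., 16, and the sixty cosets of the fifteen totally isotropic planes of a symplectic form as
vertices 17, ..., 76. Its group of automorphisms has order at most 887040.
-/

set_option autoImplicit false

namespace Cfsg.Lib.MTwentyTwo

/-- The fifteen planes, as bit masks. -/
def planeMasks : List ℕ := [51, 771, 12291, 85, 1285, 20485, 153, 2313,
  36873, 33825, 18465, 33345, 17025, 10305, 9345]

/-- The sixty cosets, as bit masks, four for each plane. -/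
def cosetMasks : List ℕ := [51, 204, 13056, 52224, 771, 3084, 12336, 49344,
  12291, 49164, 816, 3264, 85, 170, 21760, 43520,
  1285, 2570, 20560, 41120, 20485, 40970, 1360, 2720,
  153, 102, 39168, 26112, 2313, 1542, 37008, 24672,
  36873, 24582, 2448, 1632, 33825, 18450, 8580, 4680,
  18465, 33810, 4740, 8520, 33345, 16770, 10260, 5160,
  17025, 33090, 6180, 9240, 10305, 5250, 33300, 16680,
  9345, 6210, 33060, 16920]

/-- The mask of the coset with index `k`. -/
def cm (k : ℕ) : ℕ := cosetMasks.getD k 0

/-- Adjacency in the graph on 77 vertices. -/
def adj0 (i j : Fin 77) : Bool :=
  if i.val = 0 then decide (1 ≤ j.val ∧ j.val ≤ 16)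
  else if i.val ≤ 16 then decide (j.val = 0) || (decide (17 ≤ j.val) && (cm (j.val - 17)).testBit (i.val - 1))
  else if j.val ≤ 16 then decide (1 ≤ j.val) && (cm (i.val - 17)).testBit (j.val - 1)
  else decide ((i.val - 17) / 4 ≠ (j.val - 17) / 4) && decide (cm (i.val - 17) &&& cm (j.val - 17) = 0)

/-- The neighbourhoods, as bit masks. -/
def nbrMasks : List ℕ := [131070, 10074381830121909780481, 20148763660243783778305,
  40297526119381172748289, 80595050437762227634177, 78223726884661135278081,
  42667476955519621660673, 19557084330297571672065, 10667444646077786226689,
  42580888254782607196161, 77958899409533801070593, 10939221065406495064065,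
  19636723492951941971969, 20236727479863242915841, 10340590428930833907713,
  80321898937677501169665, 40216505874102954754049, 1837495043045195878,
  459393556891566488, 459373761028711936, 1837475246825904128,
  470392396195474703878, 117598415785611106328, 117598099049121341536,
  470392079458648162688, 120420352070224683753478, 30105093085342707974168,
  30105088017556187645536, 120420347002438141221248, 5926016561527762976938,
  2963008293958021808468, 2963008274896955812352, 5926016541006408143872,
  94447420152977700162058, 47223710287595095200788, 47223709971625606684832,
  94447419835628453445952, 370382788846061395978, 185194772122952613908,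
  185189705618703780512, 370377722250544551232, 56889764704669956309298,
  85334641075658457350348, 85334644066325251961344, 56889761713993495792640,
  3542645204873560199698, 5313962155769021336588, 5313964981436576506144,
  3542642379051348574400, 13889476734434222098, 20833840442862780428,
  20834026122586886944, 13889288580204858560, 94462897475456357697602,
  47246151864663176679460, 94468519656641176683272, 47237935610092992996496,
  3910818041948348911682, 5497238138252803508260, 5681624513784289830152,
  3726269536830277960336, 6345737382254568604802, 3394287040910275412740,
  6013724699375427407912, 3062216937135885264976, 56697509076445851321602,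
  85030987404732729983620, 85010955393177875394632, 56676035913834871932976,
  113360718921201732309122, 113349622157274618276100, 28358554680665563005992,
  28346593014503761281616, 7305000738427410336002, 7415636173496233504900,
  2103018916238487257672, 1992293409228656247856]

/-- The mask of the neighbours of a vertex. -/
def nb (i : Fin 77) : ℕ := nbrMasks.getD i.val 0

theorem adj0_eq : ∀ i j : Fin 77, adj0 i j = (nb i).testBit j.val := by
  decide +kernel

theorem adj0_symm : ∀ i j : Fin 77, adj0 i j = adj0 j i := by
  decide +kernel

/-- The base points. -/
def basePts : List (Fin 77) := [0, 1, 2, 3, 5, 9]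

/-- The vertices determined in the successive steps. -/
def closureSteps : List (List (Fin 77)) := [[17, 21, 25, 29, 33, 37, 41, 45],
  [4, 6, 7, 8, 10, 11, 12, 13, 14, 15, 16, 18, 19, 20, 22, 23, 24, 26, 27, 28, 30, 31, 32, 34, 35, 36, 38, 39, 40, 42, 43, 44, 46, 47, 48, 50, 51, 52, 54, 55, 56, 58, 59, 60, 62, 63, 64, 66, 67, 68, 70, 71, 72, 74, 75, 76],
  [49, 53, 57, 61, 65, 69, 73]]

/-- One step: each new vertex is the only vertex with its neighbours among the old ones. -/
def stepOK : List (Fin 77) → List (List (Fin 77)) → Bool
  | done, [] => (List.finRange 77).all fun w => done.contains w
  | done, new :: rest =>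
    let m := done.foldl (fun a s => a ||| 2 ^ s.val) 0
    (new.all fun w => (List.finRange 77).all fun u => u == w || nb u &&& m != nb w &&& m) &&
      stepOK (done ++ new) rest

theorem closure_ok : stepOK basePts closureSteps = true := by
  decide +kernel

/-- Three vectors with a common neighbour other than the vertex 0. -/
def common (a b : Fin 77) : Bool := nb 1 &&& nb a &&& nb b != 1

/-- The candidates for the images of the symplectic basis. -/
def vecs : List (Fin 77) := (List.finRange 77).filter fun a => decide (2 ≤ a.val ∧ a.val ≤ 16)

/-- The possible images of the symplectic basis. -/
def basisImages : List (List (Fin 77)) :=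
  vecs.flatMap fun a =>
    (vecs.filter fun b => b != a && !common a b).flatMap fun b =>
      (vecs.filter fun c => c != a && c != b && common a c && common b c).flatMap fun c =>
        ((vecs.filter fun e => e != a && e != b && common a e && common b e).filter fun e =>
          e != c && !common c e).map fun e => [a, b, c, e]

theorem card_basisImages : basisImages.length = 720 := by
  decide +kernel

theorem base_common : common 2 3 = false ∧ common 5 9 = false ∧ common 2 5 = true ∧ common 2 9 = true ∧
    common 3 5 = true ∧ common 3 9 = true := by
  decide +kernel

end Cfsg.Lib.MTwentyTwo
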