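import Cfsg.Agent.Lib.MTwentyTwo.Edges
import Cfsg.Agent.Lib.MTwentyTwo.Graph0

/-!
# Coordinates in the elementary group of order 16

The sixteen elements are numbered so that the product is the exclusive or, the first four-group is
`{0, 1, 2, 3}`, the second is `{0, 4, 8, 12}`, and the conjugations by `v`, `x` are explicit maps.
-/

set_option autoImplicit false
set_option linter.style.haveILetI false
set_option linter.unusedSectionVars false

namespace Cfsg.Lib.MTwentyTwo

open Cfsg Cfsg.Lib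

universe u

variable {G : Type u} [Group G]

/-- The elements of a four-group from one of them and an element permuting them. -/
def fourElt (t v : G) (i : Fin 4) : G :=
  if i = 0 then 1 else if i = 1 then t else if i = 2 then v * t * v⁻¹ else t * (v * t * v⁻¹)

/-- The cycle on the nonzero elements. -/
def cyc4 (i : Fin 4) : Fin 4 := if i = 0 then 0 else if i = 1 then 2 else if i = 2 then 3 else 1

/-- The low two bits. -/
def lo4 (n : Fin 16) : Fin 4 := ⟨n.val % 4, Nat.mod_lt _ (by norm_num)⟩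

/-- The high two bits. -/
def hi4 (n : Fin 16) : Fin 4 := ⟨n.val / 4, by omega⟩

/-- The vector with given halves. -/
def mk16 (i j : Fin 4) : Fin 16 := ⟨i.val + 4 * j.val, by omega⟩

theorem lo_hi_xor : ∀ m n : Fin 16, lo4 (m ^^^ n) = lo4 m ^^^ lo4 n ∧ hi4 (m ^^^ n) = hi4 m ^^^ hi4 n := by
  decide +kernel

theorem lo_hi_mk : ∀ i j : Fin 4, lo4 (mk16 i j) = i ∧ hi4 (mk16 i j) = j := by decide

theorem mk_lo_hi : ∀ n : Fin 16, mk16 (lo4 n) (hi4 n) = n := by decide

/-- The action of `v`. -/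
def pv (n : Fin 16) : Fin 16 := mk16 (cyc4 (lo4 n)) (hi4 n)

/-- The action of `x`. -/
def px (n : Fin 16) : Fin 16 := mk16 (lo4 n) (cyc4 (hi4 n))

/-- The coordinates. -/
def coord (x v t b : G) (n : Fin 16) : G := fourElt t v (lo4 n) * fourElt b x (hi4 n)

variable [Finite G]

namespace Loc

variable (L : Loc G) {x v t : G}
include L

theorem fourElt_mem (hx : orderOf x = 3) (hc : x * v = v * x) (ht : t ∈ four x) (i : Fin 4) :
    fourElt t v i ∈ four x := by
  fin_cases i
  · exact one_mem _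
  · exact ht
  · exact L.four_invariant hx hc ht
  · exact mul_mem ht (L.four_invariant hx hc ht)

theorem fourElt_spec (hx : orderOf x = 3) (hv : orderOf v = 3) (hc : x * v = v * x)
    (hne : v ∉ Subgroup.zpowers x) (ht : t ∈ four x) (ht1 : t ≠ 1) :
    (∀ i j : Fin 4, fourElt t v i * fourElt t v j = fourElt t v (i ^^^ j)) ∧
      (∀ i, fourElt t v i = 1 → i = 0) ∧ (∀ i, v * fourElt t v i * v⁻¹ = fourElt t v (cyc4 i)) := by
  set a := v * t * v⁻¹ with ha
  have ham : a ∈ four x := L.four_invariant hx hc ht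
  have sq : ∀ {g : G}, g ∈ four x → g * g = 1 := fun hg => by
    have := ((L.four_mem_iff hx).1 hg).2
    rwa [pow_two] at this
  have ht2 := sq ht
  have ha2 := sq ham
  have hta : t * a = a * t := L.four_comm hx ht ham
  have hfix := L.four_fixed hx hv hc hne ht ht1
  have n1 : a ≠ t := fun e => hfix (conj_eq_iff_commute.1 e)
  have n2 : t * a ≠ 1 := fun e => n1 (mul_left_cancel (e.trans ht2.symm))
  have hv3 : v ^ 3 = 1 := hv ▸ pow_orderOf_eq_one v
  have hww : v⁻¹ = v * v := (eq_inv_of_mul_eq_one_left (by rw [← pow_two, ← pow_succ, hv3])).symm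
  have hcyc : v * a * v⁻¹ = t * a := by
    have e : v * a * v⁻¹ = v⁻¹ * t * v := by
      rw [ha, hww]
      calc v * (v * t * (v * v)) * (v * v) = v * v * t * (v ^ 3 * v) := by
            rw [show v ^ 3 = v * v * v by rw [pow_succ, pow_two]]; group
        _ = v * v * t * v := by rw [hv3, one_mul]
    rcases L.four_cases hx hv hc hne ht ht1 (mul_mem ht ham) n2 with h | h | h
    · exfalso
      have : a = 1 := mul_left_cancel (h.trans (mul_one t).symm)
      exact ht1 (conj_eq_one_iff.1 this)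
    · exact absurd (mul_eq_right.1 h) ht1
    · rw [e, h]
  have h1 : t * (t * a) = a := by rw [← mul_assoc, ht2, one_mul]
  have h2 : t * a * t = a := by rw [hta, mul_assoc, ht2, mul_one]
  have h3 : a * (t * a) = t := by rw [hta, ← mul_assoc, ha2, one_mul]
  have h4 : t * a * a = t := by rw [mul_assoc, ha2, mul_one]
  have h5 : t * a * (t * a) = 1 := sq (mul_mem ht ham)
  refine ⟨fun i j => ?_, fun i hi => ?_, fun i => ?_⟩
  · fin_cases i <;> fin_cases j <;>
      simp only [fourElt, ← ha, Fin.isValue, Fin.reduceFinMk, Fin.reduceEq, if_true, if_false, one_mul, mul_one,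
        ht2, ha2, h1, h2, h3, h4, h5, ← hta] <;> rfl
  · fin_cases i
    · rfl
    · exact absurd hi ht1
    · exact absurd (conj_eq_one_iff.1 hi) ht1
    · exact absurd hi n2
  · fin_cases i
    · show v * 1 * v⁻¹ = 1
      group
    · rfl
    · show v * a * v⁻¹ = t * a
      exact hcyc
    · show v * (t * a) * v⁻¹ = t
      calc v * (t * a) * v⁻¹ = v * t * v⁻¹ * (v * a * v⁻¹) := by group
        _ = a * (t * a) := by rw [hcyc]
        _ = t := h3

end Loc

/-- The data fixing the coordinates. -/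
structure Frame (x v t b : G) (q : G ⧸ normTwo x) : Prop where
  loc : Loc G
  pair : Pair x v
  root : Root x q
  ht : t ∈ four x
  ht1 : t ≠ 1
  hb : b ∈ four v
  hb1 : b ≠ 1

namespace Frame

variable {x v t b : G} {q : G ⧸ normTwo x} (F : Frame x v t b q)
include F

theorem ne' : x ∉ Subgroup.zpowers v := not_mem_zpowers_symm F.pair.ox F.pair.ov F.pair.ne

theorem memA (i : Fin 4) : fourElt t v i ∈ four x :=
  F.loc.fourElt_mem F.pair.ox F.pair.comm F.ht i

theorem memB (i : Fin 4) : fourElt b x i ∈ four v :=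
  F.loc.fourElt_mem F.pair.ov F.pair.comm.symm F.hb i

theorem coord_mem (n : Fin 16) : coord x v t b n ∈ twoCore x :=
  mul_mem (F.pair.four_x_le F.loc (F.memA _)) (F.pair.four_v_le F.loc (F.memB _))

theorem coord_xor (m n : Fin 16) : coord x v t b (m ^^^ n) = coord x v t b m * coord x v t b n := by
  obtain ⟨hA, -, -⟩ := F.loc.fourElt_spec F.pair.ox F.pair.ov F.pair.comm F.pair.ne F.ht F.ht1
  obtain ⟨hB, -, -⟩ := F.loc.fourElt_spec F.pair.ov F.pair.ox F.pair.comm.symm F.ne' F.hb F.hb1
  have hc := F.pair.fours_commute F.loc (F.memA (lo4 n)) (F.memB (hi4 m))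
  simp only [coord, (lo_hi_xor m n).1, (lo_hi_xor m n).2, ← hA, ← hB]
  calc fourElt t v (lo4 m) * fourElt t v (lo4 n) * (fourElt b x (hi4 m) * fourElt b x (hi4 n)) =
        fourElt t v (lo4 m) * (fourElt t v (lo4 n) * fourElt b x (hi4 m)) * fourElt b x (hi4 n) := by group
    _ = fourElt t v (lo4 m) * (fourElt b x (hi4 m) * fourElt t v (lo4 n)) * fourElt b x (hi4 n) := by rw [hc]
    _ = fourElt t v (lo4 m) * fourElt b x (hi4 m) * (fourElt t v (lo4 n) * fourElt b x (hi4 n)) := by group

theorem coord_zero : coord x v t b 0 = 1 := by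
  simp [coord, lo4, hi4, fourElt]

theorem coord_pv (n : Fin 16) : v * coord x v t b n * v⁻¹ = coord x v t b (pv n) := by
  obtain ⟨-, -, hA⟩ := F.loc.fourElt_spec F.pair.ox F.pair.ov F.pair.comm F.pair.ne F.ht F.ht1
  have hB : v * fourElt b x (hi4 n) * v⁻¹ = fourElt b x (hi4 n) :=
    conj_eq_iff_commute.2 ((F.loc.four_mem_iff F.pair.ov).1 (F.memB _)).1.symm
  simp only [coord, pv, (lo_hi_mk _ _).1, (lo_hi_mk _ _).2, ← hA]
  calc v * (fourElt t v (lo4 n) * fourElt b x (hi4 n)) * v⁻¹ =
        v * fourElt t v (lo4 n) * v⁻¹ * (v * fourElt b x (hi4 n) * v⁻¹) := by group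
    _ = _ := by rw [hB]

theorem coord_px (n : Fin 16) : x * coord x v t b n * x⁻¹ = coord x v t b (px n) := by
  obtain ⟨-, -, hB⟩ := F.loc.fourElt_spec F.pair.ov F.pair.ox F.pair.comm.symm F.ne' F.hb F.hb1
  have hA : x * fourElt t v (lo4 n) * x⁻¹ = fourElt t v (lo4 n) :=
    conj_eq_iff_commute.2 ((F.loc.four_mem_iff F.pair.ox).1 (F.memA _)).1.symm
  simp only [coord, px, (lo_hi_mk _ _).1, (lo_hi_mk _ _).2, ← hB]
  calc x * (fourElt t v (lo4 n) * fourElt b x (hi4 n)) * x⁻¹ =
        x * fourElt t v (lo4 n) * x⁻¹ * (x * fourElt b x (hi4 n) * x⁻¹) := by group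
    _ = _ := by rw [hA]

theorem coord_eq_one {n : Fin 16} (h : coord x v t b n = 1) : n = 0 := by
  obtain ⟨-, hA, -⟩ := F.loc.fourElt_spec F.pair.ox F.pair.ov F.pair.comm F.pair.ne F.ht F.ht1
  obtain ⟨-, hB, -⟩ := F.loc.fourElt_spec F.pair.ov F.pair.ox F.pair.comm.symm F.ne' F.hb F.hb1
  have h' := F.pair.mul_injective F.loc (a₁ := (⟨_, F.memA (lo4 n)⟩, ⟨_, F.memB (hi4 n)⟩))
    (a₂ := (1, 1)) (by simpa [coord] using h)
  rw [← mk_lo_hi n, hA _ (congrArg Subtype.val (congrArg Prod.fst h')),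
    hB _ (congrArg Subtype.val (congrArg Prod.snd h'))]
  rfl

theorem coord_injective : Function.Injective (coord x v t b) := by
  intro m n h
  have h0 := F.coord_eq_one (n := m ^^^ n) (by rw [F.coord_xor, h, F.pair.mul_self F.loc (F.coord_mem n)])
  revert h0
  exact (by decide +kernel : ∀ m n : Fin 16, m ^^^ n = 0 → m = n) m n

theorem exists_coord {e : G} (he : e ∈ twoCore x) : ∃ n, coord x v t b n = e := by
  classical
  have hb := (Nat.bijective_iff_injective_and_card
    (fun n : Fin 16 => (⟨coord x v t b n, F.coord_mem n⟩ : twoCore x))).2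
    ⟨fun m n h => F.coord_injective (congrArg Subtype.val h), by
      rw [Nat.card_fin, F.loc.card_two F.pair.ox]⟩
  obtain ⟨n, hn⟩ := hb.2 ⟨e, he⟩
  exact ⟨n, congrArg Subtype.val hn⟩

end Frame

end Cfsg.Lib.MTwentyTwo
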