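import Cfsg.Agent.Lib.MTwentyTwo.Defs

/-!
# The tables of the block search for a simple group of order 443520
-/

set_option autoImplicit false
set_option maxRecDepth 100000

namespace Cfsg.Lib.MTwentyTwo

/-- The configurations at the prime 11. -/
def cfgTable : List (List Slot) :=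
  [
   [⟨1, 1, 1⟩, ⟨1, 336, 2⟩, ⟨-1, 21, 1⟩, ⟨-1, 32, 1⟩, ⟨-1, 32, 1⟩, ⟨-1, 252, 1⟩],
   [⟨1, 1, 1⟩, ⟨1, 336, 2⟩, ⟨-1, 10, 1⟩, ⟨1, 45, 1⟩, ⟨-1, 120, 1⟩, ⟨-1, 252, 1⟩],
   [⟨1, 1, 1⟩, ⟨1, 336, 2⟩, ⟨-1, 21, 1⟩, ⟨1, 56, 1⟩, ⟨-1, 120, 1⟩, ⟨-1, 252, 1⟩],
   [⟨1, 1, 1⟩, ⟨1, 336, 2⟩, ⟨-1, 10, 1⟩, ⟨1, 12, 1⟩, ⟨1, 45, 1⟩, ⟨-1, 384, 1⟩],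
   [⟨1, 1, 1⟩, ⟨1, 336, 2⟩, ⟨1, 12, 1⟩, ⟨-1, 21, 1⟩, ⟨1, 56, 1⟩, ⟨-1, 384, 1⟩],
   [⟨1, 1, 1⟩, ⟨-1, 280, 2⟩, ⟨1, 45, 1⟩, ⟨1, 45, 1⟩, ⟨1, 45, 1⟩, ⟨1, 144, 1⟩],
   [⟨1, 1, 1⟩, ⟨-1, 280, 2⟩, ⟨1, 12, 1⟩, ⟨-1, 21, 1⟩, ⟨1, 144, 1⟩, ⟨1, 144, 1⟩],
   [⟨1, 1, 1⟩, ⟨-1, 280, 2⟩, ⟨1, 12, 1⟩, ⟨1, 12, 1⟩, ⟨1, 45, 1⟩, ⟨1, 210, 1⟩],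
   [⟨1, 1, 1⟩, ⟨-1, 280, 2⟩, ⟨-1, 21, 1⟩, ⟨1, 45, 1⟩, ⟨1, 45, 1⟩, ⟨1, 210, 1⟩],
   [⟨1, 1, 1⟩, ⟨-1, 280, 2⟩, ⟨-1, 32, 1⟩, ⟨1, 45, 1⟩, ⟨1, 56, 1⟩, ⟨1, 210, 1⟩],
   [⟨1, 1, 1⟩, ⟨-1, 280, 2⟩, ⟨1, 45, 1⟩, ⟨-1, 120, 1⟩, ⟨1, 144, 1⟩, ⟨1, 210, 1⟩],
   [⟨1, 1, 1⟩, ⟨-1, 280, 2⟩, ⟨-1, 21, 1⟩, ⟨-1, 120, 1⟩, ⟨1, 210, 1⟩, ⟨1, 210, 1⟩],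
   [⟨1, 1, 1⟩, ⟨-1, 280, 2⟩, ⟨-1, 10, 1⟩, ⟨-1, 10, 1⟩, ⟨-1, 21, 1⟩, ⟨1, 320, 1⟩],
   [⟨1, 1, 1⟩, ⟨-1, 280, 2⟩, ⟨1, 12, 1⟩, ⟨-1, 21, 1⟩, ⟨-1, 32, 1⟩, ⟨1, 320, 1⟩],
   [⟨1, 1, 1⟩, ⟨-1, 192, 2⟩, ⟨1, 45, 1⟩, ⟨1, 45, 1⟩, ⟨1, 45, 1⟩, ⟨1, 56, 1⟩],
   [⟨1, 1, 1⟩, ⟨-1, 192, 2⟩, ⟨-1, 10, 1⟩, ⟨1, 12, 1⟩, ⟨1, 45, 1⟩, ⟨1, 144, 1⟩],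
   [⟨1, 1, 1⟩, ⟨-1, 192, 2⟩, ⟨1, 12, 1⟩, ⟨-1, 21, 1⟩, ⟨1, 56, 1⟩, ⟨1, 144, 1⟩],
   [⟨1, 1, 1⟩, ⟨-1, 192, 2⟩, ⟨-1, 10, 1⟩, ⟨1, 12, 1⟩, ⟨-1, 21, 1⟩, ⟨1, 210, 1⟩],
   [⟨1, 1, 1⟩, ⟨-1, 192, 2⟩, ⟨-1, 32, 1⟩, ⟨-1, 32, 1⟩, ⟨1, 45, 1⟩, ⟨1, 210, 1⟩],
   [⟨1, 1, 1⟩, ⟨-1, 192, 2⟩, ⟨1, 45, 1⟩, ⟨1, 56, 1⟩, ⟨-1, 120, 1⟩, ⟨1, 210, 1⟩],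
   [⟨1, 1, 1⟩, ⟨-1, 192, 2⟩, ⟨1, 12, 1⟩, ⟨-1, 21, 1⟩, ⟨-1, 120, 1⟩, ⟨1, 320, 1⟩],
   [⟨1, 1, 1⟩, ⟨-1, 192, 2⟩, ⟨-1, 21, 1⟩, ⟨1, 144, 1⟩, ⟨-1, 252, 1⟩, ⟨1, 320, 1⟩],
   [⟨1, 1, 1⟩, ⟨-1, 192, 2⟩, ⟨1, 45, 1⟩, ⟨1, 210, 1⟩, ⟨1, 320, 1⟩, ⟨-1, 384, 1⟩],
   [⟨1, 1, 1⟩, ⟨1, 160, 2⟩, ⟨-1, 10, 1⟩, ⟨-1, 10, 1⟩, ⟨-1, 21, 1⟩, ⟨-1, 120, 1⟩],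
   [⟨1, 1, 1⟩, ⟨1, 160, 2⟩, ⟨1, 12, 1⟩, ⟨-1, 21, 1⟩, ⟨-1, 32, 1⟩, ⟨-1, 120, 1⟩],
   [⟨1, 1, 1⟩, ⟨1, 160, 2⟩, ⟨-1, 10, 1⟩, ⟨1, 45, 1⟩, ⟨1, 56, 1⟩, ⟨-1, 252, 1⟩],
   [⟨1, 1, 1⟩, ⟨1, 160, 2⟩, ⟨-1, 21, 1⟩, ⟨1, 56, 1⟩, ⟨1, 56, 1⟩, ⟨-1, 252, 1⟩],
   [⟨1, 1, 1⟩, ⟨1, 160, 2⟩, ⟨-1, 21, 1⟩, ⟨-1, 32, 1⟩, ⟨1, 144, 1⟩, ⟨-1, 252, 1⟩],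
   [⟨1, 1, 1⟩, ⟨1, 160, 2⟩, ⟨-1, 32, 1⟩, ⟨1, 45, 1⟩, ⟨1, 210, 1⟩, ⟨-1, 384, 1⟩],
   [⟨1, 1, 1⟩, ⟨1, 160, 2⟩, ⟨1, 45, 1⟩, ⟨1, 144, 1⟩, ⟨1, 210, 1⟩, ⟨-1, 560, 1⟩],
   [⟨1, 1, 1⟩, ⟨-1, 126, 2⟩, ⟨-1, 10, 1⟩, ⟨1, 45, 1⟩, ⟨1, 45, 1⟩, ⟨1, 45, 1⟩],
   [⟨1, 1, 1⟩, ⟨-1, 126, 2⟩, ⟨1, 12, 1⟩, ⟨1, 12, 1⟩, ⟨1, 45, 1⟩, ⟨1, 56, 1⟩],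
   [⟨1, 1, 1⟩, ⟨-1, 126, 2⟩, ⟨-1, 21, 1⟩, ⟨1, 45, 1⟩, ⟨1, 45, 1⟩, ⟨1, 56, 1⟩],
   [⟨1, 1, 1⟩, ⟨-1, 126, 2⟩, ⟨-1, 32, 1⟩, ⟨1, 45, 1⟩, ⟨1, 56, 1⟩, ⟨1, 56, 1⟩],
   [⟨1, 1, 1⟩, ⟨-1, 126, 2⟩, ⟨-1, 10, 1⟩, ⟨1, 12, 1⟩, ⟨-1, 21, 1⟩, ⟨1, 144, 1⟩],
   [⟨1, 1, 1⟩, ⟨-1, 126, 2⟩, ⟨-1, 32, 1⟩, ⟨-1, 32, 1⟩, ⟨1, 45, 1⟩, ⟨1, 144, 1⟩],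
   [⟨1, 1, 1⟩, ⟨-1, 126, 2⟩, ⟨1, 45, 1⟩, ⟨1, 56, 1⟩, ⟨-1, 120, 1⟩, ⟨1, 144, 1⟩],
   [⟨1, 1, 1⟩, ⟨-1, 126, 2⟩, ⟨-1, 21, 1⟩, ⟨-1, 32, 1⟩, ⟨-1, 32, 1⟩, ⟨1, 210, 1⟩],
   [⟨1, 1, 1⟩, ⟨-1, 126, 2⟩, ⟨-1, 10, 1⟩, ⟨1, 45, 1⟩, ⟨-1, 120, 1⟩, ⟨1, 210, 1⟩],
   [⟨1, 1, 1⟩, ⟨-1, 126, 2⟩, ⟨-1, 21, 1⟩, ⟨1, 56, 1⟩, ⟨-1, 120, 1⟩, ⟨1, 210, 1⟩],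
   [⟨1, 1, 1⟩, ⟨-1, 126, 2⟩, ⟨1, 45, 1⟩, ⟨-1, 120, 1⟩, ⟨-1, 120, 1⟩, ⟨1, 320, 1⟩],
   [⟨1, 1, 1⟩, ⟨-1, 126, 2⟩, ⟨1, 12, 1⟩, ⟨1, 45, 1⟩, ⟨-1, 252, 1⟩, ⟨1, 320, 1⟩],
   [⟨1, 1, 1⟩, ⟨-1, 126, 2⟩, ⟨1, 45, 1⟩, ⟨1, 144, 1⟩, ⟨1, 320, 1⟩, ⟨-1, 384, 1⟩],
   [⟨1, 1, 1⟩, ⟨-1, 126, 2⟩, ⟨-1, 21, 1⟩, ⟨1, 210, 1⟩, ⟨1, 320, 1⟩, ⟨-1, 384, 1⟩],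
   [⟨1, 1, 1⟩, ⟨1, 105, 2⟩, ⟨-1, 21, 1⟩, ⟨-1, 21, 1⟩, ⟨-1, 32, 1⟩, ⟨-1, 32, 1⟩],
   [⟨1, 1, 1⟩, ⟨1, 105, 2⟩, ⟨-1, 10, 1⟩, ⟨-1, 32, 1⟩, ⟨-1, 32, 1⟩, ⟨-1, 32, 1⟩],
   [⟨1, 1, 1⟩, ⟨1, 105, 2⟩, ⟨-1, 10, 1⟩, ⟨1, 12, 1⟩, ⟨1, 12, 1⟩, ⟨-1, 120, 1⟩],
   [⟨1, 1, 1⟩, ⟨1, 105, 2⟩, ⟨-1, 10, 1⟩, ⟨-1, 21, 1⟩, ⟨1, 45, 1⟩, ⟨-1, 120, 1⟩],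
   [⟨1, 1, 1⟩, ⟨1, 105, 2⟩, ⟨-1, 21, 1⟩, ⟨-1, 21, 1⟩, ⟨1, 56, 1⟩, ⟨-1, 120, 1⟩],
   [⟨1, 1, 1⟩, ⟨1, 105, 2⟩, ⟨-1, 10, 1⟩, ⟨-1, 32, 1⟩, ⟨1, 56, 1⟩, ⟨-1, 120, 1⟩],
   [⟨1, 1, 1⟩, ⟨1, 105, 2⟩, ⟨-1, 10, 1⟩, ⟨-1, 120, 1⟩, ⟨-1, 120, 1⟩, ⟨1, 144, 1⟩],
   [⟨1, 1, 1⟩, ⟨1, 105, 2⟩, ⟨1, 45, 1⟩, ⟨1, 45, 1⟩, ⟨1, 56, 1⟩, ⟨-1, 252, 1⟩],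
   [⟨1, 1, 1⟩, ⟨1, 105, 2⟩, ⟨-1, 10, 1⟩, ⟨1, 12, 1⟩, ⟨1, 144, 1⟩, ⟨-1, 252, 1⟩],
   [⟨1, 1, 1⟩, ⟨1, 105, 2⟩, ⟨-1, 32, 1⟩, ⟨-1, 32, 1⟩, ⟨1, 210, 1⟩, ⟨-1, 252, 1⟩],
   [⟨1, 1, 1⟩, ⟨1, 105, 2⟩, ⟨1, 56, 1⟩, ⟨-1, 120, 1⟩, ⟨1, 210, 1⟩, ⟨-1, 252, 1⟩],
   [⟨1, 1, 1⟩, ⟨1, 105, 2⟩, ⟨-1, 10, 1⟩, ⟨1, 144, 1⟩, ⟨1, 144, 1⟩, ⟨-1, 384, 1⟩],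
   [⟨1, 1, 1⟩, ⟨1, 105, 2⟩, ⟨1, 12, 1⟩, ⟨1, 56, 1⟩, ⟨1, 210, 1⟩, ⟨-1, 384, 1⟩],
   [⟨1, 1, 1⟩, ⟨1, 105, 2⟩, ⟨-1, 21, 1⟩, ⟨-1, 21, 1⟩, ⟨1, 320, 1⟩, ⟨-1, 384, 1⟩],
   [⟨1, 1, 1⟩, ⟨1, 105, 2⟩, ⟨-1, 10, 1⟩, ⟨-1, 32, 1⟩, ⟨1, 320, 1⟩, ⟨-1, 384, 1⟩],
   [⟨1, 1, 1⟩, ⟨1, 105, 2⟩, ⟨1, 210, 1⟩, ⟨-1, 252, 1⟩, ⟨1, 320, 1⟩, ⟨-1, 384, 1⟩],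
   [⟨1, 1, 1⟩, ⟨1, 72, 2⟩, ⟨-1, 10, 1⟩, ⟨-1, 21, 1⟩, ⟨-1, 21, 1⟩, ⟨-1, 21, 1⟩],
   [⟨1, 1, 1⟩, ⟨1, 72, 2⟩, ⟨-1, 10, 1⟩, ⟨-1, 10, 1⟩, ⟨-1, 21, 1⟩, ⟨-1, 32, 1⟩],
   [⟨1, 1, 1⟩, ⟨1, 72, 2⟩, ⟨1, 12, 1⟩, ⟨-1, 21, 1⟩, ⟨-1, 32, 1⟩, ⟨-1, 32, 1⟩],
   [⟨1, 1, 1⟩, ⟨1, 72, 2⟩, ⟨-1, 10, 1⟩, ⟨1, 12, 1⟩, ⟨1, 45, 1⟩, ⟨-1, 120, 1⟩],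
   [⟨1, 1, 1⟩, ⟨1, 72, 2⟩, ⟨1, 12, 1⟩, ⟨-1, 21, 1⟩, ⟨1, 56, 1⟩, ⟨-1, 120, 1⟩],
   [⟨1, 1, 1⟩, ⟨1, 72, 2⟩, ⟨-1, 10, 1⟩, ⟨1, 45, 1⟩, ⟨1, 144, 1⟩, ⟨-1, 252, 1⟩],
   [⟨1, 1, 1⟩, ⟨1, 72, 2⟩, ⟨-1, 21, 1⟩, ⟨1, 56, 1⟩, ⟨1, 144, 1⟩, ⟨-1, 252, 1⟩],
   [⟨1, 1, 1⟩, ⟨1, 72, 2⟩, ⟨-1, 10, 1⟩, ⟨-1, 21, 1⟩, ⟨1, 210, 1⟩, ⟨-1, 252, 1⟩],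
   [⟨1, 1, 1⟩, ⟨1, 72, 2⟩, ⟨-1, 21, 1⟩, ⟨-1, 120, 1⟩, ⟨-1, 252, 1⟩, ⟨1, 320, 1⟩],
   [⟨1, 1, 1⟩, ⟨1, 72, 2⟩, ⟨1, 45, 1⟩, ⟨1, 56, 1⟩, ⟨1, 210, 1⟩, ⟨-1, 384, 1⟩],
   [⟨1, 1, 1⟩, ⟨1, 72, 2⟩, ⟨1, 12, 1⟩, ⟨-1, 21, 1⟩, ⟨1, 320, 1⟩, ⟨-1, 384, 1⟩],
   [⟨1, 1, 1⟩, ⟨-1, 60, 2⟩, ⟨-1, 10, 1⟩, ⟨1, 12, 1⟩, ⟨1, 12, 1⟩, ⟨1, 45, 1⟩],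
   [⟨1, 1, 1⟩, ⟨-1, 60, 2⟩, ⟨-1, 10, 1⟩, ⟨-1, 21, 1⟩, ⟨1, 45, 1⟩, ⟨1, 45, 1⟩],
   [⟨1, 1, 1⟩, ⟨-1, 60, 2⟩, ⟨1, 12, 1⟩, ⟨1, 12, 1⟩, ⟨-1, 21, 1⟩, ⟨1, 56, 1⟩],
   [⟨1, 1, 1⟩, ⟨-1, 60, 2⟩, ⟨-1, 21, 1⟩, ⟨-1, 21, 1⟩, ⟨1, 45, 1⟩, ⟨1, 56, 1⟩],
   [⟨1, 1, 1⟩, ⟨-1, 60, 2⟩, ⟨-1, 10, 1⟩, ⟨-1, 32, 1⟩, ⟨1, 45, 1⟩, ⟨1, 56, 1⟩],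
   [⟨1, 1, 1⟩, ⟨-1, 60, 2⟩, ⟨-1, 21, 1⟩, ⟨-1, 32, 1⟩, ⟨1, 56, 1⟩, ⟨1, 56, 1⟩],
   [⟨1, 1, 1⟩, ⟨-1, 60, 2⟩, ⟨-1, 21, 1⟩, ⟨-1, 32, 1⟩, ⟨-1, 32, 1⟩, ⟨1, 144, 1⟩],
   [⟨1, 1, 1⟩, ⟨-1, 60, 2⟩, ⟨-1, 10, 1⟩, ⟨1, 45, 1⟩, ⟨-1, 120, 1⟩, ⟨1, 144, 1⟩],
   [⟨1, 1, 1⟩, ⟨-1, 60, 2⟩, ⟨-1, 21, 1⟩, ⟨1, 56, 1⟩, ⟨-1, 120, 1⟩, ⟨1, 144, 1⟩],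
   [⟨1, 1, 1⟩, ⟨-1, 60, 2⟩, ⟨-1, 10, 1⟩, ⟨-1, 21, 1⟩, ⟨-1, 120, 1⟩, ⟨1, 210, 1⟩],
   [⟨1, 1, 1⟩, ⟨-1, 60, 2⟩, ⟨1, 45, 1⟩, ⟨1, 56, 1⟩, ⟨1, 210, 1⟩, ⟨-1, 252, 1⟩],
   [⟨1, 1, 1⟩, ⟨-1, 60, 2⟩, ⟨-1, 21, 1⟩, ⟨-1, 120, 1⟩, ⟨-1, 120, 1⟩, ⟨1, 320, 1⟩],
   [⟨1, 1, 1⟩, ⟨-1, 60, 2⟩, ⟨1, 12, 1⟩, ⟨-1, 21, 1⟩, ⟨-1, 252, 1⟩, ⟨1, 320, 1⟩],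
   [⟨1, 1, 1⟩, ⟨-1, 60, 2⟩, ⟨-1, 21, 1⟩, ⟨1, 144, 1⟩, ⟨1, 320, 1⟩, ⟨-1, 384, 1⟩],
   [⟨1, 1, 1⟩, ⟨1, 28, 2⟩, ⟨-1, 10, 1⟩, ⟨-1, 10, 1⟩, ⟨1, 12, 1⟩, ⟨-1, 21, 1⟩],
   [⟨1, 1, 1⟩, ⟨1, 28, 2⟩, ⟨1, 12, 1⟩, ⟨1, 12, 1⟩, ⟨-1, 21, 1⟩, ⟨-1, 32, 1⟩],
   [⟨1, 1, 1⟩, ⟨1, 28, 2⟩, ⟨-1, 21, 1⟩, ⟨-1, 21, 1⟩, ⟨-1, 32, 1⟩, ⟨1, 45, 1⟩],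
   [⟨1, 1, 1⟩, ⟨1, 28, 2⟩, ⟨-1, 10, 1⟩, ⟨-1, 32, 1⟩, ⟨-1, 32, 1⟩, ⟨1, 45, 1⟩],
   [⟨1, 1, 1⟩, ⟨1, 28, 2⟩, ⟨-1, 21, 1⟩, ⟨-1, 32, 1⟩, ⟨-1, 32, 1⟩, ⟨1, 56, 1⟩],
   [⟨1, 1, 1⟩, ⟨1, 28, 2⟩, ⟨-1, 10, 1⟩, ⟨1, 45, 1⟩, ⟨1, 56, 1⟩, ⟨-1, 120, 1⟩],
   [⟨1, 1, 1⟩, ⟨1, 28, 2⟩, ⟨-1, 21, 1⟩, ⟨1, 56, 1⟩, ⟨1, 56, 1⟩, ⟨-1, 120, 1⟩],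
   [⟨1, 1, 1⟩, ⟨1, 28, 2⟩, ⟨-1, 21, 1⟩, ⟨-1, 32, 1⟩, ⟨-1, 120, 1⟩, ⟨1, 144, 1⟩],
   [⟨1, 1, 1⟩, ⟨1, 28, 2⟩, ⟨-1, 32, 1⟩, ⟨1, 45, 1⟩, ⟨1, 210, 1⟩, ⟨-1, 252, 1⟩],
   [⟨1, 1, 1⟩, ⟨1, 28, 2⟩, ⟨-1, 10, 1⟩, ⟨1, 45, 1⟩, ⟨1, 320, 1⟩, ⟨-1, 384, 1⟩],
   [⟨1, 1, 1⟩, ⟨1, 28, 2⟩, ⟨-1, 21, 1⟩, ⟨1, 56, 1⟩, ⟨1, 320, 1⟩, ⟨-1, 384, 1⟩],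
   [⟨1, 1, 1⟩, ⟨-1, 16, 2⟩, ⟨1, 12, 1⟩, ⟨1, 12, 1⟩, ⟨1, 12, 1⟩, ⟨-1, 21, 1⟩],
   [⟨1, 1, 1⟩, ⟨-1, 16, 2⟩, ⟨-1, 10, 1⟩, ⟨-1, 10, 1⟩, ⟨-1, 10, 1⟩, ⟨1, 45, 1⟩],
   [⟨1, 1, 1⟩, ⟨-1, 16, 2⟩, ⟨1, 12, 1⟩, ⟨-1, 21, 1⟩, ⟨-1, 21, 1⟩, ⟨1, 45, 1⟩],
   [⟨1, 1, 1⟩, ⟨-1, 16, 2⟩, ⟨-1, 10, 1⟩, ⟨1, 12, 1⟩, ⟨-1, 32, 1⟩, ⟨1, 45, 1⟩],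
   [⟨1, 1, 1⟩, ⟨-1, 16, 2⟩, ⟨-1, 10, 1⟩, ⟨-1, 10, 1⟩, ⟨-1, 21, 1⟩, ⟨1, 56, 1⟩],
   [⟨1, 1, 1⟩, ⟨-1, 16, 2⟩, ⟨1, 12, 1⟩, ⟨-1, 21, 1⟩, ⟨-1, 32, 1⟩, ⟨1, 56, 1⟩],
   [⟨1, 1, 1⟩, ⟨-1, 16, 2⟩, ⟨1, 45, 1⟩, ⟨1, 45, 1⟩, ⟨1, 45, 1⟩, ⟨-1, 120, 1⟩],
   [⟨1, 1, 1⟩, ⟨-1, 16, 2⟩, ⟨1, 12, 1⟩, ⟨-1, 21, 1⟩, ⟨-1, 120, 1⟩, ⟨1, 144, 1⟩],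
   [⟨1, 1, 1⟩, ⟨-1, 16, 2⟩, ⟨1, 45, 1⟩, ⟨-1, 120, 1⟩, ⟨-1, 120, 1⟩, ⟨1, 210, 1⟩],
   [⟨1, 1, 1⟩, ⟨-1, 16, 2⟩, ⟨-1, 21, 1⟩, ⟨1, 144, 1⟩, ⟨1, 144, 1⟩, ⟨-1, 252, 1⟩],
   [⟨1, 1, 1⟩, ⟨-1, 16, 2⟩, ⟨1, 12, 1⟩, ⟨1, 45, 1⟩, ⟨1, 210, 1⟩, ⟨-1, 252, 1⟩],
   [⟨1, 1, 1⟩, ⟨-1, 16, 2⟩, ⟨-1, 21, 1⟩, ⟨-1, 32, 1⟩, ⟨-1, 252, 1⟩, ⟨1, 320, 1⟩],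
   [⟨1, 1, 1⟩, ⟨-1, 16, 2⟩, ⟨1, 45, 1⟩, ⟨1, 144, 1⟩, ⟨1, 210, 1⟩, ⟨-1, 384, 1⟩],
   [⟨1, 1, 1⟩, ⟨-1, 16, 2⟩, ⟨-1, 21, 1⟩, ⟨1, 210, 1⟩, ⟨1, 210, 1⟩, ⟨-1, 384, 1⟩],
   [⟨1, 1, 1⟩, ⟨1, 6, 2⟩, ⟨-1, 10, 1⟩, ⟨1, 12, 1⟩, ⟨1, 12, 1⟩, ⟨-1, 21, 1⟩],
   [⟨1, 1, 1⟩, ⟨1, 6, 2⟩, ⟨-1, 10, 1⟩, ⟨-1, 21, 1⟩, ⟨-1, 21, 1⟩, ⟨1, 45, 1⟩],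
   [⟨1, 1, 1⟩, ⟨1, 6, 2⟩, ⟨-1, 10, 1⟩, ⟨-1, 10, 1⟩, ⟨-1, 32, 1⟩, ⟨1, 45, 1⟩],
   [⟨1, 1, 1⟩, ⟨1, 6, 2⟩, ⟨1, 12, 1⟩, ⟨-1, 32, 1⟩, ⟨-1, 32, 1⟩, ⟨1, 45, 1⟩],
   [⟨1, 1, 1⟩, ⟨1, 6, 2⟩, ⟨-1, 21, 1⟩, ⟨-1, 21, 1⟩, ⟨-1, 21, 1⟩, ⟨1, 56, 1⟩],
   [⟨1, 1, 1⟩, ⟨1, 6, 2⟩, ⟨-1, 10, 1⟩, ⟨-1, 21, 1⟩, ⟨-1, 32, 1⟩, ⟨1, 56, 1⟩],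
   [⟨1, 1, 1⟩, ⟨1, 6, 2⟩, ⟨1, 12, 1⟩, ⟨1, 45, 1⟩, ⟨1, 56, 1⟩, ⟨-1, 120, 1⟩],
   [⟨1, 1, 1⟩, ⟨1, 6, 2⟩, ⟨-1, 10, 1⟩, ⟨-1, 21, 1⟩, ⟨-1, 120, 1⟩, ⟨1, 144, 1⟩],
   [⟨1, 1, 1⟩, ⟨1, 6, 2⟩, ⟨1, 45, 1⟩, ⟨1, 56, 1⟩, ⟨1, 144, 1⟩, ⟨-1, 252, 1⟩],
   [⟨1, 1, 1⟩, ⟨1, 6, 2⟩, ⟨-1, 10, 1⟩, ⟨1, 45, 1⟩, ⟨1, 210, 1⟩, ⟨-1, 252, 1⟩],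
   [⟨1, 1, 1⟩, ⟨1, 6, 2⟩, ⟨-1, 21, 1⟩, ⟨1, 56, 1⟩, ⟨1, 210, 1⟩, ⟨-1, 252, 1⟩],
   [⟨1, 1, 1⟩, ⟨1, 6, 2⟩, ⟨1, 45, 1⟩, ⟨-1, 120, 1⟩, ⟨-1, 252, 1⟩, ⟨1, 320, 1⟩],
   [⟨1, 1, 1⟩, ⟨1, 6, 2⟩, ⟨1, 12, 1⟩, ⟨1, 45, 1⟩, ⟨1, 320, 1⟩, ⟨-1, 384, 1⟩],
   [⟨1, 1, 1⟩, ⟨-1, 5, 2⟩, ⟨-1, 10, 1⟩, ⟨-1, 10, 1⟩, ⟨1, 12, 1⟩, ⟨1, 12, 1⟩],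
   [⟨1, 1, 1⟩, ⟨-1, 5, 2⟩, ⟨1, 12, 1⟩, ⟨1, 12, 1⟩, ⟨1, 12, 1⟩, ⟨-1, 32, 1⟩],
   [⟨1, 1, 1⟩, ⟨-1, 5, 2⟩, ⟨-1, 10, 1⟩, ⟨-1, 10, 1⟩, ⟨-1, 21, 1⟩, ⟨1, 45, 1⟩],
   [⟨1, 1, 1⟩, ⟨-1, 5, 2⟩, ⟨1, 12, 1⟩, ⟨-1, 21, 1⟩, ⟨-1, 32, 1⟩, ⟨1, 45, 1⟩],
   [⟨1, 1, 1⟩, ⟨-1, 5, 2⟩, ⟨-1, 10, 1⟩, ⟨-1, 21, 1⟩, ⟨-1, 21, 1⟩, ⟨1, 56, 1⟩],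
   [⟨1, 1, 1⟩, ⟨-1, 5, 2⟩, ⟨-1, 10, 1⟩, ⟨-1, 10, 1⟩, ⟨-1, 32, 1⟩, ⟨1, 56, 1⟩],
   [⟨1, 1, 1⟩, ⟨-1, 5, 2⟩, ⟨1, 12, 1⟩, ⟨-1, 32, 1⟩, ⟨-1, 32, 1⟩, ⟨1, 56, 1⟩],
   [⟨1, 1, 1⟩, ⟨-1, 5, 2⟩, ⟨1, 12, 1⟩, ⟨1, 56, 1⟩, ⟨1, 56, 1⟩, ⟨-1, 120, 1⟩],
   [⟨1, 1, 1⟩, ⟨-1, 5, 2⟩, ⟨-1, 10, 1⟩, ⟨-1, 10, 1⟩, ⟨-1, 120, 1⟩, ⟨1, 144, 1⟩],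
   [⟨1, 1, 1⟩, ⟨-1, 5, 2⟩, ⟨1, 12, 1⟩, ⟨-1, 32, 1⟩, ⟨-1, 120, 1⟩, ⟨1, 144, 1⟩],
   [⟨1, 1, 1⟩, ⟨-1, 5, 2⟩, ⟨1, 56, 1⟩, ⟨1, 56, 1⟩, ⟨1, 144, 1⟩, ⟨-1, 252, 1⟩],
   [⟨1, 1, 1⟩, ⟨-1, 5, 2⟩, ⟨-1, 32, 1⟩, ⟨1, 144, 1⟩, ⟨1, 144, 1⟩, ⟨-1, 252, 1⟩],
   [⟨1, 1, 1⟩, ⟨-1, 5, 2⟩, ⟨-1, 10, 1⟩, ⟨1, 56, 1⟩, ⟨1, 210, 1⟩, ⟨-1, 252, 1⟩],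
   [⟨1, 1, 1⟩, ⟨-1, 5, 2⟩, ⟨-1, 32, 1⟩, ⟨-1, 32, 1⟩, ⟨-1, 252, 1⟩, ⟨1, 320, 1⟩],
   [⟨1, 1, 1⟩, ⟨-1, 5, 2⟩, ⟨1, 56, 1⟩, ⟨-1, 120, 1⟩, ⟨-1, 252, 1⟩, ⟨1, 320, 1⟩],
   [⟨1, 1, 1⟩, ⟨-1, 5, 2⟩, ⟨-1, 32, 1⟩, ⟨1, 210, 1⟩, ⟨1, 210, 1⟩, ⟨-1, 384, 1⟩],
   [⟨1, 1, 1⟩, ⟨-1, 5, 2⟩, ⟨1, 12, 1⟩, ⟨1, 56, 1⟩, ⟨1, 320, 1⟩, ⟨-1, 384, 1⟩],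
   [⟨1, 1, 1⟩, ⟨-1, 5, 2⟩, ⟨-1, 252, 1⟩, ⟨1, 320, 1⟩, ⟨1, 320, 1⟩, ⟨-1, 384, 1⟩],
   [⟨1, 1, 1⟩, ⟨-1, 5, 2⟩, ⟨1, 144, 1⟩, ⟨1, 210, 1⟩, ⟨1, 210, 1⟩, ⟨-1, 560, 1⟩]]

/-- Centraliser orders. -/
def cs_5_2_2 : List ℕ :=
  [40320, 20160, 6720, 5760, 3360, 2520, 1920, 1260, 1120, 960, 720, 560, 420, 360, 320, 160, 120,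
    60, 20]

/-- Centraliser orders. -/
def cs_5_2_7 : List ℕ :=
  [40320, 20160, 10080, 6720, 5760, 4480, 3360, 2880, 2520, 1680, 1260, 1120, 960, 560, 480, 420,
    360, 280, 180, 160, 80, 60]

/-- Centraliser orders. -/
def cs_5_2_12 : List ℕ :=
  [40320, 20160, 13440, 6720, 5760, 5040, 3360, 2520, 2240, 1920, 1440, 1260, 1120, 960, 840, 720,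
    640, 420, 360, 320, 240, 120, 60, 40, 20]

/-- Centraliser orders. -/
def cs_5_2_32 : List ℕ :=
  [40320, 20160, 6720, 5760, 3360, 1920, 960, 320, 160]

/-- Centraliser orders. -/
def cs_5_2_42 : List ℕ :=
  [40320, 20160, 13440, 10080, 6720, 5760, 5040, 3360, 2880, 2520, 2240, 1920, 1680, 1260, 1120,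
    960, 840, 720, 560, 480, 420, 360, 320, 180, 160, 140, 120, 60, 20]

/-- Centraliser orders. -/
def cs_5_2_112 : List ℕ :=
  [40320, 20160, 10080, 6720, 5760, 4480, 3360, 2880, 1680, 1120, 960, 560, 480, 160, 80]

/-- Centraliser orders. -/
def cs_5_2_192 : List ℕ :=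
  [40320, 20160, 13440, 6720, 5760, 1920, 960, 640, 320]

/-- Centraliser orders. -/
def cs_5_2_672 : List ℕ :=
  [40320, 20160, 13440, 10080, 6720, 5760, 3360, 2880, 2240, 1920, 1120, 960, 480, 320, 160]

/-- Centraliser orders. -/
def cs_5_4_1 : List ℕ :=
  [1152, 384, 128]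

/-- Centraliser orders. -/
def cs_5_4_6 : List ℕ :=
  [40320, 20160, 13440, 10080, 6720, 5760, 5040, 3360, 2880, 2520, 2240, 1920, 1680, 1440, 1260,
    1120, 960, 840, 720, 640, 560, 480, 420, 360, 320, 240, 180, 160, 120, 60, 40, 20]

/-- Centraliser orders. -/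
def cs_5_4_16 : List ℕ :=
  [40320, 20160, 10080, 6720, 5760, 4480, 3360, 2880, 1920, 1680, 960, 480, 320, 160, 80]

/-- Centraliser orders. -/
def cs_5_4_21 : List ℕ :=
  [40320, 20160, 13440, 10080, 6720, 5760, 5040, 4480, 3360, 2880, 2520, 2240, 1920, 1680, 1440,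
    1260, 1120, 960, 840, 720, 560, 480, 420, 360, 320, 280, 240, 180, 160, 140, 120, 80, 60, 20]

/-- Centraliser orders. -/
def cs_5_4_36 : List ℕ :=
  [40320, 20160, 13440, 10080, 6720, 5760, 5040, 4480, 3360, 2880, 2520, 2240, 1920, 1680, 1440,
    1260, 1120, 960, 840, 720, 640, 480, 420, 360, 320, 240, 180, 120, 80, 60, 40, 20]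

/-- Centraliser orders. -/
def cs_5_4_56 : List ℕ :=
  [40320, 20160, 13440, 10080, 6720, 5760, 5040, 4480, 3360, 2880, 2240, 1680, 1440, 1120, 960,
    840, 640, 560, 480, 280, 240, 160, 80, 40]

/-- Centraliser orders. -/
def cs_5_4_96 : List ℕ :=
  [40320, 20160, 13440, 10080, 6720, 5760, 3360, 2880, 1920, 960, 640, 480, 320, 160]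

/-- Centraliser orders. -/
def cs_5_4_126 : List ℕ :=
  [40320, 20160, 13440, 10080, 6720, 5760, 5040, 4480, 3360, 2880, 2520, 2240, 1920, 1680, 1440,
    1260, 1120, 960, 840, 720, 640, 560, 480, 420, 360, 320, 280, 240, 180, 160, 140, 120, 60, 40,
    20]

/-- The options at the prime 5. -/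
def table5 : List Opt :=
  [
   ⟨2, 672, [⟨1, 1, 1⟩, ⟨1, 11, 1⟩, ⟨-1, 12, 2⟩], cs_5_2_672⟩,
   ⟨2, 192, [⟨1, 1, 1⟩, ⟨1, 21, 1⟩, ⟨-1, 22, 2⟩], cs_5_2_192⟩,
   ⟨2, 112, [⟨1, 1, 1⟩, ⟨1, 11, 1⟩, ⟨-1, 12, 2⟩], cs_5_2_112⟩,
   ⟨2, 42, [⟨1, 1, 1⟩, ⟨1, 11, 1⟩, ⟨-1, 12, 2⟩], cs_5_2_42⟩,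
   ⟨2, 32, [⟨1, 1, 1⟩, ⟨1, 21, 1⟩, ⟨-1, 22, 2⟩], cs_5_2_32⟩,
   ⟨2, 32, [⟨1, 1, 1⟩, ⟨1, 11, 1⟩, ⟨-1, 12, 2⟩], cs_5_2_32⟩,
   ⟨2, 12, [⟨1, 1, 1⟩, ⟨1, 21, 1⟩, ⟨-1, 22, 2⟩], cs_5_2_12⟩,
   ⟨2, 12, [⟨1, 1, 1⟩, ⟨1, 11, 1⟩, ⟨-1, 12, 2⟩], cs_5_2_12⟩,
   ⟨2, 7, [⟨1, 1, 1⟩, ⟨1, 11, 1⟩, ⟨-1, 12, 2⟩], cs_5_2_7⟩,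
   ⟨2, 2, [⟨1, 1, 1⟩, ⟨-1, 64, 1⟩, ⟨1, 63, 2⟩], cs_5_2_2⟩,
   ⟨2, 2, [⟨1, 1, 1⟩, ⟨1, 21, 1⟩, ⟨-1, 22, 2⟩], cs_5_2_2⟩,
   ⟨2, 2, [⟨1, 1, 1⟩, ⟨1, 11, 1⟩, ⟨-1, 12, 2⟩], cs_5_2_2⟩,
   ⟨4, 126, [⟨1, 1, 1⟩, ⟨-1, 44, 1⟩, ⟨1, 16, 1⟩, ⟨1, 16, 1⟩, ⟨1, 11, 1⟩], cs_5_4_126⟩,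
   ⟨4, 96, [⟨1, 1, 1⟩, ⟨-1, 44, 1⟩, ⟨1, 21, 1⟩, ⟨1, 11, 1⟩, ⟨1, 11, 1⟩], cs_5_4_96⟩,
   ⟨4, 96, [⟨1, 1, 1⟩, ⟨1, 66, 1⟩, ⟨-1, 44, 1⟩, ⟨-1, 44, 1⟩, ⟨1, 21, 1⟩], cs_5_4_96⟩,
   ⟨4, 96, [⟨1, 1, 1⟩, ⟨-1, 154, 1⟩, ⟨1, 66, 1⟩, ⟨1, 66, 1⟩, ⟨1, 21, 1⟩], cs_5_4_96⟩,
   ⟨4, 56, [⟨1, 1, 1⟩, ⟨1, 36, 1⟩, ⟨-1, 24, 1⟩, ⟨-1, 24, 1⟩, ⟨1, 11, 1⟩], cs_5_4_56⟩,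
   ⟨4, 56, [⟨1, 1, 1⟩, ⟨-1, 44, 1⟩, ⟨1, 16, 1⟩, ⟨1, 16, 1⟩, ⟨1, 11, 1⟩], cs_5_4_56⟩,
   ⟨4, 56, [⟨1, 1, 1⟩, ⟨-1, 99, 1⟩, ⟨1, 66, 1⟩, ⟨1, 16, 1⟩, ⟨1, 16, 1⟩], cs_5_4_56⟩,
   ⟨4, 56, [⟨1, 1, 1⟩, ⟨-1, 144, 1⟩, ⟨1, 66, 1⟩, ⟨1, 66, 1⟩, ⟨1, 11, 1⟩], cs_5_4_56⟩,
   ⟨4, 56, [⟨1, 1, 1⟩, ⟨1, 176, 1⟩, ⟨-1, 144, 1⟩, ⟨-1, 44, 1⟩, ⟨1, 11, 1⟩], cs_5_4_56⟩,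
   ⟨4, 56, [⟨1, 1, 1⟩, ⟨1, 176, 1⟩, ⟨-1, 144, 1⟩, ⟨-1, 99, 1⟩, ⟨1, 66, 1⟩], cs_5_4_56⟩,
   ⟨4, 56, [⟨1, 1, 1⟩, ⟨1, 396, 1⟩, ⟨-1, 264, 1⟩, ⟨-1, 144, 1⟩, ⟨1, 11, 1⟩], cs_5_4_56⟩,
   ⟨4, 36, [⟨1, 1, 1⟩, ⟨1, 16, 1⟩, ⟨-1, 14, 1⟩, ⟨-1, 14, 1⟩, ⟨1, 11, 1⟩], cs_5_4_36⟩,
   ⟨4, 36, [⟨1, 1, 1⟩, ⟨-1, 44, 1⟩, ⟨1, 16, 1⟩, ⟨1, 16, 1⟩, ⟨1, 11, 1⟩], cs_5_4_36⟩,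
   ⟨4, 21, [⟨1, 1, 1⟩, ⟨-1, 44, 1⟩, ⟨1, 16, 1⟩, ⟨1, 16, 1⟩, ⟨1, 11, 1⟩], cs_5_4_21⟩,
   ⟨4, 21, [⟨1, 1, 1⟩, ⟨1, 96, 1⟩, ⟨-1, 64, 1⟩, ⟨-1, 44, 1⟩, ⟨1, 11, 1⟩], cs_5_4_21⟩,
   ⟨4, 16, [⟨1, 1, 1⟩, ⟨1, 36, 1⟩, ⟨-1, 24, 1⟩, ⟨-1, 24, 1⟩, ⟨1, 11, 1⟩], cs_5_4_16⟩,
   ⟨4, 16, [⟨1, 1, 1⟩, ⟨-1, 44, 1⟩, ⟨1, 21, 1⟩, ⟨1, 11, 1⟩, ⟨1, 11, 1⟩], cs_5_4_16⟩,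
   ⟨4, 16, [⟨1, 1, 1⟩, ⟨-1, 44, 1⟩, ⟨1, 36, 1⟩, ⟨1, 21, 1⟩, ⟨-1, 14, 1⟩], cs_5_4_16⟩,
   ⟨4, 16, [⟨1, 1, 1⟩, ⟨1, 56, 1⟩, ⟨-1, 44, 1⟩, ⟨-1, 24, 1⟩, ⟨1, 11, 1⟩], cs_5_4_16⟩,
   ⟨4, 16, [⟨1, 1, 1⟩, ⟨1, 66, 1⟩, ⟨-1, 44, 1⟩, ⟨-1, 44, 1⟩, ⟨1, 21, 1⟩], cs_5_4_16⟩,
   ⟨4, 16, [⟨1, 1, 1⟩, ⟨-1, 84, 1⟩, ⟨1, 36, 1⟩, ⟨1, 36, 1⟩, ⟨1, 11, 1⟩], cs_5_4_16⟩,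
   ⟨4, 16, [⟨1, 1, 1⟩, ⟨-1, 99, 1⟩, ⟨1, 56, 1⟩, ⟨1, 21, 1⟩, ⟨1, 21, 1⟩], cs_5_4_16⟩,
   ⟨4, 16, [⟨1, 1, 1⟩, ⟨-1, 99, 1⟩, ⟨1, 56, 1⟩, ⟨1, 56, 1⟩, ⟨-1, 14, 1⟩], cs_5_4_16⟩,
   ⟨4, 16, [⟨1, 1, 1⟩, ⟨-1, 99, 1⟩, ⟨1, 66, 1⟩, ⟨1, 21, 1⟩, ⟨1, 11, 1⟩], cs_5_4_16⟩,
   ⟨4, 16, [⟨1, 1, 1⟩, ⟨-1, 99, 1⟩, ⟨1, 66, 1⟩, ⟨1, 56, 1⟩, ⟨-1, 24, 1⟩], cs_5_4_16⟩,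
   ⟨4, 16, [⟨1, 1, 1⟩, ⟨1, 126, 1⟩, ⟨-1, 99, 1⟩, ⟨-1, 14, 1⟩, ⟨-1, 14, 1⟩], cs_5_4_16⟩,
   ⟨4, 16, [⟨1, 1, 1⟩, ⟨1, 126, 1⟩, ⟨-1, 99, 1⟩, ⟨-1, 84, 1⟩, ⟨1, 56, 1⟩], cs_5_4_16⟩,
   ⟨4, 16, [⟨1, 1, 1⟩, ⟨-1, 154, 1⟩, ⟨1, 66, 1⟩, ⟨1, 66, 1⟩, ⟨1, 21, 1⟩], cs_5_4_16⟩,
   ⟨4, 16, [⟨1, 1, 1⟩, ⟨-1, 154, 1⟩, ⟨1, 126, 1⟩, ⟨1, 126, 1⟩, ⟨-1, 99, 1⟩], cs_5_4_16⟩,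
   ⟨4, 16, [⟨1, 1, 1⟩, ⟨1, 231, 1⟩, ⟨-1, 154, 1⟩, ⟨-1, 99, 1⟩, ⟨1, 21, 1⟩], cs_5_4_16⟩,
   ⟨4, 16, [⟨1, 1, 1⟩, ⟨-1, 264, 1⟩, ⟨1, 126, 1⟩, ⟨1, 126, 1⟩, ⟨1, 11, 1⟩], cs_5_4_16⟩,
   ⟨4, 16, [⟨1, 1, 1⟩, ⟨-1, 264, 1⟩, ⟨1, 231, 1⟩, ⟨1, 21, 1⟩, ⟨1, 11, 1⟩], cs_5_4_16⟩,
   ⟨4, 16, [⟨1, 1, 1⟩, ⟨-1, 264, 1⟩, ⟨1, 231, 1⟩, ⟨1, 56, 1⟩, ⟨-1, 24, 1⟩], cs_5_4_16⟩,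
   ⟨4, 16, [⟨1, 1, 1⟩, ⟨1, 396, 1⟩, ⟨-1, 264, 1⟩, ⟨-1, 154, 1⟩, ⟨1, 21, 1⟩], cs_5_4_16⟩,
   ⟨4, 6, [⟨1, 1, 1⟩, ⟨1, 16, 1⟩, ⟨-1, 14, 1⟩, ⟨-1, 14, 1⟩, ⟨1, 11, 1⟩], cs_5_4_6⟩,
   ⟨4, 6, [⟨1, 1, 1⟩, ⟨-1, 24, 1⟩, ⟨1, 21, 1⟩, ⟨1, 16, 1⟩, ⟨-1, 14, 1⟩], cs_5_4_6⟩,
   ⟨4, 6, [⟨1, 1, 1⟩, ⟨-1, 44, 1⟩, ⟨1, 16, 1⟩, ⟨1, 16, 1⟩, ⟨1, 11, 1⟩], cs_5_4_6⟩,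
   ⟨4, 6, [⟨1, 1, 1⟩, ⟨-1, 44, 1⟩, ⟨1, 21, 1⟩, ⟨1, 11, 1⟩, ⟨1, 11, 1⟩], cs_5_4_6⟩,
   ⟨4, 6, [⟨1, 1, 1⟩, ⟨1, 56, 1⟩, ⟨-1, 44, 1⟩, ⟨-1, 24, 1⟩, ⟨1, 11, 1⟩], cs_5_4_6⟩,
   ⟨4, 6, [⟨1, 1, 1⟩, ⟨-1, 64, 1⟩, ⟨1, 21, 1⟩, ⟨1, 21, 1⟩, ⟨1, 21, 1⟩], cs_5_4_6⟩,
   ⟨4, 6, [⟨1, 1, 1⟩, ⟨-1, 64, 1⟩, ⟨1, 56, 1⟩, ⟨1, 21, 1⟩, ⟨-1, 14, 1⟩], cs_5_4_6⟩,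
   ⟨4, 6, [⟨1, 1, 1⟩, ⟨1, 66, 1⟩, ⟨-1, 44, 1⟩, ⟨-1, 44, 1⟩, ⟨1, 21, 1⟩], cs_5_4_6⟩,
   ⟨4, 6, [⟨1, 1, 1⟩, ⟨1, 66, 1⟩, ⟨-1, 64, 1⟩, ⟨-1, 14, 1⟩, ⟨1, 11, 1⟩], cs_5_4_6⟩,
   ⟨4, 6, [⟨1, 1, 1⟩, ⟨1, 66, 1⟩, ⟨-1, 64, 1⟩, ⟨-1, 24, 1⟩, ⟨1, 21, 1⟩], cs_5_4_6⟩,
   ⟨4, 6, [⟨1, 1, 1⟩, ⟨-1, 84, 1⟩, ⟨1, 56, 1⟩, ⟨1, 16, 1⟩, ⟨1, 11, 1⟩], cs_5_4_6⟩,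
   ⟨4, 6, [⟨1, 1, 1⟩, ⟨1, 96, 1⟩, ⟨-1, 64, 1⟩, ⟨-1, 44, 1⟩, ⟨1, 11, 1⟩], cs_5_4_6⟩,
   ⟨4, 6, [⟨1, 1, 1⟩, ⟨1, 96, 1⟩, ⟨-1, 84, 1⟩, ⟨-1, 24, 1⟩, ⟨1, 11, 1⟩], cs_5_4_6⟩,
   ⟨4, 6, [⟨1, 1, 1⟩, ⟨-1, 154, 1⟩, ⟨1, 66, 1⟩, ⟨1, 66, 1⟩, ⟨1, 21, 1⟩], cs_5_4_6⟩,
   ⟨4, 6, [⟨1, 1, 1⟩, ⟨1, 176, 1⟩, ⟨-1, 154, 1⟩, ⟨-1, 44, 1⟩, ⟨1, 21, 1⟩], cs_5_4_6⟩,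
   ⟨4, 6, [⟨1, 1, 1⟩, ⟨1, 231, 1⟩, ⟨-1, 84, 1⟩, ⟨-1, 84, 1⟩, ⟨-1, 64, 1⟩], cs_5_4_6⟩,
   ⟨4, 6, [⟨1, 1, 1⟩, ⟨1, 231, 1⟩, ⟨-1, 154, 1⟩, ⟨-1, 64, 1⟩, ⟨-1, 14, 1⟩], cs_5_4_6⟩,
   ⟨4, 6, [⟨1, 1, 1⟩, ⟨1, 231, 1⟩, ⟨-1, 224, 1⟩, ⟨-1, 24, 1⟩, ⟨1, 16, 1⟩], cs_5_4_6⟩,
   ⟨4, 6, [⟨1, 1, 1⟩, ⟨1, 231, 1⟩, ⟨-1, 224, 1⟩, ⟨-1, 64, 1⟩, ⟨1, 56, 1⟩], cs_5_4_6⟩,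
   ⟨4, 6, [⟨1, 1, 1⟩, ⟨-1, 264, 1⟩, ⟨1, 176, 1⟩, ⟨1, 66, 1⟩, ⟨1, 21, 1⟩], cs_5_4_6⟩,
   ⟨4, 6, [⟨1, 1, 1⟩, ⟨-1, 264, 1⟩, ⟨1, 231, 1⟩, ⟨1, 16, 1⟩, ⟨1, 16, 1⟩], cs_5_4_6⟩,
   ⟨4, 6, [⟨1, 1, 1⟩, ⟨-1, 264, 1⟩, ⟨1, 231, 1⟩, ⟨1, 21, 1⟩, ⟨1, 11, 1⟩], cs_5_4_6⟩,
   ⟨4, 6, [⟨1, 1, 1⟩, ⟨-1, 264, 1⟩, ⟨1, 231, 1⟩, ⟨1, 56, 1⟩, ⟨-1, 24, 1⟩], cs_5_4_6⟩,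
   ⟨4, 6, [⟨1, 1, 1⟩, ⟨-1, 264, 1⟩, ⟨1, 231, 1⟩, ⟨1, 96, 1⟩, ⟨-1, 64, 1⟩], cs_5_4_6⟩,
   ⟨4, 6, [⟨1, 1, 1⟩, ⟨1, 336, 1⟩, ⟨-1, 264, 1⟩, ⟨-1, 84, 1⟩, ⟨1, 11, 1⟩], cs_5_4_6⟩,
   ⟨4, 1, [⟨1, 1, 1⟩, ⟨-1, 9, 1⟩, ⟨1, 6, 1⟩, ⟨1, 6, 1⟩, ⟨-1, 4, 1⟩], cs_5_4_1⟩,
   ⟨4, 1, [⟨1, 1, 1⟩, ⟨1, 11, 1⟩, ⟨-1, 4, 1⟩, ⟨-1, 4, 1⟩, ⟨-1, 4, 1⟩], cs_5_4_1⟩,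
   ⟨4, 1, [⟨1, 1, 1⟩, ⟨1, 11, 1⟩, ⟨-1, 9, 1⟩, ⟨-1, 9, 1⟩, ⟨1, 6, 1⟩], cs_5_4_1⟩,
   ⟨4, 1, [⟨1, 1, 1⟩, ⟨-1, 14, 1⟩, ⟨1, 11, 1⟩, ⟨1, 6, 1⟩, ⟨-1, 4, 1⟩], cs_5_4_1⟩,
   ⟨4, 1, [⟨1, 1, 1⟩, ⟨-1, 14, 1⟩, ⟨1, 11, 1⟩, ⟨1, 11, 1⟩, ⟨-1, 9, 1⟩], cs_5_4_1⟩,
   ⟨4, 1, [⟨1, 1, 1⟩, ⟨1, 16, 1⟩, ⟨-1, 9, 1⟩, ⟨-1, 4, 1⟩, ⟨-1, 4, 1⟩], cs_5_4_1⟩,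
   ⟨4, 1, [⟨1, 1, 1⟩, ⟨1, 16, 1⟩, ⟨-1, 14, 1⟩, ⟨-1, 9, 1⟩, ⟨1, 6, 1⟩], cs_5_4_1⟩,
   ⟨4, 1, [⟨1, 1, 1⟩, ⟨1, 16, 1⟩, ⟨-1, 14, 1⟩, ⟨-1, 14, 1⟩, ⟨1, 11, 1⟩], cs_5_4_1⟩,
   ⟨4, 1, [⟨1, 1, 1⟩, ⟨1, 21, 1⟩, ⟨-1, 9, 1⟩, ⟨-1, 9, 1⟩, ⟨-1, 4, 1⟩], cs_5_4_1⟩,
   ⟨4, 1, [⟨1, 1, 1⟩, ⟨1, 21, 1⟩, ⟨-1, 14, 1⟩, ⟨-1, 4, 1⟩, ⟨-1, 4, 1⟩], cs_5_4_1⟩,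
   ⟨4, 1, [⟨1, 1, 1⟩, ⟨1, 21, 1⟩, ⟨-1, 14, 1⟩, ⟨-1, 14, 1⟩, ⟨1, 6, 1⟩], cs_5_4_1⟩,
   ⟨4, 1, [⟨1, 1, 1⟩, ⟨-1, 24, 1⟩, ⟨1, 11, 1⟩, ⟨1, 6, 1⟩, ⟨1, 6, 1⟩], cs_5_4_1⟩,
   ⟨4, 1, [⟨1, 1, 1⟩, ⟨-1, 24, 1⟩, ⟨1, 16, 1⟩, ⟨1, 11, 1⟩, ⟨-1, 4, 1⟩], cs_5_4_1⟩,
   ⟨4, 1, [⟨1, 1, 1⟩, ⟨-1, 24, 1⟩, ⟨1, 16, 1⟩, ⟨1, 16, 1⟩, ⟨-1, 9, 1⟩], cs_5_4_1⟩,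
   ⟨4, 1, [⟨1, 1, 1⟩, ⟨-1, 24, 1⟩, ⟨1, 21, 1⟩, ⟨1, 6, 1⟩, ⟨-1, 4, 1⟩], cs_5_4_1⟩,
   ⟨4, 1, [⟨1, 1, 1⟩, ⟨-1, 24, 1⟩, ⟨1, 21, 1⟩, ⟨1, 11, 1⟩, ⟨-1, 9, 1⟩], cs_5_4_1⟩,
   ⟨4, 1, [⟨1, 1, 1⟩, ⟨-1, 24, 1⟩, ⟨1, 21, 1⟩, ⟨1, 16, 1⟩, ⟨-1, 14, 1⟩], cs_5_4_1⟩,
   ⟨4, 1, [⟨1, 1, 1⟩, ⟨1, 36, 1⟩, ⟨-1, 14, 1⟩, ⟨-1, 14, 1⟩, ⟨-1, 9, 1⟩], cs_5_4_1⟩,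
   ⟨4, 1, [⟨1, 1, 1⟩, ⟨1, 36, 1⟩, ⟨-1, 24, 1⟩, ⟨-1, 9, 1⟩, ⟨-1, 4, 1⟩], cs_5_4_1⟩,
   ⟨4, 1, [⟨1, 1, 1⟩, ⟨1, 36, 1⟩, ⟨-1, 24, 1⟩, ⟨-1, 24, 1⟩, ⟨1, 11, 1⟩], cs_5_4_1⟩,
   ⟨4, 1, [⟨1, 1, 1⟩, ⟨-1, 44, 1⟩, ⟨1, 16, 1⟩, ⟨1, 16, 1⟩, ⟨1, 11, 1⟩], cs_5_4_1⟩,
   ⟨4, 1, [⟨1, 1, 1⟩, ⟨-1, 44, 1⟩, ⟨1, 21, 1⟩, ⟨1, 11, 1⟩, ⟨1, 11, 1⟩], cs_5_4_1⟩,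
   ⟨4, 1, [⟨1, 1, 1⟩, ⟨-1, 44, 1⟩, ⟨1, 21, 1⟩, ⟨1, 16, 1⟩, ⟨1, 6, 1⟩], cs_5_4_1⟩,
   ⟨4, 1, [⟨1, 1, 1⟩, ⟨-1, 44, 1⟩, ⟨1, 36, 1⟩, ⟨1, 11, 1⟩, ⟨-1, 4, 1⟩], cs_5_4_1⟩,
   ⟨4, 1, [⟨1, 1, 1⟩, ⟨-1, 44, 1⟩, ⟨1, 36, 1⟩, ⟨1, 16, 1⟩, ⟨-1, 9, 1⟩], cs_5_4_1⟩,
   ⟨4, 1, [⟨1, 1, 1⟩, ⟨-1, 44, 1⟩, ⟨1, 36, 1⟩, ⟨1, 21, 1⟩, ⟨-1, 14, 1⟩], cs_5_4_1⟩,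
   ⟨4, 1, [⟨1, 1, 1⟩, ⟨1, 56, 1⟩, ⟨-1, 24, 1⟩, ⟨-1, 24, 1⟩, ⟨-1, 9, 1⟩], cs_5_4_1⟩,
   ⟨4, 1, [⟨1, 1, 1⟩, ⟨1, 56, 1⟩, ⟨-1, 44, 1⟩, ⟨-1, 9, 1⟩, ⟨-1, 4, 1⟩], cs_5_4_1⟩,
   ⟨4, 1, [⟨1, 1, 1⟩, ⟨1, 56, 1⟩, ⟨-1, 44, 1⟩, ⟨-1, 24, 1⟩, ⟨1, 11, 1⟩], cs_5_4_1⟩,
   ⟨4, 1, [⟨1, 1, 1⟩, ⟨-1, 64, 1⟩, ⟨1, 21, 1⟩, ⟨1, 21, 1⟩, ⟨1, 21, 1⟩], cs_5_4_1⟩,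
   ⟨4, 1, [⟨1, 1, 1⟩, ⟨-1, 64, 1⟩, ⟨1, 36, 1⟩, ⟨1, 16, 1⟩, ⟨1, 11, 1⟩], cs_5_4_1⟩,
   ⟨4, 1, [⟨1, 1, 1⟩, ⟨-1, 64, 1⟩, ⟨1, 36, 1⟩, ⟨1, 21, 1⟩, ⟨1, 6, 1⟩], cs_5_4_1⟩,
   ⟨4, 1, [⟨1, 1, 1⟩, ⟨-1, 64, 1⟩, ⟨1, 36, 1⟩, ⟨1, 36, 1⟩, ⟨-1, 9, 1⟩], cs_5_4_1⟩,
   ⟨4, 1, [⟨1, 1, 1⟩, ⟨-1, 64, 1⟩, ⟨1, 56, 1⟩, ⟨1, 11, 1⟩, ⟨-1, 4, 1⟩], cs_5_4_1⟩,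
   ⟨4, 1, [⟨1, 1, 1⟩, ⟨-1, 64, 1⟩, ⟨1, 56, 1⟩, ⟨1, 16, 1⟩, ⟨-1, 9, 1⟩], cs_5_4_1⟩,
   ⟨4, 1, [⟨1, 1, 1⟩, ⟨-1, 64, 1⟩, ⟨1, 56, 1⟩, ⟨1, 21, 1⟩, ⟨-1, 14, 1⟩], cs_5_4_1⟩,
   ⟨4, 1, [⟨1, 1, 1⟩, ⟨1, 66, 1⟩, ⟨-1, 44, 1⟩, ⟨-1, 14, 1⟩, ⟨-1, 9, 1⟩], cs_5_4_1⟩,
   ⟨4, 1, [⟨1, 1, 1⟩, ⟨1, 66, 1⟩, ⟨-1, 44, 1⟩, ⟨-1, 44, 1⟩, ⟨1, 21, 1⟩], cs_5_4_1⟩,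
   ⟨4, 1, [⟨1, 1, 1⟩, ⟨1, 66, 1⟩, ⟨-1, 64, 1⟩, ⟨-1, 9, 1⟩, ⟨1, 6, 1⟩], cs_5_4_1⟩,
   ⟨4, 1, [⟨1, 1, 1⟩, ⟨1, 66, 1⟩, ⟨-1, 64, 1⟩, ⟨-1, 14, 1⟩, ⟨1, 11, 1⟩], cs_5_4_1⟩,
   ⟨4, 1, [⟨1, 1, 1⟩, ⟨1, 66, 1⟩, ⟨-1, 64, 1⟩, ⟨-1, 24, 1⟩, ⟨1, 21, 1⟩], cs_5_4_1⟩,
   ⟨4, 1, [⟨1, 1, 1⟩, ⟨-1, 84, 1⟩, ⟨1, 36, 1⟩, ⟨1, 36, 1⟩, ⟨1, 11, 1⟩], cs_5_4_1⟩,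
   ⟨4, 1, [⟨1, 1, 1⟩, ⟨-1, 84, 1⟩, ⟨1, 56, 1⟩, ⟨1, 16, 1⟩, ⟨1, 11, 1⟩], cs_5_4_1⟩,
   ⟨4, 1, [⟨1, 1, 1⟩, ⟨-1, 84, 1⟩, ⟨1, 56, 1⟩, ⟨1, 21, 1⟩, ⟨1, 6, 1⟩], cs_5_4_1⟩,
   ⟨4, 1, [⟨1, 1, 1⟩, ⟨-1, 84, 1⟩, ⟨1, 56, 1⟩, ⟨1, 36, 1⟩, ⟨-1, 9, 1⟩], cs_5_4_1⟩,
   ⟨4, 1, [⟨1, 1, 1⟩, ⟨-1, 84, 1⟩, ⟨1, 66, 1⟩, ⟨1, 11, 1⟩, ⟨1, 6, 1⟩], cs_5_4_1⟩,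
   ⟨4, 1, [⟨1, 1, 1⟩, ⟨-1, 84, 1⟩, ⟨1, 66, 1⟩, ⟨1, 21, 1⟩, ⟨-1, 4, 1⟩], cs_5_4_1⟩,
   ⟨4, 1, [⟨1, 1, 1⟩, ⟨1, 96, 1⟩, ⟨-1, 44, 1⟩, ⟨-1, 44, 1⟩, ⟨-1, 9, 1⟩], cs_5_4_1⟩,
   ⟨4, 1, [⟨1, 1, 1⟩, ⟨1, 96, 1⟩, ⟨-1, 64, 1⟩, ⟨-1, 24, 1⟩, ⟨-1, 9, 1⟩], cs_5_4_1⟩,
   ⟨4, 1, [⟨1, 1, 1⟩, ⟨1, 96, 1⟩, ⟨-1, 64, 1⟩, ⟨-1, 44, 1⟩, ⟨1, 11, 1⟩], cs_5_4_1⟩,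
   ⟨4, 1, [⟨1, 1, 1⟩, ⟨1, 96, 1⟩, ⟨-1, 84, 1⟩, ⟨-1, 9, 1⟩, ⟨-1, 4, 1⟩], cs_5_4_1⟩,
   ⟨4, 1, [⟨1, 1, 1⟩, ⟨1, 96, 1⟩, ⟨-1, 84, 1⟩, ⟨-1, 24, 1⟩, ⟨1, 11, 1⟩], cs_5_4_1⟩,
   ⟨4, 1, [⟨1, 1, 1⟩, ⟨-1, 99, 1⟩, ⟨1, 56, 1⟩, ⟨1, 21, 1⟩, ⟨1, 21, 1⟩], cs_5_4_1⟩,
   ⟨4, 1, [⟨1, 1, 1⟩, ⟨-1, 99, 1⟩, ⟨1, 56, 1⟩, ⟨1, 36, 1⟩, ⟨1, 6, 1⟩], cs_5_4_1⟩,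
   ⟨4, 1, [⟨1, 1, 1⟩, ⟨-1, 99, 1⟩, ⟨1, 56, 1⟩, ⟨1, 56, 1⟩, ⟨-1, 14, 1⟩], cs_5_4_1⟩,
   ⟨4, 1, [⟨1, 1, 1⟩, ⟨-1, 99, 1⟩, ⟨1, 66, 1⟩, ⟨1, 16, 1⟩, ⟨1, 16, 1⟩], cs_5_4_1⟩,
   ⟨4, 1, [⟨1, 1, 1⟩, ⟨-1, 99, 1⟩, ⟨1, 66, 1⟩, ⟨1, 21, 1⟩, ⟨1, 11, 1⟩], cs_5_4_1⟩,
   ⟨4, 1, [⟨1, 1, 1⟩, ⟨-1, 99, 1⟩, ⟨1, 66, 1⟩, ⟨1, 36, 1⟩, ⟨-1, 4, 1⟩], cs_5_4_1⟩,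
   ⟨4, 1, [⟨1, 1, 1⟩, ⟨-1, 99, 1⟩, ⟨1, 66, 1⟩, ⟨1, 56, 1⟩, ⟨-1, 24, 1⟩], cs_5_4_1⟩,
   ⟨4, 1, [⟨1, 1, 1⟩, ⟨-1, 99, 1⟩, ⟨1, 96, 1⟩, ⟨1, 6, 1⟩, ⟨-1, 4, 1⟩], cs_5_4_1⟩,
   ⟨4, 1, [⟨1, 1, 1⟩, ⟨-1, 99, 1⟩, ⟨1, 96, 1⟩, ⟨1, 11, 1⟩, ⟨-1, 9, 1⟩], cs_5_4_1⟩,
   ⟨4, 1, [⟨1, 1, 1⟩, ⟨-1, 99, 1⟩, ⟨1, 96, 1⟩, ⟨1, 16, 1⟩, ⟨-1, 14, 1⟩], cs_5_4_1⟩,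
   ⟨4, 1, [⟨1, 1, 1⟩, ⟨-1, 99, 1⟩, ⟨1, 96, 1⟩, ⟨1, 66, 1⟩, ⟨-1, 64, 1⟩], cs_5_4_1⟩,
   ⟨4, 1, [⟨1, 1, 1⟩, ⟨1, 126, 1⟩, ⟨-1, 84, 1⟩, ⟨-1, 64, 1⟩, ⟨1, 21, 1⟩], cs_5_4_1⟩,
   ⟨4, 1, [⟨1, 1, 1⟩, ⟨1, 126, 1⟩, ⟨-1, 99, 1⟩, ⟨-1, 14, 1⟩, ⟨-1, 14, 1⟩], cs_5_4_1⟩,
   ⟨4, 1, [⟨1, 1, 1⟩, ⟨1, 126, 1⟩, ⟨-1, 99, 1⟩, ⟨-1, 24, 1⟩, ⟨-1, 4, 1⟩], cs_5_4_1⟩,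
   ⟨4, 1, [⟨1, 1, 1⟩, ⟨1, 126, 1⟩, ⟨-1, 99, 1⟩, ⟨-1, 44, 1⟩, ⟨1, 16, 1⟩], cs_5_4_1⟩,
   ⟨4, 1, [⟨1, 1, 1⟩, ⟨1, 126, 1⟩, ⟨-1, 99, 1⟩, ⟨-1, 64, 1⟩, ⟨1, 36, 1⟩], cs_5_4_1⟩,
   ⟨4, 1, [⟨1, 1, 1⟩, ⟨1, 126, 1⟩, ⟨-1, 99, 1⟩, ⟨-1, 84, 1⟩, ⟨1, 56, 1⟩], cs_5_4_1⟩,
   ⟨4, 1, [⟨1, 1, 1⟩, ⟨-1, 144, 1⟩, ⟨1, 66, 1⟩, ⟨1, 56, 1⟩, ⟨1, 21, 1⟩], cs_5_4_1⟩,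
   ⟨4, 1, [⟨1, 1, 1⟩, ⟨-1, 144, 1⟩, ⟨1, 66, 1⟩, ⟨1, 66, 1⟩, ⟨1, 11, 1⟩], cs_5_4_1⟩,
   ⟨4, 1, [⟨1, 1, 1⟩, ⟨-1, 144, 1⟩, ⟨1, 96, 1⟩, ⟨1, 36, 1⟩, ⟨1, 11, 1⟩], cs_5_4_1⟩,
   ⟨4, 1, [⟨1, 1, 1⟩, ⟨-1, 144, 1⟩, ⟨1, 96, 1⟩, ⟨1, 56, 1⟩, ⟨-1, 9, 1⟩], cs_5_4_1⟩,
   ⟨4, 1, [⟨1, 1, 1⟩, ⟨-1, 144, 1⟩, ⟨1, 126, 1⟩, ⟨1, 11, 1⟩, ⟨1, 6, 1⟩], cs_5_4_1⟩,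
   ⟨4, 1, [⟨1, 1, 1⟩, ⟨-1, 144, 1⟩, ⟨1, 126, 1⟩, ⟨1, 21, 1⟩, ⟨-1, 4, 1⟩], cs_5_4_1⟩,
   ⟨4, 1, [⟨1, 1, 1⟩, ⟨-1, 154, 1⟩, ⟨1, 66, 1⟩, ⟨1, 66, 1⟩, ⟨1, 21, 1⟩], cs_5_4_1⟩,
   ⟨4, 1, [⟨1, 1, 1⟩, ⟨-1, 154, 1⟩, ⟨1, 96, 1⟩, ⟨1, 36, 1⟩, ⟨1, 21, 1⟩], cs_5_4_1⟩,
   ⟨4, 1, [⟨1, 1, 1⟩, ⟨-1, 154, 1⟩, ⟨1, 96, 1⟩, ⟨1, 66, 1⟩, ⟨-1, 9, 1⟩], cs_5_4_1⟩,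
   ⟨4, 1, [⟨1, 1, 1⟩, ⟨-1, 154, 1⟩, ⟨1, 126, 1⟩, ⟨1, 16, 1⟩, ⟨1, 11, 1⟩], cs_5_4_1⟩,
   ⟨4, 1, [⟨1, 1, 1⟩, ⟨-1, 154, 1⟩, ⟨1, 126, 1⟩, ⟨1, 21, 1⟩, ⟨1, 6, 1⟩], cs_5_4_1⟩,
   ⟨4, 1, [⟨1, 1, 1⟩, ⟨-1, 154, 1⟩, ⟨1, 126, 1⟩, ⟨1, 36, 1⟩, ⟨-1, 9, 1⟩], cs_5_4_1⟩,
   ⟨4, 1, [⟨1, 1, 1⟩, ⟨-1, 154, 1⟩, ⟨1, 126, 1⟩, ⟨1, 126, 1⟩, ⟨-1, 99, 1⟩], cs_5_4_1⟩,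
   ⟨4, 1, [⟨1, 1, 1⟩, ⟨1, 176, 1⟩, ⟨-1, 84, 1⟩, ⟨-1, 84, 1⟩, ⟨-1, 9, 1⟩], cs_5_4_1⟩,
   ⟨4, 1, [⟨1, 1, 1⟩, ⟨1, 176, 1⟩, ⟨-1, 99, 1⟩, ⟨-1, 64, 1⟩, ⟨-1, 14, 1⟩], cs_5_4_1⟩,
   ⟨4, 1, [⟨1, 1, 1⟩, ⟨1, 176, 1⟩, ⟨-1, 99, 1⟩, ⟨-1, 84, 1⟩, ⟨1, 6, 1⟩], cs_5_4_1⟩,
   ⟨4, 1, [⟨1, 1, 1⟩, ⟨1, 176, 1⟩, ⟨-1, 99, 1⟩, ⟨-1, 99, 1⟩, ⟨1, 21, 1⟩], cs_5_4_1⟩,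
   ⟨4, 1, [⟨1, 1, 1⟩, ⟨1, 176, 1⟩, ⟨-1, 144, 1⟩, ⟨-1, 24, 1⟩, ⟨-1, 9, 1⟩], cs_5_4_1⟩,
   ⟨4, 1, [⟨1, 1, 1⟩, ⟨1, 176, 1⟩, ⟨-1, 144, 1⟩, ⟨-1, 44, 1⟩, ⟨1, 11, 1⟩], cs_5_4_1⟩,
   ⟨4, 1, [⟨1, 1, 1⟩, ⟨1, 176, 1⟩, ⟨-1, 144, 1⟩, ⟨-1, 99, 1⟩, ⟨1, 66, 1⟩], cs_5_4_1⟩,
   ⟨4, 1, [⟨1, 1, 1⟩, ⟨1, 176, 1⟩, ⟨-1, 154, 1⟩, ⟨-1, 14, 1⟩, ⟨-1, 9, 1⟩], cs_5_4_1⟩,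
   ⟨4, 1, [⟨1, 1, 1⟩, ⟨1, 176, 1⟩, ⟨-1, 154, 1⟩, ⟨-1, 44, 1⟩, ⟨1, 21, 1⟩], cs_5_4_1⟩,
   ⟨4, 1, [⟨1, 1, 1⟩, ⟨-1, 224, 1⟩, ⟨1, 176, 1⟩, ⟨1, 36, 1⟩, ⟨1, 11, 1⟩], cs_5_4_1⟩,
   ⟨4, 1, [⟨1, 1, 1⟩, ⟨-1, 224, 1⟩, ⟨1, 176, 1⟩, ⟨1, 56, 1⟩, ⟨-1, 9, 1⟩], cs_5_4_1⟩,
   ⟨4, 1, [⟨1, 1, 1⟩, ⟨1, 231, 1⟩, ⟨-1, 84, 1⟩, ⟨-1, 84, 1⟩, ⟨-1, 64, 1⟩], cs_5_4_1⟩,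
   ⟨4, 1, [⟨1, 1, 1⟩, ⟨1, 231, 1⟩, ⟨-1, 144, 1⟩, ⟨-1, 44, 1⟩, ⟨-1, 44, 1⟩], cs_5_4_1⟩,
   ⟨4, 1, [⟨1, 1, 1⟩, ⟨1, 231, 1⟩, ⟨-1, 144, 1⟩, ⟨-1, 64, 1⟩, ⟨-1, 24, 1⟩], cs_5_4_1⟩,
   ⟨4, 1, [⟨1, 1, 1⟩, ⟨1, 231, 1⟩, ⟨-1, 144, 1⟩, ⟨-1, 84, 1⟩, ⟨-1, 4, 1⟩], cs_5_4_1⟩,
   ⟨4, 1, [⟨1, 1, 1⟩, ⟨1, 231, 1⟩, ⟨-1, 144, 1⟩, ⟨-1, 99, 1⟩, ⟨1, 11, 1⟩], cs_5_4_1⟩,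
   ⟨4, 1, [⟨1, 1, 1⟩, ⟨1, 231, 1⟩, ⟨-1, 144, 1⟩, ⟨-1, 144, 1⟩, ⟨1, 56, 1⟩], cs_5_4_1⟩,
   ⟨4, 1, [⟨1, 1, 1⟩, ⟨1, 231, 1⟩, ⟨-1, 154, 1⟩, ⟨-1, 64, 1⟩, ⟨-1, 14, 1⟩], cs_5_4_1⟩,
   ⟨4, 1, [⟨1, 1, 1⟩, ⟨1, 231, 1⟩, ⟨-1, 154, 1⟩, ⟨-1, 84, 1⟩, ⟨1, 6, 1⟩], cs_5_4_1⟩,
   ⟨4, 1, [⟨1, 1, 1⟩, ⟨1, 231, 1⟩, ⟨-1, 154, 1⟩, ⟨-1, 99, 1⟩, ⟨1, 21, 1⟩], cs_5_4_1⟩,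
   ⟨4, 1, [⟨1, 1, 1⟩, ⟨1, 231, 1⟩, ⟨-1, 154, 1⟩, ⟨-1, 144, 1⟩, ⟨1, 66, 1⟩], cs_5_4_1⟩,
   ⟨4, 1, [⟨1, 1, 1⟩, ⟨1, 231, 1⟩, ⟨-1, 224, 1⟩, ⟨-1, 4, 1⟩, ⟨-1, 4, 1⟩], cs_5_4_1⟩,
   ⟨4, 1, [⟨1, 1, 1⟩, ⟨1, 231, 1⟩, ⟨-1, 224, 1⟩, ⟨-1, 14, 1⟩, ⟨1, 6, 1⟩], cs_5_4_1⟩,
   ⟨4, 1, [⟨1, 1, 1⟩, ⟨1, 231, 1⟩, ⟨-1, 224, 1⟩, ⟨-1, 24, 1⟩, ⟨1, 16, 1⟩], cs_5_4_1⟩,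
   ⟨4, 1, [⟨1, 1, 1⟩, ⟨1, 231, 1⟩, ⟨-1, 224, 1⟩, ⟨-1, 44, 1⟩, ⟨1, 36, 1⟩], cs_5_4_1⟩,
   ⟨4, 1, [⟨1, 1, 1⟩, ⟨1, 231, 1⟩, ⟨-1, 224, 1⟩, ⟨-1, 64, 1⟩, ⟨1, 56, 1⟩], cs_5_4_1⟩,
   ⟨4, 1, [⟨1, 1, 1⟩, ⟨-1, 264, 1⟩, ⟨1, 126, 1⟩, ⟨1, 126, 1⟩, ⟨1, 11, 1⟩], cs_5_4_1⟩,
   ⟨4, 1, [⟨1, 1, 1⟩, ⟨-1, 264, 1⟩, ⟨1, 176, 1⟩, ⟨1, 66, 1⟩, ⟨1, 21, 1⟩], cs_5_4_1⟩,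
   ⟨4, 1, [⟨1, 1, 1⟩, ⟨-1, 264, 1⟩, ⟨1, 176, 1⟩, ⟨1, 96, 1⟩, ⟨-1, 9, 1⟩], cs_5_4_1⟩,
   ⟨4, 1, [⟨1, 1, 1⟩, ⟨-1, 264, 1⟩, ⟨1, 231, 1⟩, ⟨1, 16, 1⟩, ⟨1, 16, 1⟩], cs_5_4_1⟩,
   ⟨4, 1, [⟨1, 1, 1⟩, ⟨-1, 264, 1⟩, ⟨1, 231, 1⟩, ⟨1, 21, 1⟩, ⟨1, 11, 1⟩], cs_5_4_1⟩,
   ⟨4, 1, [⟨1, 1, 1⟩, ⟨-1, 264, 1⟩, ⟨1, 231, 1⟩, ⟨1, 36, 1⟩, ⟨-1, 4, 1⟩], cs_5_4_1⟩,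
   ⟨4, 1, [⟨1, 1, 1⟩, ⟨-1, 264, 1⟩, ⟨1, 231, 1⟩, ⟨1, 56, 1⟩, ⟨-1, 24, 1⟩], cs_5_4_1⟩,
   ⟨4, 1, [⟨1, 1, 1⟩, ⟨-1, 264, 1⟩, ⟨1, 231, 1⟩, ⟨1, 96, 1⟩, ⟨-1, 64, 1⟩], cs_5_4_1⟩,
   ⟨4, 1, [⟨1, 1, 1⟩, ⟨-1, 264, 1⟩, ⟨1, 231, 1⟩, ⟨1, 176, 1⟩, ⟨-1, 144, 1⟩], cs_5_4_1⟩,
   ⟨4, 1, [⟨1, 1, 1⟩, ⟨1, 336, 1⟩, ⟨-1, 154, 1⟩, ⟨-1, 99, 1⟩, ⟨-1, 84, 1⟩], cs_5_4_1⟩,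
   ⟨4, 1, [⟨1, 1, 1⟩, ⟨1, 336, 1⟩, ⟨-1, 224, 1⟩, ⟨-1, 99, 1⟩, ⟨-1, 14, 1⟩], cs_5_4_1⟩,
   ⟨4, 1, [⟨1, 1, 1⟩, ⟨1, 336, 1⟩, ⟨-1, 264, 1⟩, ⟨-1, 64, 1⟩, ⟨-1, 9, 1⟩], cs_5_4_1⟩,
   ⟨4, 1, [⟨1, 1, 1⟩, ⟨1, 336, 1⟩, ⟨-1, 264, 1⟩, ⟨-1, 84, 1⟩, ⟨1, 11, 1⟩], cs_5_4_1⟩,
   ⟨4, 1, [⟨1, 1, 1⟩, ⟨-1, 384, 1⟩, ⟨1, 231, 1⟩, ⟨1, 96, 1⟩, ⟨1, 56, 1⟩], cs_5_4_1⟩,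
   ⟨4, 1, [⟨1, 1, 1⟩, ⟨-1, 384, 1⟩, ⟨1, 231, 1⟩, ⟨1, 176, 1⟩, ⟨-1, 24, 1⟩], cs_5_4_1⟩,
   ⟨4, 1, [⟨1, 1, 1⟩, ⟨-1, 384, 1⟩, ⟨1, 336, 1⟩, ⟨1, 36, 1⟩, ⟨1, 11, 1⟩], cs_5_4_1⟩,
   ⟨4, 1, [⟨1, 1, 1⟩, ⟨-1, 384, 1⟩, ⟨1, 336, 1⟩, ⟨1, 56, 1⟩, ⟨-1, 9, 1⟩], cs_5_4_1⟩,
   ⟨4, 1, [⟨1, 1, 1⟩, ⟨1, 396, 1⟩, ⟨-1, 154, 1⟩, ⟨-1, 144, 1⟩, ⟨-1, 99, 1⟩], cs_5_4_1⟩,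
   ⟨4, 1, [⟨1, 1, 1⟩, ⟨1, 396, 1⟩, ⟨-1, 264, 1⟩, ⟨-1, 144, 1⟩, ⟨1, 11, 1⟩], cs_5_4_1⟩,
   ⟨4, 1, [⟨1, 1, 1⟩, ⟨1, 396, 1⟩, ⟨-1, 264, 1⟩, ⟨-1, 154, 1⟩, ⟨1, 21, 1⟩], cs_5_4_1⟩,
   ⟨4, 1, [⟨1, 1, 1⟩, ⟨1, 396, 1⟩, ⟨-1, 384, 1⟩, ⟨-1, 9, 1⟩, ⟨-1, 4, 1⟩], cs_5_4_1⟩,
   ⟨4, 1, [⟨1, 1, 1⟩, ⟨1, 396, 1⟩, ⟨-1, 384, 1⟩, ⟨-1, 24, 1⟩, ⟨1, 11, 1⟩], cs_5_4_1⟩,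
   ⟨4, 1, [⟨1, 1, 1⟩, ⟨-1, 504, 1⟩, ⟨1, 231, 1⟩, ⟨1, 176, 1⟩, ⟨1, 96, 1⟩], cs_5_4_1⟩,
   ⟨4, 1, [⟨1, 1, 1⟩, ⟨-1, 504, 1⟩, ⟨1, 336, 1⟩, ⟨1, 176, 1⟩, ⟨-1, 9, 1⟩], cs_5_4_1⟩,
   ⟨4, 1, [⟨1, 1, 1⟩, ⟨-1, 504, 1⟩, ⟨1, 336, 1⟩, ⟨1, 231, 1⟩, ⟨-1, 64, 1⟩], cs_5_4_1⟩,
   ⟨4, 1, [⟨1, 1, 1⟩, ⟨-1, 504, 1⟩, ⟨1, 396, 1⟩, ⟨1, 96, 1⟩, ⟨1, 11, 1⟩], cs_5_4_1⟩]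

/-- Centraliser orders. -/
def cs_7_2_12 : List ℕ :=
  [20160, 10080, 8064, 6720, 3360, 2520, 2016, 1344, 1260, 1008, 840, 672, 448, 420, 224, 168, 84,
    56, 28]

/-- Centraliser orders. -/
def cs_7_3_1 : List ℕ :=
  [1152, 384, 128]

/-- Centraliser orders. -/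
def cs_7_3_8 : List ℕ :=
  [20160, 6720, 2520, 2016, 1344, 840, 448, 168, 56]

/-- Centraliser orders. -/
def cs_7_3_64 : List ℕ :=
  [20160, 6720, 1344, 448]

/-- Centraliser orders. -/
def cs_7_6_4 : List ℕ :=
  [20160, 10080, 8064, 6720, 3360, 2520, 2016, 1344, 1260, 1008, 840, 672, 448, 420, 224, 168, 84,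
    56, 28]

/-- Centraliser orders. -/
def cs_7_6_32 : List ℕ :=
  [20160, 10080, 8064, 6720, 3360, 1344, 672, 448, 224]

/-- The options at the prime 7. -/
def table7 : List Opt :=
  [
   ⟨2, 12, [⟨1, 1, 1⟩, ⟨1, 15, 1⟩, ⟨-1, 16, 3⟩], cs_7_2_12⟩,
   ⟨3, 64, [⟨1, 1, 1⟩, ⟨1, 22, 1⟩, ⟨1, 22, 1⟩, ⟨-1, 45, 2⟩], cs_7_3_64⟩,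
   ⟨3, 64, [⟨1, 1, 1⟩, ⟨1, 99, 1⟩, ⟨-1, 55, 1⟩, ⟨-1, 45, 2⟩], cs_7_3_64⟩,
   ⟨3, 8, [⟨1, 1, 1⟩, ⟨1, 120, 1⟩, ⟨1, 99, 1⟩, ⟨-1, 220, 2⟩], cs_7_3_8⟩,
   ⟨3, 8, [⟨1, 1, 1⟩, ⟨-1, 90, 1⟩, ⟨-1, 55, 1⟩, ⟨1, 144, 2⟩], cs_7_3_8⟩,
   ⟨3, 8, [⟨1, 1, 1⟩, ⟨1, 99, 1⟩, ⟨-1, 20, 1⟩, ⟨-1, 80, 2⟩], cs_7_3_8⟩,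
   ⟨3, 8, [⟨1, 1, 1⟩, ⟨1, 120, 1⟩, ⟨-1, 55, 1⟩, ⟨-1, 66, 2⟩], cs_7_3_8⟩,
   ⟨3, 8, [⟨1, 1, 1⟩, ⟨1, 22, 1⟩, ⟨1, 22, 1⟩, ⟨-1, 45, 2⟩], cs_7_3_8⟩,
   ⟨3, 8, [⟨1, 1, 1⟩, ⟨1, 99, 1⟩, ⟨-1, 55, 1⟩, ⟨-1, 45, 2⟩], cs_7_3_8⟩,
   ⟨3, 8, [⟨1, 1, 1⟩, ⟨1, 176, 1⟩, ⟨-1, 132, 1⟩, ⟨-1, 45, 2⟩], cs_7_3_8⟩,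
   ⟨3, 8, [⟨1, 1, 1⟩, ⟨-1, 55, 1⟩, ⟨1, 36, 1⟩, ⟨1, 18, 2⟩], cs_7_3_8⟩,
   ⟨3, 1, [⟨1, 1, 1⟩, ⟨1, 120, 1⟩, ⟨1, 99, 1⟩, ⟨-1, 220, 2⟩], cs_7_3_1⟩,
   ⟨3, 1, [⟨1, 1, 1⟩, ⟨1, 176, 1⟩, ⟨1, 15, 1⟩, ⟨-1, 192, 2⟩], cs_7_3_1⟩,
   ⟨3, 1, [⟨1, 1, 1⟩, ⟨-1, 160, 1⟩, ⟨-1, 6, 1⟩, ⟨1, 165, 2⟩], cs_7_3_1⟩,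
   ⟨3, 1, [⟨1, 1, 1⟩, ⟨-1, 90, 1⟩, ⟨-1, 55, 1⟩, ⟨1, 144, 2⟩], cs_7_3_1⟩,
   ⟨3, 1, [⟨1, 1, 1⟩, ⟨-1, 160, 1⟩, ⟨1, 15, 1⟩, ⟨1, 144, 2⟩], cs_7_3_1⟩,
   ⟨3, 1, [⟨1, 1, 1⟩, ⟨1, 64, 1⟩, ⟨1, 15, 1⟩, ⟨-1, 80, 2⟩], cs_7_3_1⟩,
   ⟨3, 1, [⟨1, 1, 1⟩, ⟨1, 99, 1⟩, ⟨-1, 20, 1⟩, ⟨-1, 80, 2⟩], cs_7_3_1⟩,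
   ⟨3, 1, [⟨1, 1, 1⟩, ⟨1, 120, 1⟩, ⟨-1, 55, 1⟩, ⟨-1, 66, 2⟩], cs_7_3_1⟩,
   ⟨3, 1, [⟨1, 1, 1⟩, ⟨-1, 55, 1⟩, ⟨-1, 6, 1⟩, ⟨1, 60, 2⟩], cs_7_3_1⟩,
   ⟨3, 1, [⟨1, 1, 1⟩, ⟨-1, 160, 1⟩, ⟨1, 99, 1⟩, ⟨1, 60, 2⟩], cs_7_3_1⟩,
   ⟨3, 1, [⟨1, 1, 1⟩, ⟨1, 22, 1⟩, ⟨1, 22, 1⟩, ⟨-1, 45, 2⟩], cs_7_3_1⟩,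
   ⟨3, 1, [⟨1, 1, 1⟩, ⟨1, 36, 1⟩, ⟨1, 8, 1⟩, ⟨-1, 45, 2⟩], cs_7_3_1⟩,
   ⟨3, 1, [⟨1, 1, 1⟩, ⟨1, 64, 1⟩, ⟨-1, 20, 1⟩, ⟨-1, 45, 2⟩], cs_7_3_1⟩,
   ⟨3, 1, [⟨1, 1, 1⟩, ⟨1, 99, 1⟩, ⟨-1, 55, 1⟩, ⟨-1, 45, 2⟩], cs_7_3_1⟩,
   ⟨3, 1, [⟨1, 1, 1⟩, ⟨1, 176, 1⟩, ⟨-1, 132, 1⟩, ⟨-1, 45, 2⟩], cs_7_3_1⟩,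
   ⟨3, 1, [⟨1, 1, 1⟩, ⟨-1, 48, 1⟩, ⟨1, 15, 1⟩, ⟨1, 32, 2⟩], cs_7_3_1⟩,
   ⟨3, 1, [⟨1, 1, 1⟩, ⟨-1, 55, 1⟩, ⟨1, 22, 1⟩, ⟨1, 32, 2⟩], cs_7_3_1⟩,
   ⟨3, 1, [⟨1, 1, 1⟩, ⟨-1, 132, 1⟩, ⟨1, 99, 1⟩, ⟨1, 32, 2⟩], cs_7_3_1⟩,
   ⟨3, 1, [⟨1, 1, 1⟩, ⟨1, 15, 1⟩, ⟨1, 8, 1⟩, ⟨-1, 24, 2⟩], cs_7_3_1⟩,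
   ⟨3, 1, [⟨1, 1, 1⟩, ⟨-1, 55, 1⟩, ⟨1, 36, 1⟩, ⟨1, 18, 2⟩], cs_7_3_1⟩,
   ⟨3, 1, [⟨1, 1, 1⟩, ⟨-1, 6, 1⟩, ⟨-1, 6, 1⟩, ⟨1, 11, 2⟩], cs_7_3_1⟩,
   ⟨3, 1, [⟨1, 1, 1⟩, ⟨-1, 20, 1⟩, ⟨1, 8, 1⟩, ⟨1, 11, 2⟩], cs_7_3_1⟩,
   ⟨3, 1, [⟨1, 1, 1⟩, ⟨-1, 48, 1⟩, ⟨1, 36, 1⟩, ⟨1, 11, 2⟩], cs_7_3_1⟩,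
   ⟨3, 1, [⟨1, 1, 1⟩, ⟨-1, 132, 1⟩, ⟨1, 120, 1⟩, ⟨1, 11, 2⟩], cs_7_3_1⟩,
   ⟨3, 1, [⟨1, 1, 1⟩, ⟨1, 15, 1⟩, ⟨-1, 6, 1⟩, ⟨-1, 10, 2⟩], cs_7_3_1⟩,
   ⟨3, 1, [⟨1, 1, 1⟩, ⟨1, 64, 1⟩, ⟨-1, 55, 1⟩, ⟨-1, 10, 2⟩], cs_7_3_1⟩,
   ⟨3, 1, [⟨1, 1, 1⟩, ⟨1, 99, 1⟩, ⟨-1, 90, 1⟩, ⟨-1, 10, 2⟩], cs_7_3_1⟩,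
   ⟨3, 1, [⟨1, 1, 1⟩, ⟨-1, 20, 1⟩, ⟨1, 15, 1⟩, ⟨1, 4, 2⟩], cs_7_3_1⟩,
   ⟨3, 1, [⟨1, 1, 1⟩, ⟨1, 8, 1⟩, ⟨-1, 6, 1⟩, ⟨-1, 3, 2⟩], cs_7_3_1⟩,
   ⟨3, 1, [⟨1, 1, 1⟩, ⟨1, 22, 1⟩, ⟨-1, 20, 1⟩, ⟨-1, 3, 2⟩], cs_7_3_1⟩,
   ⟨6, 32, [⟨1, 1, 1⟩, ⟨1, 22, 1⟩, ⟨1, 22, 1⟩, ⟨-1, 20, 1⟩, ⟨-1, 20, 1⟩, ⟨-1, 20, 1⟩, ⟨1, 15, 1⟩], cs_7_6_32⟩,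
   ⟨6, 32, [⟨1, 1, 1⟩, ⟨-1, 55, 1⟩, ⟨1, 22, 1⟩, ⟨1, 22, 1⟩, ⟨-1, 20, 1⟩, ⟨1, 15, 1⟩, ⟨1, 15, 1⟩], cs_7_6_32⟩,
   ⟨6, 32, [⟨1, 1, 1⟩, ⟨-1, 55, 1⟩, ⟨1, 36, 1⟩, ⟨1, 36, 1⟩, ⟨1, 22, 1⟩, ⟨-1, 20, 1⟩, ⟨-1, 20, 1⟩], cs_7_6_32⟩,
   ⟨6, 32, [⟨1, 1, 1⟩, ⟨-1, 55, 1⟩, ⟨-1, 55, 1⟩, ⟨1, 36, 1⟩, ⟨1, 36, 1⟩, ⟨1, 22, 1⟩, ⟨1, 15, 1⟩], cs_7_6_32⟩,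
   ⟨6, 32, [⟨1, 1, 1⟩, ⟨-1, 90, 1⟩, ⟨1, 22, 1⟩, ⟨1, 22, 1⟩, ⟨1, 15, 1⟩, ⟨1, 15, 1⟩, ⟨1, 15, 1⟩], cs_7_6_32⟩,
   ⟨6, 32, [⟨1, 1, 1⟩, ⟨-1, 90, 1⟩, ⟨1, 36, 1⟩, ⟨1, 36, 1⟩, ⟨1, 22, 1⟩, ⟨-1, 20, 1⟩, ⟨1, 15, 1⟩], cs_7_6_32⟩,
   ⟨6, 32, [⟨1, 1, 1⟩, ⟨-1, 90, 1⟩, ⟨-1, 55, 1⟩, ⟨1, 36, 1⟩, ⟨1, 36, 1⟩, ⟨1, 36, 1⟩, ⟨1, 36, 1⟩], cs_7_6_32⟩,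
   ⟨6, 32, [⟨1, 1, 1⟩, ⟨1, 99, 1⟩, ⟨-1, 20, 1⟩, ⟨-1, 20, 1⟩, ⟨-1, 20, 1⟩, ⟨-1, 20, 1⟩, ⟨-1, 20, 1⟩], cs_7_6_32⟩,
   ⟨6, 32, [⟨1, 1, 1⟩, ⟨1, 99, 1⟩, ⟨-1, 55, 1⟩, ⟨-1, 20, 1⟩, ⟨-1, 20, 1⟩, ⟨-1, 20, 1⟩, ⟨1, 15, 1⟩], cs_7_6_32⟩,
   ⟨6, 32, [⟨1, 1, 1⟩, ⟨1, 99, 1⟩, ⟨-1, 55, 1⟩, ⟨-1, 55, 1⟩, ⟨-1, 20, 1⟩, ⟨1, 15, 1⟩, ⟨1, 15, 1⟩], cs_7_6_32⟩,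
   ⟨6, 32, [⟨1, 1, 1⟩, ⟨1, 99, 1⟩, ⟨-1, 90, 1⟩, ⟨-1, 20, 1⟩, ⟨-1, 20, 1⟩, ⟨1, 15, 1⟩, ⟨1, 15, 1⟩], cs_7_6_32⟩,
   ⟨6, 32, [⟨1, 1, 1⟩, ⟨1, 99, 1⟩, ⟨-1, 90, 1⟩, ⟨-1, 55, 1⟩, ⟨1, 15, 1⟩, ⟨1, 15, 1⟩, ⟨1, 15, 1⟩], cs_7_6_32⟩,
   ⟨6, 32, [⟨1, 1, 1⟩, ⟨1, 99, 1⟩, ⟨-1, 90, 1⟩, ⟨-1, 90, 1⟩, ⟨1, 36, 1⟩, ⟨1, 22, 1⟩, ⟨1, 22, 1⟩], cs_7_6_32⟩,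
   ⟨6, 32, [⟨1, 1, 1⟩, ⟨1, 99, 1⟩, ⟨1, 99, 1⟩, ⟨-1, 90, 1⟩, ⟨-1, 90, 1⟩, ⟨-1, 55, 1⟩, ⟨1, 36, 1⟩], cs_7_6_32⟩,
   ⟨6, 32, [⟨1, 1, 1⟩, ⟨-1, 132, 1⟩, ⟨1, 36, 1⟩, ⟨1, 36, 1⟩, ⟨1, 22, 1⟩, ⟨1, 22, 1⟩, ⟨1, 15, 1⟩], cs_7_6_32⟩,
   ⟨6, 32, [⟨1, 1, 1⟩, ⟨-1, 132, 1⟩, ⟨1, 99, 1⟩, ⟨1, 22, 1⟩, ⟨-1, 20, 1⟩, ⟨1, 15, 1⟩, ⟨1, 15, 1⟩], cs_7_6_32⟩,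
   ⟨6, 32, [⟨1, 1, 1⟩, ⟨-1, 132, 1⟩, ⟨1, 99, 1⟩, ⟨1, 36, 1⟩, ⟨1, 36, 1⟩, ⟨-1, 20, 1⟩, ⟨-1, 20, 1⟩], cs_7_6_32⟩,
   ⟨6, 32, [⟨1, 1, 1⟩, ⟨-1, 132, 1⟩, ⟨1, 99, 1⟩, ⟨-1, 55, 1⟩, ⟨1, 36, 1⟩, ⟨1, 36, 1⟩, ⟨1, 15, 1⟩], cs_7_6_32⟩,
   ⟨6, 32, [⟨1, 1, 1⟩, ⟨1, 330, 1⟩, ⟨-1, 132, 1⟩, ⟨-1, 90, 1⟩, ⟨-1, 90, 1⟩, ⟨-1, 55, 1⟩, ⟨1, 36, 1⟩], cs_7_6_32⟩,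
   ⟨6, 4, [⟨1, 1, 1⟩, ⟨1, 22, 1⟩, ⟨1, 22, 1⟩, ⟨-1, 20, 1⟩, ⟨-1, 20, 1⟩, ⟨-1, 20, 1⟩, ⟨1, 15, 1⟩], cs_7_6_4⟩,
   ⟨6, 4, [⟨1, 1, 1⟩, ⟨-1, 48, 1⟩, ⟨1, 22, 1⟩, ⟨-1, 20, 1⟩, ⟨1, 15, 1⟩, ⟨1, 15, 1⟩, ⟨1, 15, 1⟩], cs_7_6_4⟩,
   ⟨6, 4, [⟨1, 1, 1⟩, ⟨-1, 48, 1⟩, ⟨1, 36, 1⟩, ⟨1, 36, 1⟩, ⟨-1, 20, 1⟩, ⟨-1, 20, 1⟩, ⟨1, 15, 1⟩], cs_7_6_4⟩,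
   ⟨6, 4, [⟨1, 1, 1⟩, ⟨-1, 48, 1⟩, ⟨-1, 48, 1⟩, ⟨1, 36, 1⟩, ⟨1, 22, 1⟩, ⟨1, 22, 1⟩, ⟨1, 15, 1⟩], cs_7_6_4⟩,
   ⟨6, 4, [⟨1, 1, 1⟩, ⟨-1, 55, 1⟩, ⟨1, 22, 1⟩, ⟨1, 22, 1⟩, ⟨-1, 20, 1⟩, ⟨1, 15, 1⟩, ⟨1, 15, 1⟩], cs_7_6_4⟩,
   ⟨6, 4, [⟨1, 1, 1⟩, ⟨-1, 55, 1⟩, ⟨1, 36, 1⟩, ⟨1, 36, 1⟩, ⟨1, 22, 1⟩, ⟨-1, 20, 1⟩, ⟨-1, 20, 1⟩], cs_7_6_4⟩,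
   ⟨6, 4, [⟨1, 1, 1⟩, ⟨-1, 55, 1⟩, ⟨-1, 48, 1⟩, ⟨1, 36, 1⟩, ⟨1, 22, 1⟩, ⟨1, 22, 1⟩, ⟨1, 22, 1⟩], cs_7_6_4⟩,
   ⟨6, 4, [⟨1, 1, 1⟩, ⟨-1, 55, 1⟩, ⟨-1, 48, 1⟩, ⟨1, 36, 1⟩, ⟨1, 36, 1⟩, ⟨1, 15, 1⟩, ⟨1, 15, 1⟩], cs_7_6_4⟩,
   ⟨6, 4, [⟨1, 1, 1⟩, ⟨-1, 55, 1⟩, ⟨-1, 55, 1⟩, ⟨1, 36, 1⟩, ⟨1, 36, 1⟩, ⟨1, 22, 1⟩, ⟨1, 15, 1⟩], cs_7_6_4⟩,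
   ⟨6, 4, [⟨1, 1, 1⟩, ⟨-1, 90, 1⟩, ⟨1, 22, 1⟩, ⟨1, 22, 1⟩, ⟨1, 15, 1⟩, ⟨1, 15, 1⟩, ⟨1, 15, 1⟩], cs_7_6_4⟩,
   ⟨6, 4, [⟨1, 1, 1⟩, ⟨-1, 90, 1⟩, ⟨1, 36, 1⟩, ⟨1, 36, 1⟩, ⟨1, 22, 1⟩, ⟨-1, 20, 1⟩, ⟨1, 15, 1⟩], cs_7_6_4⟩,
   ⟨6, 4, [⟨1, 1, 1⟩, ⟨-1, 90, 1⟩, ⟨-1, 55, 1⟩, ⟨1, 36, 1⟩, ⟨1, 36, 1⟩, ⟨1, 36, 1⟩, ⟨1, 36, 1⟩], cs_7_6_4⟩,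
   ⟨6, 4, [⟨1, 1, 1⟩, ⟨1, 99, 1⟩, ⟨-1, 20, 1⟩, ⟨-1, 20, 1⟩, ⟨-1, 20, 1⟩, ⟨-1, 20, 1⟩, ⟨-1, 20, 1⟩], cs_7_6_4⟩,
   ⟨6, 4, [⟨1, 1, 1⟩, ⟨1, 99, 1⟩, ⟨-1, 48, 1⟩, ⟨-1, 48, 1⟩, ⟨1, 36, 1⟩, ⟨-1, 20, 1⟩, ⟨-1, 20, 1⟩], cs_7_6_4⟩,
   ⟨6, 4, [⟨1, 1, 1⟩, ⟨1, 99, 1⟩, ⟨-1, 48, 1⟩, ⟨-1, 48, 1⟩, ⟨-1, 48, 1⟩, ⟨1, 22, 1⟩, ⟨1, 22, 1⟩], cs_7_6_4⟩,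
   ⟨6, 4, [⟨1, 1, 1⟩, ⟨1, 99, 1⟩, ⟨-1, 55, 1⟩, ⟨-1, 20, 1⟩, ⟨-1, 20, 1⟩, ⟨-1, 20, 1⟩, ⟨1, 15, 1⟩], cs_7_6_4⟩,
   ⟨6, 4, [⟨1, 1, 1⟩, ⟨1, 99, 1⟩, ⟨-1, 55, 1⟩, ⟨-1, 48, 1⟩, ⟨-1, 48, 1⟩, ⟨1, 36, 1⟩, ⟨1, 15, 1⟩], cs_7_6_4⟩,
   ⟨6, 4, [⟨1, 1, 1⟩, ⟨1, 99, 1⟩, ⟨-1, 55, 1⟩, ⟨-1, 55, 1⟩, ⟨-1, 20, 1⟩, ⟨1, 15, 1⟩, ⟨1, 15, 1⟩], cs_7_6_4⟩,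
   ⟨6, 4, [⟨1, 1, 1⟩, ⟨1, 99, 1⟩, ⟨-1, 55, 1⟩, ⟨-1, 55, 1⟩, ⟨-1, 48, 1⟩, ⟨1, 36, 1⟩, ⟨1, 22, 1⟩], cs_7_6_4⟩,
   ⟨6, 4, [⟨1, 1, 1⟩, ⟨1, 99, 1⟩, ⟨-1, 90, 1⟩, ⟨-1, 20, 1⟩, ⟨-1, 20, 1⟩, ⟨1, 15, 1⟩, ⟨1, 15, 1⟩], cs_7_6_4⟩,
   ⟨6, 4, [⟨1, 1, 1⟩, ⟨1, 99, 1⟩, ⟨-1, 90, 1⟩, ⟨-1, 48, 1⟩, ⟨1, 36, 1⟩, ⟨1, 22, 1⟩, ⟨-1, 20, 1⟩], cs_7_6_4⟩,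
   ⟨6, 4, [⟨1, 1, 1⟩, ⟨1, 99, 1⟩, ⟨-1, 90, 1⟩, ⟨-1, 55, 1⟩, ⟨1, 15, 1⟩, ⟨1, 15, 1⟩, ⟨1, 15, 1⟩], cs_7_6_4⟩,
   ⟨6, 4, [⟨1, 1, 1⟩, ⟨1, 99, 1⟩, ⟨-1, 90, 1⟩, ⟨-1, 90, 1⟩, ⟨1, 36, 1⟩, ⟨1, 22, 1⟩, ⟨1, 22, 1⟩], cs_7_6_4⟩,
   ⟨6, 4, [⟨1, 1, 1⟩, ⟨1, 99, 1⟩, ⟨1, 99, 1⟩, ⟨-1, 55, 1⟩, ⟨-1, 48, 1⟩, ⟨-1, 48, 1⟩, ⟨-1, 48, 1⟩], cs_7_6_4⟩,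
   ⟨6, 4, [⟨1, 1, 1⟩, ⟨1, 99, 1⟩, ⟨1, 99, 1⟩, ⟨-1, 90, 1⟩, ⟨-1, 90, 1⟩, ⟨-1, 55, 1⟩, ⟨1, 36, 1⟩], cs_7_6_4⟩,
   ⟨6, 4, [⟨1, 1, 1⟩, ⟨1, 120, 1⟩, ⟨-1, 48, 1⟩, ⟨-1, 48, 1⟩, ⟨-1, 20, 1⟩, ⟨-1, 20, 1⟩, ⟨1, 15, 1⟩], cs_7_6_4⟩,
   ⟨6, 4, [⟨1, 1, 1⟩, ⟨1, 120, 1⟩, ⟨-1, 55, 1⟩, ⟨-1, 48, 1⟩, ⟨1, 22, 1⟩, ⟨-1, 20, 1⟩, ⟨-1, 20, 1⟩], cs_7_6_4⟩,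
   ⟨6, 4, [⟨1, 1, 1⟩, ⟨1, 120, 1⟩, ⟨-1, 55, 1⟩, ⟨-1, 48, 1⟩, ⟨-1, 48, 1⟩, ⟨1, 15, 1⟩, ⟨1, 15, 1⟩], cs_7_6_4⟩,
   ⟨6, 4, [⟨1, 1, 1⟩, ⟨1, 120, 1⟩, ⟨-1, 55, 1⟩, ⟨-1, 55, 1⟩, ⟨-1, 48, 1⟩, ⟨1, 22, 1⟩, ⟨1, 15, 1⟩], cs_7_6_4⟩,
   ⟨6, 4, [⟨1, 1, 1⟩, ⟨1, 120, 1⟩, ⟨-1, 55, 1⟩, ⟨-1, 55, 1⟩, ⟨-1, 55, 1⟩, ⟨1, 22, 1⟩, ⟨1, 22, 1⟩], cs_7_6_4⟩,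
   ⟨6, 4, [⟨1, 1, 1⟩, ⟨1, 120, 1⟩, ⟨-1, 90, 1⟩, ⟨-1, 48, 1⟩, ⟨1, 22, 1⟩, ⟨-1, 20, 1⟩, ⟨1, 15, 1⟩], cs_7_6_4⟩,
   ⟨6, 4, [⟨1, 1, 1⟩, ⟨1, 120, 1⟩, ⟨-1, 90, 1⟩, ⟨-1, 55, 1⟩, ⟨1, 22, 1⟩, ⟨1, 22, 1⟩, ⟨-1, 20, 1⟩], cs_7_6_4⟩,
   ⟨6, 4, [⟨1, 1, 1⟩, ⟨1, 120, 1⟩, ⟨-1, 90, 1⟩, ⟨-1, 55, 1⟩, ⟨-1, 48, 1⟩, ⟨1, 36, 1⟩, ⟨1, 36, 1⟩], cs_7_6_4⟩,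
   ⟨6, 4, [⟨1, 1, 1⟩, ⟨1, 120, 1⟩, ⟨-1, 90, 1⟩, ⟨-1, 90, 1⟩, ⟨1, 22, 1⟩, ⟨1, 22, 1⟩, ⟨1, 15, 1⟩], cs_7_6_4⟩,
   ⟨6, 4, [⟨1, 1, 1⟩, ⟨1, 120, 1⟩, ⟨1, 99, 1⟩, ⟨-1, 55, 1⟩, ⟨-1, 55, 1⟩, ⟨-1, 55, 1⟩, ⟨-1, 55, 1⟩], cs_7_6_4⟩,
   ⟨6, 4, [⟨1, 1, 1⟩, ⟨1, 120, 1⟩, ⟨1, 99, 1⟩, ⟨-1, 90, 1⟩, ⟨-1, 55, 1⟩, ⟨-1, 55, 1⟩, ⟨-1, 20, 1⟩], cs_7_6_4⟩,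
   ⟨6, 4, [⟨1, 1, 1⟩, ⟨1, 120, 1⟩, ⟨1, 99, 1⟩, ⟨-1, 90, 1⟩, ⟨-1, 90, 1⟩, ⟨-1, 20, 1⟩, ⟨-1, 20, 1⟩], cs_7_6_4⟩,
   ⟨6, 4, [⟨1, 1, 1⟩, ⟨1, 120, 1⟩, ⟨1, 99, 1⟩, ⟨-1, 90, 1⟩, ⟨-1, 90, 1⟩, ⟨-1, 55, 1⟩, ⟨1, 15, 1⟩], cs_7_6_4⟩,
   ⟨6, 4, [⟨1, 1, 1⟩, ⟨1, 120, 1⟩, ⟨1, 120, 1⟩, ⟨-1, 90, 1⟩, ⟨-1, 55, 1⟩, ⟨-1, 48, 1⟩, ⟨-1, 48, 1⟩], cs_7_6_4⟩,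
   ⟨6, 4, [⟨1, 1, 1⟩, ⟨-1, 132, 1⟩, ⟨1, 36, 1⟩, ⟨1, 36, 1⟩, ⟨1, 22, 1⟩, ⟨1, 22, 1⟩, ⟨1, 15, 1⟩], cs_7_6_4⟩,
   ⟨6, 4, [⟨1, 1, 1⟩, ⟨-1, 132, 1⟩, ⟨1, 99, 1⟩, ⟨1, 22, 1⟩, ⟨-1, 20, 1⟩, ⟨1, 15, 1⟩, ⟨1, 15, 1⟩], cs_7_6_4⟩,
   ⟨6, 4, [⟨1, 1, 1⟩, ⟨-1, 132, 1⟩, ⟨1, 99, 1⟩, ⟨1, 36, 1⟩, ⟨1, 36, 1⟩, ⟨-1, 20, 1⟩, ⟨-1, 20, 1⟩], cs_7_6_4⟩,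
   ⟨6, 4, [⟨1, 1, 1⟩, ⟨-1, 132, 1⟩, ⟨1, 99, 1⟩, ⟨-1, 48, 1⟩, ⟨1, 36, 1⟩, ⟨1, 22, 1⟩, ⟨1, 22, 1⟩], cs_7_6_4⟩,
   ⟨6, 4, [⟨1, 1, 1⟩, ⟨-1, 132, 1⟩, ⟨1, 99, 1⟩, ⟨-1, 55, 1⟩, ⟨1, 36, 1⟩, ⟨1, 36, 1⟩, ⟨1, 15, 1⟩], cs_7_6_4⟩,
   ⟨6, 4, [⟨1, 1, 1⟩, ⟨-1, 132, 1⟩, ⟨1, 99, 1⟩, ⟨1, 99, 1⟩, ⟨-1, 55, 1⟩, ⟨-1, 48, 1⟩, ⟨1, 36, 1⟩], cs_7_6_4⟩,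
   ⟨6, 4, [⟨1, 1, 1⟩, ⟨-1, 132, 1⟩, ⟨1, 120, 1⟩, ⟨1, 36, 1⟩, ⟨-1, 20, 1⟩, ⟨-1, 20, 1⟩, ⟨1, 15, 1⟩], cs_7_6_4⟩,
   ⟨6, 4, [⟨1, 1, 1⟩, ⟨-1, 132, 1⟩, ⟨1, 120, 1⟩, ⟨-1, 48, 1⟩, ⟨1, 22, 1⟩, ⟨1, 22, 1⟩, ⟨1, 15, 1⟩], cs_7_6_4⟩,
   ⟨6, 4, [⟨1, 1, 1⟩, ⟨-1, 132, 1⟩, ⟨1, 120, 1⟩, ⟨-1, 55, 1⟩, ⟨1, 22, 1⟩, ⟨1, 22, 1⟩, ⟨1, 22, 1⟩], cs_7_6_4⟩,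
   ⟨6, 4, [⟨1, 1, 1⟩, ⟨-1, 132, 1⟩, ⟨1, 120, 1⟩, ⟨-1, 55, 1⟩, ⟨1, 36, 1⟩, ⟨1, 15, 1⟩, ⟨1, 15, 1⟩], cs_7_6_4⟩,
   ⟨6, 4, [⟨1, 1, 1⟩, ⟨-1, 132, 1⟩, ⟨1, 120, 1⟩, ⟨1, 99, 1⟩, ⟨-1, 48, 1⟩, ⟨-1, 20, 1⟩, ⟨-1, 20, 1⟩], cs_7_6_4⟩,
   ⟨6, 4, [⟨1, 1, 1⟩, ⟨-1, 132, 1⟩, ⟨1, 120, 1⟩, ⟨1, 99, 1⟩, ⟨-1, 55, 1⟩, ⟨-1, 48, 1⟩, ⟨1, 15, 1⟩], cs_7_6_4⟩,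
   ⟨6, 4, [⟨1, 1, 1⟩, ⟨-1, 132, 1⟩, ⟨1, 120, 1⟩, ⟨1, 99, 1⟩, ⟨-1, 55, 1⟩, ⟨-1, 55, 1⟩, ⟨1, 22, 1⟩], cs_7_6_4⟩,
   ⟨6, 4, [⟨1, 1, 1⟩, ⟨-1, 132, 1⟩, ⟨1, 120, 1⟩, ⟨1, 99, 1⟩, ⟨-1, 90, 1⟩, ⟨1, 22, 1⟩, ⟨-1, 20, 1⟩], cs_7_6_4⟩,
   ⟨6, 4, [⟨1, 1, 1⟩, ⟨-1, 132, 1⟩, ⟨1, 120, 1⟩, ⟨1, 120, 1⟩, ⟨-1, 90, 1⟩, ⟨-1, 55, 1⟩, ⟨1, 36, 1⟩], cs_7_6_4⟩,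
   ⟨6, 4, [⟨1, 1, 1⟩, ⟨-1, 132, 1⟩, ⟨-1, 132, 1⟩, ⟨1, 120, 1⟩, ⟨1, 99, 1⟩, ⟨1, 22, 1⟩, ⟨1, 22, 1⟩], cs_7_6_4⟩,
   ⟨6, 4, [⟨1, 1, 1⟩, ⟨-1, 132, 1⟩, ⟨-1, 132, 1⟩, ⟨1, 120, 1⟩, ⟨1, 99, 1⟩, ⟨1, 99, 1⟩, ⟨-1, 55, 1⟩], cs_7_6_4⟩,
   ⟨6, 4, [⟨1, 1, 1⟩, ⟨-1, 160, 1⟩, ⟨1, 36, 1⟩, ⟨1, 36, 1⟩, ⟨1, 36, 1⟩, ⟨1, 36, 1⟩, ⟨1, 15, 1⟩], cs_7_6_4⟩,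
   ⟨6, 4, [⟨1, 1, 1⟩, ⟨-1, 160, 1⟩, ⟨1, 99, 1⟩, ⟨1, 15, 1⟩, ⟨1, 15, 1⟩, ⟨1, 15, 1⟩, ⟨1, 15, 1⟩], cs_7_6_4⟩,
   ⟨6, 4, [⟨1, 1, 1⟩, ⟨-1, 160, 1⟩, ⟨1, 99, 1⟩, ⟨1, 36, 1⟩, ⟨1, 22, 1⟩, ⟨1, 22, 1⟩, ⟨-1, 20, 1⟩], cs_7_6_4⟩,
   ⟨6, 4, [⟨1, 1, 1⟩, ⟨-1, 160, 1⟩, ⟨1, 99, 1⟩, ⟨-1, 48, 1⟩, ⟨1, 36, 1⟩, ⟨1, 36, 1⟩, ⟨1, 36, 1⟩], cs_7_6_4⟩,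
   ⟨6, 4, [⟨1, 1, 1⟩, ⟨-1, 160, 1⟩, ⟨1, 99, 1⟩, ⟨1, 99, 1⟩, ⟨-1, 55, 1⟩, ⟨1, 36, 1⟩, ⟨-1, 20, 1⟩], cs_7_6_4⟩,
   ⟨6, 4, [⟨1, 1, 1⟩, ⟨-1, 160, 1⟩, ⟨1, 99, 1⟩, ⟨1, 99, 1⟩, ⟨-1, 90, 1⟩, ⟨1, 36, 1⟩, ⟨1, 15, 1⟩], cs_7_6_4⟩,
   ⟨6, 4, [⟨1, 1, 1⟩, ⟨-1, 160, 1⟩, ⟨1, 99, 1⟩, ⟨1, 99, 1⟩, ⟨1, 99, 1⟩, ⟨-1, 90, 1⟩, ⟨-1, 48, 1⟩], cs_7_6_4⟩,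
   ⟨6, 4, [⟨1, 1, 1⟩, ⟨-1, 160, 1⟩, ⟨1, 120, 1⟩, ⟨1, 22, 1⟩, ⟨1, 22, 1⟩, ⟨-1, 20, 1⟩, ⟨1, 15, 1⟩], cs_7_6_4⟩,
   ⟨6, 4, [⟨1, 1, 1⟩, ⟨-1, 160, 1⟩, ⟨1, 120, 1⟩, ⟨-1, 48, 1⟩, ⟨1, 36, 1⟩, ⟨1, 36, 1⟩, ⟨1, 15, 1⟩], cs_7_6_4⟩,
   ⟨6, 4, [⟨1, 1, 1⟩, ⟨-1, 160, 1⟩, ⟨1, 120, 1⟩, ⟨-1, 55, 1⟩, ⟨1, 36, 1⟩, ⟨1, 36, 1⟩, ⟨1, 22, 1⟩], cs_7_6_4⟩,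
   ⟨6, 4, [⟨1, 1, 1⟩, ⟨-1, 160, 1⟩, ⟨1, 120, 1⟩, ⟨1, 99, 1⟩, ⟨-1, 20, 1⟩, ⟨-1, 20, 1⟩, ⟨-1, 20, 1⟩], cs_7_6_4⟩,
   ⟨6, 4, [⟨1, 1, 1⟩, ⟨-1, 160, 1⟩, ⟨1, 120, 1⟩, ⟨1, 99, 1⟩, ⟨-1, 48, 1⟩, ⟨-1, 48, 1⟩, ⟨1, 36, 1⟩], cs_7_6_4⟩,
   ⟨6, 4, [⟨1, 1, 1⟩, ⟨-1, 160, 1⟩, ⟨1, 120, 1⟩, ⟨1, 99, 1⟩, ⟨-1, 55, 1⟩, ⟨-1, 20, 1⟩, ⟨1, 15, 1⟩], cs_7_6_4⟩,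
   ⟨6, 4, [⟨1, 1, 1⟩, ⟨-1, 160, 1⟩, ⟨1, 120, 1⟩, ⟨1, 99, 1⟩, ⟨-1, 90, 1⟩, ⟨1, 15, 1⟩, ⟨1, 15, 1⟩], cs_7_6_4⟩,
   ⟨6, 4, [⟨1, 1, 1⟩, ⟨-1, 160, 1⟩, ⟨1, 120, 1⟩, ⟨1, 120, 1⟩, ⟨-1, 48, 1⟩, ⟨-1, 48, 1⟩, ⟨1, 15, 1⟩], cs_7_6_4⟩,
   ⟨6, 4, [⟨1, 1, 1⟩, ⟨-1, 160, 1⟩, ⟨1, 120, 1⟩, ⟨1, 120, 1⟩, ⟨-1, 55, 1⟩, ⟨-1, 48, 1⟩, ⟨1, 22, 1⟩], cs_7_6_4⟩,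
   ⟨6, 4, [⟨1, 1, 1⟩, ⟨-1, 160, 1⟩, ⟨1, 120, 1⟩, ⟨1, 120, 1⟩, ⟨1, 99, 1⟩, ⟨-1, 90, 1⟩, ⟨-1, 90, 1⟩], cs_7_6_4⟩,
   ⟨6, 4, [⟨1, 1, 1⟩, ⟨-1, 160, 1⟩, ⟨-1, 132, 1⟩, ⟨1, 120, 1⟩, ⟨1, 99, 1⟩, ⟨1, 36, 1⟩, ⟨1, 36, 1⟩], cs_7_6_4⟩,
   ⟨6, 4, [⟨1, 1, 1⟩, ⟨-1, 160, 1⟩, ⟨-1, 132, 1⟩, ⟨1, 120, 1⟩, ⟨1, 120, 1⟩, ⟨1, 36, 1⟩, ⟨1, 15, 1⟩], cs_7_6_4⟩,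
   ⟨6, 4, [⟨1, 1, 1⟩, ⟨-1, 160, 1⟩, ⟨-1, 132, 1⟩, ⟨1, 120, 1⟩, ⟨1, 120, 1⟩, ⟨1, 99, 1⟩, ⟨-1, 48, 1⟩], cs_7_6_4⟩,
   ⟨6, 4, [⟨1, 1, 1⟩, ⟨-1, 160, 1⟩, ⟨-1, 160, 1⟩, ⟨1, 99, 1⟩, ⟨1, 99, 1⟩, ⟨1, 99, 1⟩, ⟨1, 22, 1⟩], cs_7_6_4⟩,
   ⟨6, 4, [⟨1, 1, 1⟩, ⟨-1, 160, 1⟩, ⟨-1, 160, 1⟩, ⟨1, 120, 1⟩, ⟨1, 120, 1⟩, ⟨1, 99, 1⟩, ⟨-1, 20, 1⟩], cs_7_6_4⟩,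
   ⟨6, 4, [⟨1, 1, 1⟩, ⟨1, 176, 1⟩, ⟨-1, 48, 1⟩, ⟨-1, 48, 1⟩, ⟨-1, 48, 1⟩, ⟨-1, 48, 1⟩, ⟨1, 15, 1⟩], cs_7_6_4⟩,
   ⟨6, 4, [⟨1, 1, 1⟩, ⟨1, 176, 1⟩, ⟨-1, 55, 1⟩, ⟨-1, 48, 1⟩, ⟨-1, 48, 1⟩, ⟨-1, 48, 1⟩, ⟨1, 22, 1⟩], cs_7_6_4⟩,
   ⟨6, 4, [⟨1, 1, 1⟩, ⟨1, 176, 1⟩, ⟨-1, 55, 1⟩, ⟨-1, 55, 1⟩, ⟨-1, 55, 1⟩, ⟨-1, 48, 1⟩, ⟨1, 36, 1⟩], cs_7_6_4⟩,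
   ⟨6, 4, [⟨1, 1, 1⟩, ⟨1, 176, 1⟩, ⟨-1, 90, 1⟩, ⟨-1, 55, 1⟩, ⟨-1, 48, 1⟩, ⟨1, 36, 1⟩, ⟨-1, 20, 1⟩], cs_7_6_4⟩,
   ⟨6, 4, [⟨1, 1, 1⟩, ⟨1, 176, 1⟩, ⟨-1, 90, 1⟩, ⟨-1, 90, 1⟩, ⟨-1, 48, 1⟩, ⟨1, 36, 1⟩, ⟨1, 15, 1⟩], cs_7_6_4⟩,
   ⟨6, 4, [⟨1, 1, 1⟩, ⟨1, 176, 1⟩, ⟨-1, 90, 1⟩, ⟨-1, 90, 1⟩, ⟨-1, 55, 1⟩, ⟨1, 36, 1⟩, ⟨1, 22, 1⟩], cs_7_6_4⟩,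
   ⟨6, 4, [⟨1, 1, 1⟩, ⟨1, 176, 1⟩, ⟨1, 99, 1⟩, ⟨-1, 90, 1⟩, ⟨-1, 90, 1⟩, ⟨-1, 48, 1⟩, ⟨-1, 48, 1⟩], cs_7_6_4⟩,
   ⟨6, 4, [⟨1, 1, 1⟩, ⟨1, 176, 1⟩, ⟨-1, 132, 1⟩, ⟨-1, 20, 1⟩, ⟨-1, 20, 1⟩, ⟨-1, 20, 1⟩, ⟨1, 15, 1⟩], cs_7_6_4⟩,
   ⟨6, 4, [⟨1, 1, 1⟩, ⟨1, 176, 1⟩, ⟨-1, 132, 1⟩, ⟨-1, 48, 1⟩, ⟨-1, 48, 1⟩, ⟨1, 36, 1⟩, ⟨1, 15, 1⟩], cs_7_6_4⟩,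
   ⟨6, 4, [⟨1, 1, 1⟩, ⟨1, 176, 1⟩, ⟨-1, 132, 1⟩, ⟨-1, 55, 1⟩, ⟨-1, 20, 1⟩, ⟨1, 15, 1⟩, ⟨1, 15, 1⟩], cs_7_6_4⟩,
   ⟨6, 4, [⟨1, 1, 1⟩, ⟨1, 176, 1⟩, ⟨-1, 132, 1⟩, ⟨-1, 55, 1⟩, ⟨-1, 48, 1⟩, ⟨1, 36, 1⟩, ⟨1, 22, 1⟩], cs_7_6_4⟩,
   ⟨6, 4, [⟨1, 1, 1⟩, ⟨1, 176, 1⟩, ⟨-1, 132, 1⟩, ⟨-1, 90, 1⟩, ⟨1, 15, 1⟩, ⟨1, 15, 1⟩, ⟨1, 15, 1⟩], cs_7_6_4⟩,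
   ⟨6, 4, [⟨1, 1, 1⟩, ⟨1, 176, 1⟩, ⟨-1, 132, 1⟩, ⟨1, 99, 1⟩, ⟨-1, 48, 1⟩, ⟨-1, 48, 1⟩, ⟨-1, 48, 1⟩], cs_7_6_4⟩,
   ⟨6, 4, [⟨1, 1, 1⟩, ⟨1, 176, 1⟩, ⟨-1, 132, 1⟩, ⟨1, 99, 1⟩, ⟨-1, 90, 1⟩, ⟨-1, 90, 1⟩, ⟨1, 36, 1⟩], cs_7_6_4⟩,
   ⟨6, 4, [⟨1, 1, 1⟩, ⟨1, 176, 1⟩, ⟨-1, 132, 1⟩, ⟨1, 120, 1⟩, ⟨-1, 55, 1⟩, ⟨-1, 55, 1⟩, ⟨-1, 55, 1⟩], cs_7_6_4⟩,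
   ⟨6, 4, [⟨1, 1, 1⟩, ⟨1, 176, 1⟩, ⟨-1, 132, 1⟩, ⟨1, 120, 1⟩, ⟨-1, 90, 1⟩, ⟨-1, 55, 1⟩, ⟨-1, 20, 1⟩], cs_7_6_4⟩,
   ⟨6, 4, [⟨1, 1, 1⟩, ⟨1, 176, 1⟩, ⟨-1, 132, 1⟩, ⟨1, 120, 1⟩, ⟨-1, 90, 1⟩, ⟨-1, 90, 1⟩, ⟨1, 15, 1⟩], cs_7_6_4⟩,
   ⟨6, 4, [⟨1, 1, 1⟩, ⟨1, 176, 1⟩, ⟨-1, 132, 1⟩, ⟨-1, 132, 1⟩, ⟨1, 36, 1⟩, ⟨1, 36, 1⟩, ⟨1, 15, 1⟩], cs_7_6_4⟩,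
   ⟨6, 4, [⟨1, 1, 1⟩, ⟨1, 176, 1⟩, ⟨-1, 132, 1⟩, ⟨-1, 132, 1⟩, ⟨1, 99, 1⟩, ⟨-1, 48, 1⟩, ⟨1, 36, 1⟩], cs_7_6_4⟩,
   ⟨6, 4, [⟨1, 1, 1⟩, ⟨1, 176, 1⟩, ⟨-1, 132, 1⟩, ⟨-1, 132, 1⟩, ⟨1, 120, 1⟩, ⟨-1, 48, 1⟩, ⟨1, 15, 1⟩], cs_7_6_4⟩,
   ⟨6, 4, [⟨1, 1, 1⟩, ⟨1, 176, 1⟩, ⟨-1, 132, 1⟩, ⟨-1, 132, 1⟩, ⟨1, 120, 1⟩, ⟨-1, 55, 1⟩, ⟨1, 22, 1⟩], cs_7_6_4⟩,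
   ⟨6, 4, [⟨1, 1, 1⟩, ⟨1, 176, 1⟩, ⟨-1, 132, 1⟩, ⟨-1, 132, 1⟩, ⟨-1, 132, 1⟩, ⟨1, 120, 1⟩, ⟨1, 99, 1⟩], cs_7_6_4⟩,
   ⟨6, 4, [⟨1, 1, 1⟩, ⟨1, 176, 1⟩, ⟨-1, 160, 1⟩, ⟨-1, 48, 1⟩, ⟨1, 36, 1⟩, ⟨-1, 20, 1⟩, ⟨1, 15, 1⟩], cs_7_6_4⟩,
   ⟨6, 4, [⟨1, 1, 1⟩, ⟨1, 176, 1⟩, ⟨-1, 160, 1⟩, ⟨-1, 55, 1⟩, ⟨1, 36, 1⟩, ⟨1, 22, 1⟩, ⟨-1, 20, 1⟩], cs_7_6_4⟩,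
   ⟨6, 4, [⟨1, 1, 1⟩, ⟨1, 176, 1⟩, ⟨-1, 160, 1⟩, ⟨-1, 90, 1⟩, ⟨1, 36, 1⟩, ⟨1, 22, 1⟩, ⟨1, 15, 1⟩], cs_7_6_4⟩,
   ⟨6, 4, [⟨1, 1, 1⟩, ⟨1, 176, 1⟩, ⟨-1, 160, 1⟩, ⟨1, 99, 1⟩, ⟨-1, 48, 1⟩, ⟨-1, 48, 1⟩, ⟨-1, 20, 1⟩], cs_7_6_4⟩,
   ⟨6, 4, [⟨1, 1, 1⟩, ⟨1, 176, 1⟩, ⟨-1, 160, 1⟩, ⟨1, 99, 1⟩, ⟨-1, 90, 1⟩, ⟨-1, 48, 1⟩, ⟨1, 22, 1⟩], cs_7_6_4⟩,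
   ⟨6, 4, [⟨1, 1, 1⟩, ⟨1, 176, 1⟩, ⟨-1, 160, 1⟩, ⟨-1, 132, 1⟩, ⟨1, 99, 1⟩, ⟨1, 36, 1⟩, ⟨-1, 20, 1⟩], cs_7_6_4⟩,
   ⟨6, 4, [⟨1, 1, 1⟩, ⟨1, 176, 1⟩, ⟨-1, 160, 1⟩, ⟨-1, 132, 1⟩, ⟨1, 120, 1⟩, ⟨-1, 20, 1⟩, ⟨1, 15, 1⟩], cs_7_6_4⟩,
   ⟨6, 4, [⟨1, 1, 1⟩, ⟨1, 176, 1⟩, ⟨-1, 160, 1⟩, ⟨-1, 160, 1⟩, ⟨1, 99, 1⟩, ⟨1, 22, 1⟩, ⟨1, 22, 1⟩], cs_7_6_4⟩,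
   ⟨6, 4, [⟨1, 1, 1⟩, ⟨1, 176, 1⟩, ⟨-1, 160, 1⟩, ⟨-1, 160, 1⟩, ⟨1, 99, 1⟩, ⟨1, 99, 1⟩, ⟨-1, 55, 1⟩], cs_7_6_4⟩,
   ⟨6, 4, [⟨1, 1, 1⟩, ⟨1, 176, 1⟩, ⟨1, 176, 1⟩, ⟨-1, 160, 1⟩, ⟨-1, 90, 1⟩, ⟨-1, 55, 1⟩, ⟨-1, 48, 1⟩], cs_7_6_4⟩,
   ⟨6, 4, [⟨1, 1, 1⟩, ⟨1, 176, 1⟩, ⟨1, 176, 1⟩, ⟨-1, 160, 1⟩, ⟨-1, 160, 1⟩, ⟨-1, 48, 1⟩, ⟨1, 15, 1⟩], cs_7_6_4⟩,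
   ⟨6, 4, [⟨1, 1, 1⟩, ⟨1, 176, 1⟩, ⟨1, 176, 1⟩, ⟨-1, 160, 1⟩, ⟨-1, 160, 1⟩, ⟨-1, 55, 1⟩, ⟨1, 22, 1⟩], cs_7_6_4⟩,
   ⟨6, 4, [⟨1, 1, 1⟩, ⟨1, 176, 1⟩, ⟨1, 176, 1⟩, ⟨-1, 160, 1⟩, ⟨-1, 160, 1⟩, ⟨-1, 132, 1⟩, ⟨1, 99, 1⟩], cs_7_6_4⟩,
   ⟨6, 4, [⟨1, 1, 1⟩, ⟨1, 288, 1⟩, ⟨-1, 90, 1⟩, ⟨-1, 55, 1⟩, ⟨-1, 48, 1⟩, ⟨-1, 48, 1⟩, ⟨-1, 48, 1⟩], cs_7_6_4⟩,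
   ⟨6, 4, [⟨1, 1, 1⟩, ⟨1, 288, 1⟩, ⟨-1, 90, 1⟩, ⟨-1, 90, 1⟩, ⟨-1, 90, 1⟩, ⟨-1, 55, 1⟩, ⟨1, 36, 1⟩], cs_7_6_4⟩,
   ⟨6, 4, [⟨1, 1, 1⟩, ⟨1, 288, 1⟩, ⟨-1, 132, 1⟩, ⟨-1, 90, 1⟩, ⟨-1, 55, 1⟩, ⟨-1, 48, 1⟩, ⟨1, 36, 1⟩], cs_7_6_4⟩,
   ⟨6, 4, [⟨1, 1, 1⟩, ⟨1, 288, 1⟩, ⟨-1, 132, 1⟩, ⟨-1, 132, 1⟩, ⟨-1, 20, 1⟩, ⟨-1, 20, 1⟩, ⟨1, 15, 1⟩], cs_7_6_4⟩,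
   ⟨6, 4, [⟨1, 1, 1⟩, ⟨1, 288, 1⟩, ⟨-1, 132, 1⟩, ⟨-1, 132, 1⟩, ⟨-1, 55, 1⟩, ⟨1, 15, 1⟩, ⟨1, 15, 1⟩], cs_7_6_4⟩,
   ⟨6, 4, [⟨1, 1, 1⟩, ⟨1, 288, 1⟩, ⟨-1, 132, 1⟩, ⟨-1, 132, 1⟩, ⟨1, 120, 1⟩, ⟨-1, 90, 1⟩, ⟨-1, 55, 1⟩], cs_7_6_4⟩,
   ⟨6, 4, [⟨1, 1, 1⟩, ⟨1, 288, 1⟩, ⟨-1, 160, 1⟩, ⟨-1, 48, 1⟩, ⟨-1, 48, 1⟩, ⟨-1, 48, 1⟩, ⟨1, 15, 1⟩], cs_7_6_4⟩,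
   ⟨6, 4, [⟨1, 1, 1⟩, ⟨1, 288, 1⟩, ⟨-1, 160, 1⟩, ⟨-1, 55, 1⟩, ⟨-1, 48, 1⟩, ⟨-1, 48, 1⟩, ⟨1, 22, 1⟩], cs_7_6_4⟩,
   ⟨6, 4, [⟨1, 1, 1⟩, ⟨1, 288, 1⟩, ⟨-1, 160, 1⟩, ⟨-1, 55, 1⟩, ⟨-1, 55, 1⟩, ⟨-1, 55, 1⟩, ⟨1, 36, 1⟩], cs_7_6_4⟩,
   ⟨6, 4, [⟨1, 1, 1⟩, ⟨1, 288, 1⟩, ⟨-1, 160, 1⟩, ⟨-1, 90, 1⟩, ⟨-1, 55, 1⟩, ⟨1, 36, 1⟩, ⟨-1, 20, 1⟩], cs_7_6_4⟩,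
   ⟨6, 4, [⟨1, 1, 1⟩, ⟨1, 288, 1⟩, ⟨-1, 160, 1⟩, ⟨-1, 90, 1⟩, ⟨-1, 90, 1⟩, ⟨1, 36, 1⟩, ⟨1, 15, 1⟩], cs_7_6_4⟩,
   ⟨6, 4, [⟨1, 1, 1⟩, ⟨1, 288, 1⟩, ⟨-1, 160, 1⟩, ⟨1, 99, 1⟩, ⟨-1, 90, 1⟩, ⟨-1, 90, 1⟩, ⟨-1, 48, 1⟩], cs_7_6_4⟩,
   ⟨6, 4, [⟨1, 1, 1⟩, ⟨1, 288, 1⟩, ⟨-1, 160, 1⟩, ⟨-1, 132, 1⟩, ⟨-1, 48, 1⟩, ⟨1, 36, 1⟩, ⟨1, 15, 1⟩], cs_7_6_4⟩,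
   ⟨6, 4, [⟨1, 1, 1⟩, ⟨1, 288, 1⟩, ⟨-1, 160, 1⟩, ⟨-1, 132, 1⟩, ⟨-1, 55, 1⟩, ⟨1, 36, 1⟩, ⟨1, 22, 1⟩], cs_7_6_4⟩,
   ⟨6, 4, [⟨1, 1, 1⟩, ⟨1, 288, 1⟩, ⟨-1, 160, 1⟩, ⟨-1, 132, 1⟩, ⟨1, 99, 1⟩, ⟨-1, 48, 1⟩, ⟨-1, 48, 1⟩], cs_7_6_4⟩,
   ⟨6, 4, [⟨1, 1, 1⟩, ⟨1, 288, 1⟩, ⟨-1, 160, 1⟩, ⟨-1, 132, 1⟩, ⟨-1, 132, 1⟩, ⟨1, 99, 1⟩, ⟨1, 36, 1⟩], cs_7_6_4⟩,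
   ⟨6, 4, [⟨1, 1, 1⟩, ⟨1, 288, 1⟩, ⟨-1, 160, 1⟩, ⟨-1, 132, 1⟩, ⟨-1, 132, 1⟩, ⟨1, 120, 1⟩, ⟨1, 15, 1⟩], cs_7_6_4⟩,
   ⟨6, 4, [⟨1, 1, 1⟩, ⟨1, 288, 1⟩, ⟨-1, 160, 1⟩, ⟨-1, 160, 1⟩, ⟨1, 36, 1⟩, ⟨-1, 20, 1⟩, ⟨1, 15, 1⟩], cs_7_6_4⟩,
   ⟨6, 4, [⟨1, 1, 1⟩, ⟨1, 288, 1⟩, ⟨-1, 160, 1⟩, ⟨-1, 160, 1⟩, ⟨1, 99, 1⟩, ⟨-1, 48, 1⟩, ⟨-1, 20, 1⟩], cs_7_6_4⟩,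
   ⟨6, 4, [⟨1, 1, 1⟩, ⟨1, 288, 1⟩, ⟨-1, 160, 1⟩, ⟨-1, 160, 1⟩, ⟨1, 99, 1⟩, ⟨-1, 90, 1⟩, ⟨1, 22, 1⟩], cs_7_6_4⟩,
   ⟨6, 4, [⟨1, 1, 1⟩, ⟨1, 288, 1⟩, ⟨1, 176, 1⟩, ⟨-1, 160, 1⟩, ⟨-1, 160, 1⟩, ⟨-1, 90, 1⟩, ⟨-1, 55, 1⟩], cs_7_6_4⟩,
   ⟨6, 4, [⟨1, 1, 1⟩, ⟨1, 288, 1⟩, ⟨1, 176, 1⟩, ⟨-1, 160, 1⟩, ⟨-1, 160, 1⟩, ⟨-1, 160, 1⟩, ⟨1, 15, 1⟩], cs_7_6_4⟩,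
   ⟨6, 4, [⟨1, 1, 1⟩, ⟨1, 330, 1⟩, ⟨-1, 90, 1⟩, ⟨-1, 90, 1⟩, ⟨-1, 55, 1⟩, ⟨-1, 48, 1⟩, ⟨-1, 48, 1⟩], cs_7_6_4⟩,
   ⟨6, 4, [⟨1, 1, 1⟩, ⟨1, 330, 1⟩, ⟨-1, 132, 1⟩, ⟨-1, 55, 1⟩, ⟨-1, 48, 1⟩, ⟨-1, 48, 1⟩, ⟨-1, 48, 1⟩], cs_7_6_4⟩,
   ⟨6, 4, [⟨1, 1, 1⟩, ⟨1, 330, 1⟩, ⟨-1, 132, 1⟩, ⟨-1, 90, 1⟩, ⟨-1, 90, 1⟩, ⟨-1, 55, 1⟩, ⟨1, 36, 1⟩], cs_7_6_4⟩,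
   ⟨6, 4, [⟨1, 1, 1⟩, ⟨1, 330, 1⟩, ⟨-1, 132, 1⟩, ⟨-1, 132, 1⟩, ⟨-1, 55, 1⟩, ⟨-1, 48, 1⟩, ⟨1, 36, 1⟩], cs_7_6_4⟩,
   ⟨6, 4, [⟨1, 1, 1⟩, ⟨1, 330, 1⟩, ⟨-1, 132, 1⟩, ⟨-1, 132, 1⟩, ⟨-1, 132, 1⟩, ⟨1, 120, 1⟩, ⟨-1, 55, 1⟩], cs_7_6_4⟩,
   ⟨6, 4, [⟨1, 1, 1⟩, ⟨1, 330, 1⟩, ⟨-1, 160, 1⟩, ⟨-1, 55, 1⟩, ⟨-1, 48, 1⟩, ⟨-1, 48, 1⟩, ⟨-1, 20, 1⟩], cs_7_6_4⟩,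
   ⟨6, 4, [⟨1, 1, 1⟩, ⟨1, 330, 1⟩, ⟨-1, 160, 1⟩, ⟨-1, 90, 1⟩, ⟨-1, 48, 1⟩, ⟨-1, 48, 1⟩, ⟨1, 15, 1⟩], cs_7_6_4⟩,
   ⟨6, 4, [⟨1, 1, 1⟩, ⟨1, 330, 1⟩, ⟨-1, 160, 1⟩, ⟨-1, 90, 1⟩, ⟨-1, 55, 1⟩, ⟨-1, 48, 1⟩, ⟨1, 22, 1⟩], cs_7_6_4⟩,
   ⟨6, 4, [⟨1, 1, 1⟩, ⟨1, 330, 1⟩, ⟨-1, 160, 1⟩, ⟨1, 99, 1⟩, ⟨-1, 90, 1⟩, ⟨-1, 90, 1⟩, ⟨-1, 90, 1⟩], cs_7_6_4⟩,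
   ⟨6, 4, [⟨1, 1, 1⟩, ⟨1, 330, 1⟩, ⟨-1, 160, 1⟩, ⟨-1, 132, 1⟩, ⟨-1, 55, 1⟩, ⟨1, 36, 1⟩, ⟨-1, 20, 1⟩], cs_7_6_4⟩,
   ⟨6, 4, [⟨1, 1, 1⟩, ⟨1, 330, 1⟩, ⟨-1, 160, 1⟩, ⟨-1, 132, 1⟩, ⟨-1, 90, 1⟩, ⟨1, 36, 1⟩, ⟨1, 15, 1⟩], cs_7_6_4⟩,
   ⟨6, 4, [⟨1, 1, 1⟩, ⟨1, 330, 1⟩, ⟨-1, 160, 1⟩, ⟨-1, 132, 1⟩, ⟨1, 99, 1⟩, ⟨-1, 90, 1⟩, ⟨-1, 48, 1⟩], cs_7_6_4⟩,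
   ⟨6, 4, [⟨1, 1, 1⟩, ⟨1, 330, 1⟩, ⟨-1, 160, 1⟩, ⟨-1, 160, 1⟩, ⟨-1, 48, 1⟩, ⟨1, 22, 1⟩, ⟨1, 15, 1⟩], cs_7_6_4⟩,
   ⟨6, 4, [⟨1, 1, 1⟩, ⟨1, 330, 1⟩, ⟨-1, 160, 1⟩, ⟨-1, 160, 1⟩, ⟨-1, 55, 1⟩, ⟨1, 22, 1⟩, ⟨1, 22, 1⟩], cs_7_6_4⟩,
   ⟨6, 4, [⟨1, 1, 1⟩, ⟨1, 330, 1⟩, ⟨-1, 160, 1⟩, ⟨-1, 160, 1⟩, ⟨1, 99, 1⟩, ⟨-1, 55, 1⟩, ⟨-1, 55, 1⟩], cs_7_6_4⟩,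
   ⟨6, 4, [⟨1, 1, 1⟩, ⟨1, 330, 1⟩, ⟨-1, 160, 1⟩, ⟨-1, 160, 1⟩, ⟨1, 99, 1⟩, ⟨-1, 90, 1⟩, ⟨-1, 20, 1⟩], cs_7_6_4⟩,
   ⟨6, 4, [⟨1, 1, 1⟩, ⟨1, 330, 1⟩, ⟨-1, 160, 1⟩, ⟨-1, 160, 1⟩, ⟨-1, 132, 1⟩, ⟨1, 99, 1⟩, ⟨1, 22, 1⟩], cs_7_6_4⟩,
   ⟨6, 4, [⟨1, 1, 1⟩, ⟨1, 330, 1⟩, ⟨1, 176, 1⟩, ⟨-1, 160, 1⟩, ⟨-1, 160, 1⟩, ⟨-1, 132, 1⟩, ⟨-1, 55, 1⟩], cs_7_6_4⟩,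
   ⟨6, 4, [⟨1, 1, 1⟩, ⟨-1, 440, 1⟩, ⟨1, 120, 1⟩, ⟨1, 99, 1⟩, ⟨1, 99, 1⟩, ⟨1, 99, 1⟩, ⟨1, 22, 1⟩], cs_7_6_4⟩,
   ⟨6, 4, [⟨1, 1, 1⟩, ⟨-1, 440, 1⟩, ⟨1, 120, 1⟩, ⟨1, 120, 1⟩, ⟨1, 120, 1⟩, ⟨1, 99, 1⟩, ⟨-1, 20, 1⟩], cs_7_6_4⟩,
   ⟨6, 4, [⟨1, 1, 1⟩, ⟨-1, 440, 1⟩, ⟨1, 176, 1⟩, ⟨1, 120, 1⟩, ⟨1, 99, 1⟩, ⟨1, 22, 1⟩, ⟨1, 22, 1⟩], cs_7_6_4⟩,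
   ⟨6, 4, [⟨1, 1, 1⟩, ⟨-1, 440, 1⟩, ⟨1, 176, 1⟩, ⟨1, 120, 1⟩, ⟨1, 99, 1⟩, ⟨1, 99, 1⟩, ⟨-1, 55, 1⟩], cs_7_6_4⟩,
   ⟨6, 4, [⟨1, 1, 1⟩, ⟨-1, 440, 1⟩, ⟨1, 176, 1⟩, ⟨1, 176, 1⟩, ⟨1, 36, 1⟩, ⟨1, 36, 1⟩, ⟨1, 15, 1⟩], cs_7_6_4⟩,
   ⟨6, 4, [⟨1, 1, 1⟩, ⟨-1, 440, 1⟩, ⟨1, 176, 1⟩, ⟨1, 176, 1⟩, ⟨1, 99, 1⟩, ⟨-1, 48, 1⟩, ⟨1, 36, 1⟩], cs_7_6_4⟩,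
   ⟨6, 4, [⟨1, 1, 1⟩, ⟨-1, 440, 1⟩, ⟨1, 176, 1⟩, ⟨1, 176, 1⟩, ⟨1, 120, 1⟩, ⟨-1, 48, 1⟩, ⟨1, 15, 1⟩], cs_7_6_4⟩,
   ⟨6, 4, [⟨1, 1, 1⟩, ⟨-1, 440, 1⟩, ⟨1, 176, 1⟩, ⟨1, 176, 1⟩, ⟨1, 120, 1⟩, ⟨-1, 55, 1⟩, ⟨1, 22, 1⟩], cs_7_6_4⟩,
   ⟨6, 4, [⟨1, 1, 1⟩, ⟨-1, 440, 1⟩, ⟨1, 176, 1⟩, ⟨1, 176, 1⟩, ⟨-1, 132, 1⟩, ⟨1, 120, 1⟩, ⟨1, 99, 1⟩], cs_7_6_4⟩,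
   ⟨6, 4, [⟨1, 1, 1⟩, ⟨-1, 440, 1⟩, ⟨1, 288, 1⟩, ⟨1, 99, 1⟩, ⟨1, 22, 1⟩, ⟨1, 15, 1⟩, ⟨1, 15, 1⟩], cs_7_6_4⟩,
   ⟨6, 4, [⟨1, 1, 1⟩, ⟨-1, 440, 1⟩, ⟨1, 288, 1⟩, ⟨1, 99, 1⟩, ⟨1, 36, 1⟩, ⟨1, 36, 1⟩, ⟨-1, 20, 1⟩], cs_7_6_4⟩,
   ⟨6, 4, [⟨1, 1, 1⟩, ⟨-1, 440, 1⟩, ⟨1, 288, 1⟩, ⟨1, 120, 1⟩, ⟨1, 36, 1⟩, ⟨-1, 20, 1⟩, ⟨1, 15, 1⟩], cs_7_6_4⟩,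
   ⟨6, 4, [⟨1, 1, 1⟩, ⟨-1, 440, 1⟩, ⟨1, 288, 1⟩, ⟨1, 120, 1⟩, ⟨1, 99, 1⟩, ⟨-1, 48, 1⟩, ⟨-1, 20, 1⟩], cs_7_6_4⟩,
   ⟨6, 4, [⟨1, 1, 1⟩, ⟨-1, 440, 1⟩, ⟨1, 288, 1⟩, ⟨1, 120, 1⟩, ⟨1, 99, 1⟩, ⟨-1, 90, 1⟩, ⟨1, 22, 1⟩], cs_7_6_4⟩,
   ⟨6, 4, [⟨1, 1, 1⟩, ⟨-1, 440, 1⟩, ⟨1, 288, 1⟩, ⟨1, 176, 1⟩, ⟨-1, 20, 1⟩, ⟨-1, 20, 1⟩, ⟨1, 15, 1⟩], cs_7_6_4⟩,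
   ⟨6, 4, [⟨1, 1, 1⟩, ⟨-1, 440, 1⟩, ⟨1, 288, 1⟩, ⟨1, 176, 1⟩, ⟨-1, 55, 1⟩, ⟨1, 15, 1⟩, ⟨1, 15, 1⟩], cs_7_6_4⟩,
   ⟨6, 4, [⟨1, 1, 1⟩, ⟨-1, 440, 1⟩, ⟨1, 288, 1⟩, ⟨1, 176, 1⟩, ⟨1, 120, 1⟩, ⟨-1, 90, 1⟩, ⟨-1, 55, 1⟩], cs_7_6_4⟩,
   ⟨6, 4, [⟨1, 1, 1⟩, ⟨-1, 440, 1⟩, ⟨1, 288, 1⟩, ⟨1, 176, 1⟩, ⟨-1, 160, 1⟩, ⟨1, 99, 1⟩, ⟨1, 36, 1⟩], cs_7_6_4⟩,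
   ⟨6, 4, [⟨1, 1, 1⟩, ⟨-1, 440, 1⟩, ⟨1, 288, 1⟩, ⟨1, 176, 1⟩, ⟨-1, 160, 1⟩, ⟨1, 120, 1⟩, ⟨1, 15, 1⟩], cs_7_6_4⟩,
   ⟨6, 4, [⟨1, 1, 1⟩, ⟨-1, 440, 1⟩, ⟨1, 288, 1⟩, ⟨1, 288, 1⟩, ⟨-1, 132, 1⟩, ⟨-1, 20, 1⟩, ⟨1, 15, 1⟩], cs_7_6_4⟩,
   ⟨6, 4, [⟨1, 1, 1⟩, ⟨-1, 440, 1⟩, ⟨1, 330, 1⟩, ⟨1, 36, 1⟩, ⟨1, 36, 1⟩, ⟨1, 22, 1⟩, ⟨1, 15, 1⟩], cs_7_6_4⟩,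
   ⟨6, 4, [⟨1, 1, 1⟩, ⟨-1, 440, 1⟩, ⟨1, 330, 1⟩, ⟨1, 99, 1⟩, ⟨-1, 20, 1⟩, ⟨1, 15, 1⟩, ⟨1, 15, 1⟩], cs_7_6_4⟩,
   ⟨6, 4, [⟨1, 1, 1⟩, ⟨-1, 440, 1⟩, ⟨1, 330, 1⟩, ⟨1, 99, 1⟩, ⟨-1, 48, 1⟩, ⟨1, 36, 1⟩, ⟨1, 22, 1⟩], cs_7_6_4⟩,
   ⟨6, 4, [⟨1, 1, 1⟩, ⟨-1, 440, 1⟩, ⟨1, 330, 1⟩, ⟨1, 120, 1⟩, ⟨-1, 48, 1⟩, ⟨1, 22, 1⟩, ⟨1, 15, 1⟩], cs_7_6_4⟩,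
   ⟨6, 4, [⟨1, 1, 1⟩, ⟨-1, 440, 1⟩, ⟨1, 330, 1⟩, ⟨1, 120, 1⟩, ⟨-1, 55, 1⟩, ⟨1, 22, 1⟩, ⟨1, 22, 1⟩], cs_7_6_4⟩,
   ⟨6, 4, [⟨1, 1, 1⟩, ⟨-1, 440, 1⟩, ⟨1, 330, 1⟩, ⟨1, 120, 1⟩, ⟨1, 99, 1⟩, ⟨-1, 55, 1⟩, ⟨-1, 55, 1⟩], cs_7_6_4⟩,
   ⟨6, 4, [⟨1, 1, 1⟩, ⟨-1, 440, 1⟩, ⟨1, 330, 1⟩, ⟨1, 120, 1⟩, ⟨1, 99, 1⟩, ⟨-1, 90, 1⟩, ⟨-1, 20, 1⟩], cs_7_6_4⟩,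
   ⟨6, 4, [⟨1, 1, 1⟩, ⟨-1, 440, 1⟩, ⟨1, 330, 1⟩, ⟨-1, 132, 1⟩, ⟨1, 120, 1⟩, ⟨1, 99, 1⟩, ⟨1, 22, 1⟩], cs_7_6_4⟩,
   ⟨6, 4, [⟨1, 1, 1⟩, ⟨-1, 440, 1⟩, ⟨1, 330, 1⟩, ⟨1, 176, 1⟩, ⟨-1, 55, 1⟩, ⟨-1, 48, 1⟩, ⟨1, 36, 1⟩], cs_7_6_4⟩,
   ⟨6, 4, [⟨1, 1, 1⟩, ⟨-1, 440, 1⟩, ⟨1, 330, 1⟩, ⟨1, 176, 1⟩, ⟨-1, 132, 1⟩, ⟨1, 120, 1⟩, ⟨-1, 55, 1⟩], cs_7_6_4⟩,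
   ⟨6, 4, [⟨1, 1, 1⟩, ⟨-1, 440, 1⟩, ⟨1, 330, 1⟩, ⟨1, 288, 1⟩, ⟨-1, 160, 1⟩, ⟨-1, 55, 1⟩, ⟨1, 36, 1⟩], cs_7_6_4⟩]

/-- The surviving configuration. -/
def goalCfg : List Slot :=
  [⟨1, 1, 1⟩, ⟨-1, 280, 2⟩, ⟨-1, 21, 1⟩, ⟨1, 45, 1⟩, ⟨1, 45, 1⟩, ⟨1, 210, 1⟩]

/-- The surviving option at the prime 5. -/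
def goal5 : Opt :=
  ⟨4, 1, [⟨1, 1, 1⟩, ⟨1, 231, 1⟩, ⟨-1, 154, 1⟩, ⟨-1, 99, 1⟩, ⟨1, 21, 1⟩], cs_5_4_1⟩

/-- The surviving option at the prime 7. -/
def goal7 : Opt :=
  ⟨3, 1, [⟨1, 1, 1⟩, ⟨1, 99, 1⟩, ⟨-1, 55, 1⟩, ⟨-1, 45, 2⟩], cs_7_3_1⟩

end Cfsg.Lib.MTwentyTwo
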