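import Mathlib.Data.Int.GCD
import Mathlib.Data.List.Basic

/-!
# The block search for a simple group of order 443520: computable part

A member of a signed family from a principal block is recorded by a slot: its sign, its degree and
the number of characters it stands for (the exceptional characters share one slot). The functions
below list the possible families at the primes 11, 7 and 5 and test whether a choice of values at an
involution is compatible with the relations, congruences, class multiplication and orthogonality.
-/

set_option autoImplicit false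

namespace Cfsg.Lib.MTwentyTwo

/-- A member of a signed family. -/
structure Slot where
  /-- the sign -/
  s : ℤ
  /-- the degree -/
  d : ℕ
  /-- the number of characters sharing the slot -/
  m : ℕ
deriving DecidableEq

/-- The group order. -/
def ord : ℕ := 443520

/-- The divisors of the order, in descending order. -/
def divList : List ℕ :=
  [443520, 221760, 147840, 110880, 88704, 73920, 63360, 55440, 49280, 44352, 40320, 36960,
    31680, 29568, 27720, 24640, 22176, 21120, 20160, 18480, 15840, 14784, 13860, 13440,
    12672, 12320, 11088, 10560, 10080, 9856, 9240, 8064, 7920, 7392, 7040, 6930,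
    6720, 6336, 6160, 5760, 5544, 5280, 5040, 4928, 4620, 4480, 4224, 4032,
    3960, 3696, 3520, 3465, 3360, 3168, 3080, 2880, 2772, 2688, 2640, 2520,
    2464, 2310, 2240, 2112, 2016, 1980, 1920, 1848, 1760, 1680, 1584, 1540,
    1440, 1408, 1386, 1344, 1320, 1260, 1232, 1155, 1152, 1120, 1056, 1008,
    990, 960, 924, 896, 880, 840, 792, 770, 720, 704, 693, 672,
    660, 640, 630, 616, 576, 560, 528, 504, 495, 480, 462, 448,
    440, 420, 396, 385, 384, 360, 352, 336, 330, 320, 315, 308,
    288, 280, 264, 252, 240, 231, 224, 220, 210, 198, 192, 180,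
    176, 168, 165, 160, 154, 144, 140, 132, 128, 126, 120, 112,
    110, 105, 99, 96, 90, 88, 84, 80, 77, 72, 70, 66,
    64, 63, 60, 56, 55, 48, 45, 44, 42, 40, 36, 35,
    33, 32, 30, 28, 24, 22, 21, 20, 18, 16, 15, 14,
    12, 11, 10, 9, 8, 7, 6, 5, 4, 3, 2, 1]

/-- Application to a natural number in normal form. -/
def withNat {α : Type} : ℕ → (ℕ → α) → α
  | 0, k => k 0
  | n + 1, k => k (n + 1)

/-- Application to an integer in normal form. -/
def withInt {α : Type} : ℤ → (ℤ → α) → α
  | .ofNat n, k => withNat n fun n => k (.ofNat n)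
  | .negSucc n, k => withNat n fun n => k (.negSucc n)

/-- A list of integers in normal form. -/
def normList : List ℤ → List ℤ
  | [] => []
  | v :: l => withInt v fun v => v :: normList l

/-- Degree congruence sign. -/
def signs : List ℤ := [1, -1]

/-- The multisets of size `r` from a list with prescribed weighted sum and bounded square sum. -/
def msums : List (ℤ × ℕ) → ℕ → ℤ → ℕ → List (List Slot)
  | [], r, need, _ => if r = 0 ∧ need = 0 then [[]] else []
  | (s, d) :: X, r, need, q =>
    if r = 0 then (if need = 0 then [[]] else [])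
    else if need.natAbs ≤ r * d then
      (List.range (r + 1)).flatMap fun j =>
        if j * d * d ≤ q then
          (msums X (r - j) (need + j * s * d) (q - j * d * d)).map (List.replicate j ⟨s, d, 1⟩ ++ ·)
        else []
    else []

/-- The degrees available at a prime with centraliser cofactor `c`, in descending order. -/
def degs (p c : ℕ) : List ℕ :=
  divList.filter fun d => decide ((ord / p / c) % d = 0 ∧ (if c = 1 then 2 else 2 * p) ≤ d ∧
    d * d < ord)

/-- The signed degrees of non-exceptional members. -/
def xCands (p c : ℕ) : List (ℤ × ℕ) :=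
  (degs p c).flatMap fun (d : ℕ) => (signs.filter fun s => (s * d - 1) % (p : ℤ) = 0).map fun s => (s, d)

/-- The signed degrees of exceptional members. -/
def tCands (p e c : ℕ) : List (ℤ × ℕ) :=
  (degs p c).flatMap fun (d : ℕ) =>
    (signs.filter fun s => (s * d + e) % (p : ℤ) = 0 ∧ (p - 1) / e * d * d < ord).map fun s => (s, d)

/-- The slot of the trivial character. -/
def oneSlot : Slot := ⟨1, 1, 1⟩

/-- The possible families. -/
def std (p e c : ℕ) : List (List Slot) :=
  if (p - 1) / e = 1 then (msums (xCands p c) e 1 (ord - 1)).map (oneSlot :: ·)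
  else (tCands p e c).flatMap fun x =>
    (msums (xCands p c) (e - 1) (1 + x.1 * x.2) (ord - 1 - (p - 1) / e * x.2 * x.2)).map
      fun l => oneSlot :: (l ++ [⟨x.1, x.2, (p - 1) / e⟩])

/-- The possible automizer orders and centraliser cofactors. -/
def options (p : ℕ) : List (ℕ × ℕ) :=
  ((List.range p).filter fun e => decide (2 ≤ e ∧ (p - 1) % e = 0)).flatMap fun e =>
    (divList.filter fun c => decide ((ord / p) % (e * c) = 0 ∧ (ord / p / (e * c)) % p = 1 ∧
      ord / p / (e * c) ≠ 1 ∧ (p = 11 ∨ c % 11 ≠ 0))).map fun c => (e, c)

/-- The 2-part. -/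
def twoPart : List ℕ := [128, 64, 32, 16, 8, 4, 2, 1]

/-- The largest listed power of two dividing a number. -/
def pow2 (c : ℕ) : ℕ := (twoPart.find? fun t => decide (c % t = 0)).getD 1

/-- The orders of the possible normalisers. -/
def normOrders (p e c : ℕ) : List ℕ :=
  divList.filter fun N => decide (N % (p * pow2 c) = 0 ∧ (p * c * e) % N = 0)

/-- The possible centraliser orders of the involution used with an option. -/
def cents (p e c : ℕ) : List ℕ :=
  divList.filter fun C => decide (C % 11 ≠ 0 ∧ C ≤ 40320) &&
    (if c = 1 then decide (C % 128 = 0 ∧ C % 5 ≠ 0 ∧ C % 7 ≠ 0)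
     else decide (C % (p * pow2 c) = 0 ∧ C % 4 = 0) &&
      (normOrders p e c).any fun N => decide (C % N = 0 ∧ (C / N) % p = 1))

/-- An option with its family and centraliser orders. -/
structure Opt where
  /-- the automizer order -/
  e : ℕ
  /-- the centraliser cofactor -/
  c : ℕ
  /-- the family -/
  Z : List Slot
  /-- the centraliser orders -/
  cs : List ℕ
deriving DecidableEq

/-- All options at a prime. -/
def opts (p : ℕ) : List Opt :=
  (options p).flatMap fun ec => (std p ec.1 ec.2).map fun Z => ⟨ec.1, ec.2, Z, cents p ec.1 ec.2⟩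

/-- The degree multiplicity in a family. -/
def cnt : List Slot → ℕ → ℕ
  | [], _ => 0
  | x :: l, d => (if x.d = d then x.m else 0) + cnt l d

/-- The degree of the denominators of the values. -/
def qof (d C : ℕ) : ℕ := d / Nat.gcd d (ord / C)

/-- The possible values at an involution of a character of degree `d` standing for `m`. -/
def dom (d m C : ℕ) : List ℤ :=
  if d = 1 then [1] else
    withNat (qof d C) fun q =>
      withNat (min (d - 1) 201 / q) fun k =>
        normList (((List.range (2 * k + 1)).map fun (i : ℕ) => ((i : ℤ) - k) * q).filter fun v =>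
          decide ((v - d) % 4 = 0 ∧ (m : ℤ) * v * v ≤ C))

/-- The least common multiple of the degrees. -/
def degLcm : List Slot → ℕ
  | [] => 1
  | x :: l => Nat.lcm x.d (degLcm l)

/-- A prepared slot: weight, largest remaining weights of either sign, values. -/
structure Prep where
  /-- the member -/
  x : Slot
  /-- the weight -/
  w : ℕ
  /-- the largest weight of a positive member from here on -/
  wp : ℕ
  /-- the largest weight of a negative member from here on -/
  wn : ℕ
  /-- the values -/
  dm : List ℤ

/-- The largest weights of the first entry. -/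
def topWeight : List Prep → ℕ × ℕ
  | [] => (0, 0)
  | z :: _ => (z.wp, z.wn)

/-- Preparation of the column search. -/
def prep (L C : ℕ) : List Slot → List Prep
  | [] => []
  | x :: l =>
    withNat (L / x.d) fun w =>
      let r := prep L C l
      withNat (if x.s = 1 then max w (topWeight r).1 else (topWeight r).1) fun wp =>
        withNat (if x.s = -1 then max w (topWeight r).2 else (topWeight r).2) fun wn =>
          ⟨x, w, wp, wn, dom x.d x.m C⟩ :: r

/-- The columns of the 11-family at an involution. -/
def colsRec (C : ℕ) : List Prep → ℤ → ℤ → ℤ → List (List ℤ)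
  | [], lin, _, qd => if lin = 0 ∧ qd = 0 then [[]] else []
  | [z], lin, ss, qd => withInt (-lin * z.x.s) fun v =>
    if qd + z.x.s * v * v * z.w = 0 ∧ ss + z.x.m * v * v ≤ C ∧ v ∈ z.dm then [[v]] else []
  | z :: l, lin, ss, qd =>
    if 0 ≤ qd + ((C : ℤ) - ss) * z.wp ∧ qd - ((C : ℤ) - ss) * z.wn ≤ 0 then
      z.dm.flatMap fun v =>
        withInt (ss + z.x.m * v * v) fun ss' =>
          if ss' ≤ C then
            withInt (lin + z.x.s * v) fun lin' =>
              withInt (qd + z.x.s * v * v * z.w) fun qd' =>
                (colsRec C l lin' ss' qd').map (v :: ·)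
          else []
    else []

/-- The columns of a configuration. -/
def cols (cfg : List Slot) (C : ℕ) : List (List ℤ) :=
  withNat (degLcm cfg) fun L => colsRec C (prep L C cfg) 0 0 0

/-- A slot of a value search: member, candidates, whether its square counts. -/
structure Cell where
  /-- the member -/
  x : Slot
  /-- the candidate values -/
  cand : List ℤ
  /-- whether the square is new -/
  add : Bool

/-- Search for values with vanishing signed sum and small square sum. -/
def search (C : ℕ) (done : List ℤ → ℤ → Bool) : List Cell → ℤ → ℤ → List ℤ → Bool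
  | [], lin, ss, vals => decide (lin = 0) && done vals.reverse ss
  | z :: l, lin, ss, vals => z.cand.any fun v =>
      withInt (lin + z.x.s * v) fun lin' =>
        withInt (ss + if z.add then (z.x.m : ℤ) * v * v else 0) fun ss' =>
          (if l.isEmpty then decide (lin' = 0) else true) && decide (ss' ≤ C) &&
            search C done l lin' ss' (v :: vals)

/-- The numerator and denominator of the weighted square sum. -/
def frac : List Slot → List ℤ → ℤ × ℕ
  | x :: l, v :: vs => let r := frac l vs; (r.1 * x.d + x.s * v * v * r.2, r.2 * x.d)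
  | _, _ => (0, 1)

/-- The values of the given degree. -/
def valsOf : List Slot → List ℤ → ℕ → List ℤ
  | x :: l, v :: vs, d => if x.d = d then v :: valsOf l vs d else valsOf l vs d
  | _, _, _ => []

/-- The new squared degrees of a family. -/
def extSq (q : ℕ) : List Slot → ℕ
  | [] => 0
  | x :: l => (if x.d % 11 = 0 ∧ x.d % q = 0 then x.m * x.d * x.d else 0) + extSq q l

/-- The squared degrees of a family. -/
def sqSum : List Slot → ℕ
  | [] => 0
  | x :: l => x.m * x.d * x.d + sqSum l

/-- The squares of a column. -/
def valSq : List Slot → List ℤ → ℤ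
  | x :: l, v :: vs => (x.m : ℤ) * v * v + valSq l vs
  | _, _ => 0

/-- The weighted sum with the new degrees. -/
def wSum (P : ℕ → Bool) : List Slot → List ℤ → ℤ
  | x :: l, v :: vs => (if P x.d then (x.m : ℤ) * x.d * v else 0) + wSum P l vs
  | _, _ => 0

/-- Whether an option fits the degrees of the 11-family. -/
def embed (p : ℕ) (cfg : List Slot) (o : Opt) : Bool :=
  o.Z.all (fun x => decide (x.d % 11 = 0 ∨ cnt o.Z x.d ≤ cnt cfg x.d)) &&
  decide (sqSum cfg + extSq 1 o.Z ≤ ord) &&
  (if o.c = 1 then cfg.all (fun x => decide (x.d % p = 0 ∨ cnt cfg x.d ≤ cnt o.Z x.d)) &&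
      decide ((ord - (sqSum cfg + extSq 1 o.Z)) % (121 * p * p) = 0)
   else true)

/-- The candidate values of a slot of the second family. -/
def pCand (p q : ℕ) (cfg : List Slot) (Q : List Slot) (c : ℕ) (C : ℕ) (v qv : List ℤ) (x : Slot) :
    List ℤ :=
  if x.d = 1 then [1] else
    let b := if x.d % 11 ≠ 0 then valsOf cfg v x.d
      else if x.d % q ≠ 0 then valsOf Q qv x.d else dom x.d 1 C
    if c = 1 then b else b.filter fun u => decide ((u - x.d) % ((2 * p : ℕ) : ℤ) = 0)

/-- The test on the values of the second family. -/
def pTest (p q : ℕ) (cfg Q : List Slot) (o : Opt) (r C : ℕ) (v qv : List ℤ) (pv : List ℤ)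
    (ss : ℤ) : Bool :=
  let f := frac o.Z pv
  if o.c = 1 then
    (if o.e % 2 = 1 then decide (f.1 = 0)
      else decide (f.1 = 0 ∨ f.1 * ord = ((p * C * C * f.2 : ℕ) : ℤ))) &&
    (let tot := wSum (fun _ => true) cfg v + wSum (fun d => decide (d % 11 = 0)) Q qv +
        wSum (fun d => decide (d % 11 = 0 ∧ d % q = 0)) o.Z pv
     if r = 0 then decide (tot = 0 ∧ ss = C)
     else if r = 148225 then decide (tot % 385 = 0 ∧ ss + (tot / 385) * (tot / 385) = C)
     else true)
  else if o.e + 1 = p then
    (List.range (o.c + 1)).any fun i => decide (f.1 * ord * o.c = ((p * i * i * C * C * f.2 : ℕ) : ℤ))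
  else true

/-- The test on the values of the first family. -/
def qTest (q C : ℕ) (Q : List Slot) (qv : List ℤ) : Bool :=
  let f := frac Q qv
  if q = 7 then decide (f.1 = 0)
  else if q = 5 then decide (f.1 = 0 ∨ f.1 * ord = ((5 * C * C * f.2 : ℕ) : ℤ)) else true

/-- Two families together: whether some involution fits. -/
def joint (cfg : List Slot) (q : ℕ) (Q : List Slot) (p : ℕ) (o : Opt) : Bool :=
  o.Z.all (fun x => decide (x.d % 11 ≠ 0 ∨ x.d % q = 0 ∨ cnt o.Z x.d ≤ cnt Q x.d)) &&
  decide (sqSum cfg + extSq 1 Q + extSq q o.Z ≤ ord) &&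
  if o.c = 1 ∧ q = 1 then true else
  (if o.c = 1 then Q.all (fun x => decide (x.d % 11 ≠ 0 ∨ x.d % p = 0 ∨ cnt Q x.d ≤ cnt o.Z x.d)) &&
      decide ((ord - (sqSum cfg + extSq 1 Q + extSq q o.Z)) % 148225 = 0)
   else true) &&
  o.cs.any fun C => (decide (q = 1) || decide (C % q ≠ 0)) &&
    (cols cfg C).any fun v =>
      search C (fun qv S => qTest q C Q qv &&
          search C (pTest p q cfg Q o (ord - (sqSum cfg + extSq 1 Q + extSq q o.Z)) C v qv)
            (o.Z.map fun x => ⟨x, pCand p q cfg Q o.c C v qv x,
              decide (x.d % 11 = 0 ∧ x.d % q = 0)⟩) 0 S [])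
        (Q.map fun x => ⟨x, if x.d = 1 then [1] else if x.d % 11 ≠ 0 then valsOf cfg v x.d
            else dom x.d 1 C, decide (x.d % 11 = 0)⟩) 0 (valSq cfg v) []

/-- The options at a prime surviving by themselves. -/
def alone (O : List Opt) (cfg : List Slot) (p : ℕ) : List Opt :=
  O.filter fun o => embed p cfg o && joint cfg 1 [] p o

/-- The pairs of options surviving together. -/
def pairs (O5 O7 : List Opt) (cfg : List Slot) : List (ℕ × Opt × Opt) :=
  let L5 := alone O5 cfg 5
  let L7 := alone O7 cfg 7
  if L5.isEmpty || L7.isEmpty then [] else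
    if L5.all (fun o => decide (o.c = 1)) then
      L5.flatMap fun Q => (L7.filter fun o => joint cfg 5 Q.Z 7 o).map fun o => (5, Q, o)
    else if L7.all (fun o => decide (o.c = 1)) then
      L7.flatMap fun Q => (L5.filter fun o => joint cfg 7 Q.Z 5 o).map fun o => (7, Q, o)
    else [(0, ⟨0, 0, [], []⟩, ⟨0, 0, [], []⟩)]

/-- Reordering of an 11-family. -/
def canon : List Slot → List Slot
  | x :: l => x :: l.reverse
  | [] => []

/-- The configurations. -/
def configs : List (List Slot) := (std 11 5 1).map canon

end Cfsg.Lib.MTwentyTwo
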