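import Cfsg.Agent.Lib.MTwentyTwo.Front

/-!
# The character degrees of a simple group of order 443520

They are 1, 21, 45, 45, 55, 99, 154, 210, 231, 280, 280 and 385, with a linear relation at each of
the primes 11, 7 and 5.
-/

set_option autoImplicit false
set_option linter.style.haveILetI false
set_option linter.unusedSectionVars false

namespace Cfsg.Lib.MTwentyTwo

open Cfsg Cfsg.Lib

universe u

/-- The irreducible characters with their relations at the primes of multiplicity one. -/
structure Tbl (G : Type u) [Group G] [Fintype G] where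
  /-- degree 21 -/
  a : IrrCharacter G
  /-- degree 45 -/
  b : IrrCharacter G
  /-- degree 45 -/
  c : IrrCharacter G
  /-- degree 55 -/
  d : IrrCharacter G
  /-- degree 99 -/
  e : IrrCharacter G
  /-- degree 154 -/
  f : IrrCharacter G
  /-- degree 210 -/
  g : IrrCharacter G
  /-- degree 231 -/
  h : IrrCharacter G
  /-- degree 280 -/
  i : IrrCharacter G
  /-- degree 280 -/
  j : IrrCharacter G
  /-- degree 385 -/
  k : IrrCharacter G
  ha : deg a = 21
  hb : deg b = 45
  hc : deg c = 45
  hd : deg d = 55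
  he : deg e = 99
  hf : deg f = 154
  hg : deg g = 210
  hh : deg h = 231
  hi : deg i = 280
  hj : deg j = 280
  hk : deg k = 385
  sum_eq : ∀ {M : Type} [AddCommMonoid M] (F : IrrCharacter G → M), ∑ χ, F χ =
    F (Small.one' G) + F a + F b + F c + F d + F e + F f + F g + F h + F i + F j + F k
  eq_bc : ∀ x : G, ¬ 7 ∣ orderOf x → (b : G → ℂ) x = (c : G → ℂ) x
  eq_ij : ∀ x : G, ¬ 11 ∣ orderOf x → (i : G → ℂ) x = (j : G → ℂ) x
  rel_eleven : ∀ x : G, ¬ 11 ∣ orderOf x → 1 - (i : G → ℂ) x - (a : G → ℂ) x + (b : G → ℂ) x +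
    (c : G → ℂ) x + (g : G → ℂ) x = 0
  rel_five : ∀ x : G, ¬ 5 ∣ orderOf x → 1 + (h : G → ℂ) x - (f : G → ℂ) x - (e : G → ℂ) x +
    (a : G → ℂ) x = 0
  rel_seven : ∀ x : G, ¬ 7 ∣ orderOf x → 1 + (e : G → ℂ) x - (d : G → ℂ) x - (b : G → ℂ) x = 0
  /-- the members of the 11-family in the order of the search -/
  cols_mem : ∀ z : G, orderOf z = 2 → [intVal z (Small.one' G), intVal z i, intVal z a,
    intVal z b, intVal z c, intVal z g] ∈
      cols goalCfg (Nat.card (Subgroup.centralizer ({z} : Set G)))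
  no_five : ∀ {p : ℕ} [Fact p.Prime] (D : Dat G p), (p = 5 ∨ p = 7 ∨ p = 11) → D.c = 1

variable {G : Type u} [Group G] [Fintype G]

theorem Dat.c_eq_c {p : ℕ} [Fact p.Prime] (D D' : Dat G p) : D.c = D'.c := by
  obtain ⟨g, hg⟩ := MulAction.exists_smul_eq G D.P D'.P
  have e : Subgroup.centralizer ((D'.P : Subgroup G) : Set G) =
      (Subgroup.centralizer ((D.P : Subgroup G) : Set G)).map (MulAut.conj g).toMonoidHom := by
    rw [← hg, Sylow.coe_subgroup_smul]
    ext x
    rw [Subgroup.mem_map_equiv, Subgroup.mem_centralizer_iff, Subgroup.mem_centralizer_iff,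
      MulAut.conj_symm_apply]
    constructor
    · intro h v hv
      have h' := h (g * v * g⁻¹) ⟨v, hv, rfl⟩
      calc v * (g⁻¹ * x * g) = g⁻¹ * (g * v * g⁻¹ * x) * g := by group
        _ = g⁻¹ * (x * (g * v * g⁻¹)) * g := by rw [h']
        _ = g⁻¹ * x * g * v := by group
    · rintro h _ ⟨v, hv, rfl⟩
      have h' := h v hv
      show g * v * g⁻¹ * x = x * (g * v * g⁻¹)
      calc g * v * g⁻¹ * x = g * (v * (g⁻¹ * x * g)) * g⁻¹ := by group
        _ = g * (g⁻¹ * x * g * v) * g⁻¹ := by rw [h']
        _ = x * (g * v * g⁻¹) := by group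
  have h := D'.hc
  rw [e, Subgroup.card_map_of_injective (MulAut.conj g).injective, D.hc] at h
  exact Nat.eq_of_mul_eq_mul_left (Fact.out : p.Prime).pos h

set_option maxHeartbeats 1600000 in
theorem exists_tbl [Fact (Nat.Prime 11)] [Fact (Nat.Prime 7)] [Fact (Nat.Prime 5)] (hG : IsM22 G) :
    Nonempty (Tbl G) := by
  classical
  obtain ⟨DA⟩ := exists_dat hG 11 (Or.inr (Or.inr rfl))
  obtain ⟨D5⟩ := exists_dat hG 5 (Or.inl rfl)
  obtain ⟨D7⟩ := exists_dat hG 7 (Or.inr (Or.inl rfl))
  obtain ⟨h5c, h5e, h7c, h7e, lA, l5, l7, hA, h5, h7⟩ := front hG DA D5 D7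
  obtain ⟨hAe, hAc⟩ := eleven_data hG DA
  -- the 11-family
  obtain ⟨o, i, a, b, c, g, hLA⟩ : ∃ o i a b c g, lA.L = [o, i, a, b, c, g] := by
    have := congrArg List.length hA
    simp only [Lst.slots, List.length_map, goalCfg, List.length_cons, List.length_nil] at this
    match hL : lA.L, this with
    | [o, i, a, b, c, g], _ => exact ⟨o, i, a, b, c, g, rfl⟩
  have hsA := hA
  simp only [Lst.slots, hLA, goalCfg, List.map_cons, List.map_nil, List.cons.injEq, Dat.slot,
    Slot.mk.injEq, and_true] at hsA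
  obtain ⟨⟨so, dco, -⟩, ⟨si, di, mi⟩, ⟨sa, da, ma⟩, ⟨sb, db, mb⟩, ⟨sc, dc, mc⟩, sg, dg, mg⟩ := hsA
  have ho : o = Small.one' G := deg_eq_one hG dco
  have hθA : i = DA.S.θ := by
    by_contra hne
    rw [Dat.mult, if_neg hne] at mi
    exact absurd mi (by norm_num)
  have hbc : b ≠ c := by
    intro e
    have := lA.nodup
    rw [hLA, e] at this
    simp at this
  have hXA : ∀ χ ∈ [o, a, b, c, g], χ ∈ DA.S.X := by
    intro χ hχ
    have hL : χ ∈ lA.L := by
      rw [hLA]; simp only [List.mem_cons, List.not_mem_nil, or_false] at hχ ⊢; tauto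
    refine (DA.S.mem_Z.1 ((lA.mem χ).1 hL)).resolve_left fun e => ?_
    have := lA.nodup
    rw [hLA] at this
    rw [← hθA] at e
    subst e
    simp only [List.nodup_cons, List.mem_cons, List.not_mem_nil, or_false, not_or] at this hχ
    rcases hχ with e | e | e | e | e <;> simp_all
  obtain ⟨j, hYA, hij⟩ : ∃ j, DA.S.Y = {i, j} ∧ i ≠ j := by
    obtain ⟨u, v, huv, hY⟩ := Finset.card_eq_two.1 (show DA.S.Y.card = 2 by
      rw [DA.S.card_Y, hAe])
    have h := DA.S.θ_mem
    rw [← hθA, hY, Finset.mem_insert, Finset.mem_singleton] at h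
    rcases h with rfl | rfl
    · exact ⟨v, hY, huv⟩
    · exact ⟨u, by rw [hY, Finset.pair_comm], Ne.symm huv⟩
  have hjY : j ∈ DA.S.Y := by simp [hYA]
  have dj : deg j = 280 := by rw [DA.deg_Y hjY, ← hθA]; exact di
  have hBA : Lst.B DA = {o, a, b, c, g, i, j} := by
    ext χ
    rw [Lst.mem_B]
    constructor
    · rintro (hX | hY)
      · have hL := (lA.mem χ).2 (DA.S.mem_Z.2 (Or.inr hX))
        rw [hLA] at hL
        simp only [List.mem_cons, List.not_mem_nil, or_false] at hL
        simp only [Finset.mem_insert, Finset.mem_singleton]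
        tauto
      · rw [hYA] at hY
        simp only [Finset.mem_insert, Finset.mem_singleton] at hY ⊢
        tauto
    · intro h
      simp only [Finset.mem_insert, Finset.mem_singleton] at h
      rcases h with rfl | rfl | rfl | rfl | rfl | rfl | rfl
      · exact Or.inl (hXA χ (by simp))
      · exact Or.inl (hXA χ (by simp))
      · exact Or.inl (hXA χ (by simp))
      · exact Or.inl (hXA χ (by simp))
      · exact Or.inl (hXA χ (by simp))
      · exact Or.inr (by simp [hYA])
      · exact Or.inr hjY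
  -- the 5-family
  obtain ⟨o5, h, f, e, a5, hL5⟩ : ∃ o5 h f e a5, l5.L = [o5, h, f, e, a5] := by
    have := congrArg List.length h5
    simp only [Lst.slots, List.length_map, goal5, List.length_cons, List.length_nil] at this
    match hL : l5.L, this with
    | [o5, h, f, e, a5], _ => exact ⟨o5, h, f, e, a5, rfl⟩
  have hs5 := h5
  simp only [Lst.slots, hL5, goal5, List.map_cons, List.map_nil, List.cons.injEq, Dat.slot,
    Slot.mk.injEq, and_true] at hs5
  obtain ⟨⟨so5, do5, -⟩, ⟨sh, dh, -⟩, ⟨sf, df, -⟩, ⟨se, de, -⟩, sa5, da5, -⟩ := hs5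
  have ho5 : o5 = Small.one' G := deg_eq_one hG do5
  have ha5 : a5 = a := by
    have hm := mem_A hG (DA := DA) (χ := a5) (by rw [da5]; norm_num)
    rw [hBA] at hm
    simp only [Finset.mem_insert, Finset.mem_singleton] at hm
    rcases hm with rfl | rfl | rfl | rfl | rfl | rfl | rfl <;> first | rfl | omega
  -- the 7-family
  obtain ⟨o7, e7, d, b7, hL7⟩ : ∃ o7 e7 d b7, l7.L = [o7, e7, d, b7] := by
    have := congrArg List.length h7
    simp only [Lst.slots, List.length_map, goal7, List.length_cons, List.length_nil] at this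
    match hL : l7.L, this with
    | [o7, e7, d, b7], _ => exact ⟨o7, e7, d, b7, rfl⟩
  have hs7 := h7
  simp only [Lst.slots, hL7, goal7, List.map_cons, List.map_nil, List.cons.injEq, Dat.slot,
    Slot.mk.injEq, and_true] at hs7
  obtain ⟨⟨so7, do7, -⟩, ⟨se7, de7, -⟩, ⟨sd, dd, -⟩, sb7, db7, mb7⟩ := hs7
  have ho7 : o7 = Small.one' G := deg_eq_one hG do7
  have hB5 : ∀ χ : IrrCharacter G, χ ∈ Lst.B D5 → deg χ = 99 → χ = e := by
    intro χ hχ hd
    obtain ⟨χ', hL, hd', -⟩ := l5.exists_rep hχ
    have hY : D5.S.Y.card = 1 := by rw [D5.S.card_Y, h5e]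
    have hmem : χ ∈ D5.S.Z := by
      rcases Lst.mem_B.1 hχ with h | h
      · exact D5.S.mem_Z.2 (Or.inr h)
      · exact D5.S.mem_Z.2 (Or.inl (Finset.card_le_one.1 hY.le χ h _ D5.S.θ_mem))
    have := (l5.mem χ).2 hmem
    rw [hL5] at this
    simp only [List.mem_cons, List.not_mem_nil, or_false] at this
    rcases this with rfl | rfl | rfl | rfl | rfl <;> first | rfl | omega
  have he7 : e7 = e := hB5 e7 (D5.mem_B_of_not_dvd h5c (by rw [de7]; norm_num)) de7
  have hθ7 : b7 = D7.S.θ := by
    by_contra hne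
    rw [Dat.mult, if_neg hne] at mb7
    exact absurd mb7 (by norm_num)
  have hY7 : D7.S.Y = {b, c} := by
    refine Finset.eq_of_subset_of_card_le (fun χ hχ => ?_) ?_
    · have hd : deg χ = 45 := by rw [D7.deg_Y hχ, ← hθ7]; exact db7
      have hm := mem_A hG (DA := DA) (χ := χ) (by rw [hd]; norm_num)
      rw [hBA] at hm
      simp only [Finset.mem_insert, Finset.mem_singleton] at hm ⊢
      rcases hm with rfl | rfl | rfl | rfl | rfl | rfl | rfl <;>
        first | exact Or.inl rfl | exact Or.inr rfl | omega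
    · rw [Finset.card_pair hbc, D7.S.card_Y, h7e]
  -- the remaining character
  set U : Finset (IrrCharacter G) := {o, a, b, c, g, i, j, d, e, f, h} with hU
  have hcard : ∀ x y : IrrCharacter G, deg x ≠ deg y → x ≠ y := fun x y h e => h (e ▸ rfl)
  have hUsum : ∀ {M : Type} [AddCommMonoid M] (F : IrrCharacter G → M), ∑ χ ∈ U, F χ =
      F o + F a + F b + F c + F g + F i + F j + F d + F e + F f + F h := by
    intro M _ F
    rw [hU]
    repeat rw [Finset.sum_insert (by
      simp only [Finset.mem_insert, Finset.mem_singleton, not_or]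
      repeat' constructor
      all_goals first
        | exact hbc
        | exact hij
        | (refine hcard _ _ ?_; rw [‹deg _ = _›, ‹deg _ = _›]; norm_num)
        | (refine hcard _ _ ?_; omega))]
    rw [Finset.sum_singleton]
    simp only [add_assoc]
  have hk : ∀ χ ∈ Uᶜ, 385 ∣ deg χ := by
    intro χ hχ
    rw [hU] at hχ
    simp only [Finset.mem_compl, Finset.mem_insert, Finset.mem_singleton, not_or] at hχ
    have h11 : 11 ∣ deg χ := by
      by_contra hn
      have hm := mem_A hG (DA := DA) (χ := χ) fun e => hn (Nat.dvd_of_mod_eq_zero e)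
      rw [hBA] at hm
      simp only [Finset.mem_insert, Finset.mem_singleton] at hm
      tauto
    have h5d : 5 ∣ deg χ := by
      by_contra hn
      obtain hm := D5.mem_B_of_not_dvd h5c hn
      have hY : D5.S.Y.card = 1 := by rw [D5.S.card_Y, h5e]
      have hmem : χ ∈ D5.S.Z := by
        rcases Lst.mem_B.1 hm with h | h
        · exact D5.S.mem_Z.2 (Or.inr h)
        · exact D5.S.mem_Z.2 (Or.inl (Finset.card_le_one.1 hY.le χ h _ D5.S.θ_mem))
      have := (l5.mem χ).2 hmem
      rw [hL5, ho5, ← ho, ha5] at this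
      simp only [List.mem_cons, List.not_mem_nil, or_false] at this
      tauto
    have h7d : 7 ∣ deg χ := by
      by_contra hn
      rcases Lst.mem_B.1 (D7.mem_B_of_not_dvd h7c hn) with h | h
      · have := (l7.mem χ).2 (D7.S.mem_Z.2 (Or.inr h))
        rw [hL7, ho7, ← ho, he7, hθ7] at this
        simp only [List.mem_cons, List.not_mem_nil, or_false] at this
        have hne : χ ≠ D7.S.θ := fun e => D7.S.θ_notMem (e ▸ h)
        tauto
      · rw [hY7, Finset.mem_insert, Finset.mem_singleton] at h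
        tauto
    have := (show Nat.Coprime 5 7 by norm_num).mul_dvd_of_dvd_of_dvd h5d h7d
    exact (show Nat.Coprime 35 11 by norm_num).mul_dvd_of_dvd_of_dvd this h11
  have hrest : ∑ χ ∈ Uᶜ, deg χ ^ 2 = 148225 := by
    have h1 := Finset.sum_add_sum_compl U fun χ => deg χ ^ 2
    rw [sum_sq_deg hG, hUsum, dco, da, db, dc, dg, di, dj, dd, de, df, dh, ord] at h1
    omega
  obtain ⟨k, hk'⟩ : ∃ k, Uᶜ = {k} := by
    refine Finset.card_eq_one.1 (le_antisymm ?_ ?_)
    · have := Finset.card_nsmul_le_sum Uᶜ (fun χ => deg χ ^ 2) 148225 fun χ hχ => by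
        exact le_trans (by norm_num) (Nat.pow_le_pow_left
          (Nat.le_of_dvd (Block.charDegree_pos χ) (hk χ hχ)) 2)
      rw [hrest, smul_eq_mul] at this
      omega
    · refine Finset.card_pos.2 ?_
      by_contra hne
      rw [Finset.not_nonempty_iff_eq_empty] at hne
      rw [hne, Finset.sum_empty] at hrest
      exact absurd hrest (by norm_num)
  have dk : deg k = 385 := by
    rw [hk', Finset.sum_singleton] at hrest
    exact Nat.pow_left_injective two_ne_zero (show deg k ^ 2 = 385 ^ 2 by rw [hrest])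
  have hsumZ : ∀ {p : ℕ} [Fact p.Prime] {D : Dat G p} (l : Lst D) (x : G), ¬ p ∣ orderOf x →
      (l.L.map fun χ => (D.S.σ χ : ℂ) * (χ : G → ℂ) x).sum = 0 := by
    intro p _ D l x hx
    rw [l.sum_L]
    exact D.S.rel x hx
  refine ⟨{
    a := a, b := b, c := c, d := d, e := e, f := f, g := g, h := h, i := i, j := j, k := k
    ha := da, hb := db, hc := dc, hd := dd, he := de, hf := df, hg := dg, hh := dh, hi := di
    hj := dj, hk := dk, sum_eq := ?_, eq_bc := ?_, eq_ij := ?_, rel_eleven := ?_, rel_five := ?_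
    rel_seven := ?_, cols_mem := ?_, no_five := ?_ }⟩
  · intro M _ F
    rw [← Finset.sum_add_sum_compl U, hUsum, hk', Finset.sum_singleton, ho]
    abel
  · intro x hx
    have hb7 : b ∈ D7.S.Y := by simp [hY7]
    have hc7 : c ∈ D7.S.Y := by simp [hY7]
    rw [D7.S.agree b hb7 x hx, D7.S.agree c hc7 x hx]
  · intro x hx
    rw [DA.S.agree j hjY x hx, hθA]
  · intro x hx
    have h := hsumZ lA x hx
    simp only [hLA, List.map_cons, List.map_nil, List.sum_cons, List.sum_nil, so, si, sa, sb, sc, sg] at h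
    rw [ho, Small.one'_apply] at h
    push_cast at h
    linear_combination h
  · intro x hx
    have h := hsumZ l5 x hx
    simp only [hL5, List.map_cons, List.map_nil, List.sum_cons, List.sum_nil, so5, sh, sf, se, sa5] at h
    rw [ho5, ha5, Small.one'_apply] at h
    push_cast at h
    linear_combination h
  · intro x hx
    have h := hsumZ l7 x hx
    simp only [hL7, List.map_cons, List.map_nil, List.sum_cons, List.sum_nil, so7, se7, sd, sb7] at h
    rw [ho7, he7, hθ7, Small.one'_apply] at h
    have hb7 : b ∈ D7.S.Y := by simp [hY7]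
    rw [D7.S.agree b hb7 x hx]
    push_cast at h
    linear_combination h
  · intro z hz
    have := cols_mem hG lA hz
    rw [hA, Lst.vals, hLA, ho] at this
    exact this
  · intro p _ D hp
    rcases hp with rfl | rfl | rfl
    · rw [D.c_eq_c D5, h5c]
    · rw [D.c_eq_c D7, h7c]
    · rw [D.c_eq_c DA, hAc]

end Cfsg.Lib.MTwentyTwo
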