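import Cfsg.Agent.Lib.MTwentyTwo.Orbits

/-!
# The graph of degree 16 on the 77 points

It is undirected and has no triangles; two points at distance two have four common neighbours.
-/

set_option autoImplicit false
set_option linter.style.haveILetI false
set_option linter.unusedSectionVars false

namespace Cfsg.Lib.MTwentyTwo

open Cfsg Cfsg.Lib

universe u

variable {G : Type u} [Group G]

/-- The adjacency given by the short suborbit. -/
def Adj (x : G) (q p p' : G ⧸ normTwo x) : Prop := ∃ g : G, g • base x = p ∧ g • q = p'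

theorem Adj.smul {x : G} {q p p' : G ⧸ normTwo x} (h : Adj x q p p') (g : G) :
    Adj x q (g • p) (g • p') := by
  obtain ⟨k, rfl, rfl⟩ := h
  exact ⟨g * k, mul_smul _ _ _, mul_smul _ _ _⟩

theorem adj_smul_iff {x : G} {q p p' : G ⧸ normTwo x} (g : G) :
    Adj x q (g • p) (g • p') ↔ Adj x q p p' :=
  ⟨fun h => by simpa [inv_smul_smul] using h.smul g⁻¹, fun h => h.smul g⟩

variable [Finite G] {x v : G} {q : G ⧸ normTwo x}

namespace Root

variable (R : Root x q) (P : Pair x v) (L : Loc G)
include R P L

theorem near_self : Near x q q := ⟨1, one_mem _, one_smul _ _⟩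

theorem near_ne {p : G ⧸ normTwo x} (h : Near x q p) : p ≠ base x := by
  obtain ⟨e, he, rfl⟩ := h
  intro e'
  rw [← smul_base_eq_iff.2 (P.two_le_normTwo L he), smul_left_cancel_iff] at e'
  exact R.ne e'

theorem adj_base {p : G ⧸ normTwo x} : Adj x q (base x) p ↔ Near x q p := by
  constructor
  · rintro ⟨g, hg, rfl⟩
    exact R.near_inv g (smul_base_eq_iff.1 hg) q (R.near_self P L)
  · rintro ⟨e, he, rfl⟩
    exact ⟨e, smul_base_eq_iff.2 (P.two_le_normTwo L he), rfl⟩

theorem cases (p : G ⧸ normTwo x) : p = base x ∨ Near x q p ∨ Far x q p := by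
  by_cases h1 : p = base x
  · exact Or.inl h1
  by_cases h2 : Near x q p
  · exact Or.inr (Or.inl h2)
  exact Or.inr (Or.inr ⟨h1, h2⟩)

theorem far_inv {h : G} (hh : h ∈ normTwo x) {p : G ⧸ normTwo x} (hp : Far x q p) :
    Far x q (h • p) := by
  refine ⟨fun e => hp.1 ?_, fun e => hp.2 ?_⟩
  · rw [← smul_base_eq_iff.2 hh, smul_left_cancel_iff] at e
    exact e
  · have := R.near_inv h⁻¹ (inv_mem hh) _ e
    rwa [inv_smul_smul] at this

theorem card_near : Nat.card {p // Near x q p} = 16 := by
  rw [← L.card_two P.ox]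
  refine (Nat.card_congr (Equiv.ofBijective (fun e : twoCore x =>
    (⟨(e : G) • q, e, e.2, rfl⟩ : {p // Near x q p})) ⟨fun e e' h => ?_, ?_⟩)).symm
  · have h' : (e : G) • q = (e' : G) • q := congrArg Subtype.val h
    have := R.free _ (mul_mem (inv_mem e'.2) e.2) (by rw [mul_smul, h', inv_smul_smul])
    exact Subtype.ext (inv_mul_eq_one.1 this).symm
  · rintro ⟨p, e, he, rfl⟩
    exact ⟨⟨e, he⟩, rfl⟩

theorem card_orbit_mul (p : G ⧸ normTwo x) :
    Nat.card (MulAction.stabilizer (normTwo x) p) * Nat.card (MulAction.orbit (normTwo x) p) = 5760 := by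
  rw [← P.card_normTwo L, Nat.card_coe_set_eq, ← MulAction.index_stabilizer,
    Subgroup.card_mul_index]

/-- The suborbit is self-paired. -/
theorem exists_swap : ∃ g : G, g • base x = q ∧ g • q = base x := by
  obtain ⟨g, hg⟩ := QuotientGroup.mk_surjective q
  have hgq : g • base x = q := by rw [base, MulAction.Quotient.smul_mk, smul_eq_mul, mul_one, hg]
  set r := g⁻¹ • base x with hr
  rcases R.cases P L r with h | h | h
  · exfalso
    apply R.ne
    rw [← hgq, ← h, hr, smul_inv_smul]
    exact h.symm
  · obtain ⟨e, he, he'⟩ := h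
    exact ⟨g * e, by rw [mul_smul, smul_base_eq_iff.2 (P.two_le_normTwo L he), hgq],
      by rw [mul_smul, he', hr, smul_inv_smul]⟩
  · exfalso
    have h1 := R.card_orbit_mul P L q
    have h2 := R.card_orbit_mul P L r
    have e1 : Nat.card (MulAction.orbit (normTwo x) q) = 16 := by
      rw [← R.card_near P L]
      refine Nat.card_congr (Equiv.subtypeEquivRight fun p => ⟨?_, ?_⟩)
      · rintro ⟨k, rfl⟩
        exact R.near_inv k k.2 q (R.near_self P L)
      · rintro ⟨e, he, rfl⟩
        exact ⟨⟨e, P.two_le_normTwo L he⟩, rfl⟩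
    have e2 : Nat.card (MulAction.orbit (normTwo x) r) = 60 := by
      rw [← R.card_far]
      refine Nat.card_congr (Equiv.subtypeEquivRight fun p => ⟨?_, fun hp => ?_⟩)
      · rintro ⟨k, rfl⟩
        exact R.far_inv P L k.2 h
      · obtain ⟨k, hk, hk'⟩ := R.far_trans r p h hp
        exact ⟨⟨k, hk⟩, hk'⟩
    have e3 : Nat.card (MulAction.stabilizer (normTwo x) q) =
        Nat.card (MulAction.stabilizer (normTwo x) r) := by
      have hmem : ∀ k : MulAction.stabilizer (normTwo x) q,
          g⁻¹ * (k : G) * g ∈ normTwo x ∧ (g⁻¹ * (k : G) * g) • r = r := fun k =>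
        ⟨smul_base_eq_iff.1 (by
          rw [mul_smul, mul_smul, hgq, show ((k : G)) • q = q from k.2, ← hgq, inv_smul_smul]),
        by rw [hr, mul_smul, mul_smul, smul_inv_smul, smul_base_eq_iff.2 k.1.2]⟩
      have hmem' : ∀ k : MulAction.stabilizer (normTwo x) r,
          g * (k : G) * g⁻¹ ∈ normTwo x ∧ (g * (k : G) * g⁻¹) • q = q := fun k =>
        ⟨smul_base_eq_iff.1 (by
          rw [mul_smul, mul_smul, ← hr, show ((k : G)) • r = r from k.2, hr, smul_inv_smul]),
        by rw [← hgq, mul_smul, mul_smul, inv_smul_smul, smul_base_eq_iff.2 k.1.2]⟩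
      exact Nat.card_congr
        { toFun := fun k => ⟨⟨_, (hmem k).1⟩, (hmem k).2⟩
          invFun := fun k => ⟨⟨_, (hmem' k).1⟩, (hmem' k).2⟩
          left_inv := fun k => Subtype.ext (Subtype.ext (by
            show g * (g⁻¹ * (k : G) * g) * g⁻¹ = k
            group))
          right_inv := fun k => Subtype.ext (Subtype.ext (by
            show g⁻¹ * (g * (k : G) * g⁻¹) * g = k
            group)) }
    rw [e1] at h1
    rw [e2, ← e3] at h2
    omega

theorem adj_symm {p p' : G ⧸ normTwo x} (h : Adj x q p p') : Adj x q p' p := by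
  obtain ⟨k, rfl, rfl⟩ := h
  obtain ⟨g, h1, h2⟩ := R.exists_swap P L
  exact ⟨k * g, by rw [mul_smul, h1], by rw [mul_smul, h2]⟩

theorem adj_comm {p p' : G ⧸ normTwo x} : Adj x q p p' ↔ Adj x q p' p :=
  ⟨R.adj_symm P L, R.adj_symm P L⟩

theorem exists_smul_base (p : G ⧸ normTwo x) : ∃ g : G, g • base x = p := by
  obtain ⟨g, rfl⟩ := QuotientGroup.mk_surjective p
  exact ⟨g, by rw [base, MulAction.Quotient.smul_mk, smul_eq_mul, mul_one]⟩

theorem card_nbrs (p : G ⧸ normTwo x) : Nat.card {p' // Adj x q p p'} = 16 := by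
  obtain ⟨g, rfl⟩ := R.exists_smul_base P L p
  rw [← R.card_near P L]
  refine Nat.card_congr ((MulAction.toPerm g⁻¹).subtypeEquiv fun p' => ?_)
  rw [MulAction.toPerm_apply, ← R.adj_base P L, ← adj_smul_iff g⁻¹, inv_smul_smul]

/-- There is no edge inside the short suborbit. -/
theorem not_adj_near {p p' : G ⧸ normTwo x} (hp : Near x q p) (hp' : Near x q p') :
    ¬ Adj x q p p' := by
  classical
  haveI := Fintype.ofFinite G
  haveI : Fintype (G ⧸ normTwo x) := Fintype.ofFinite _
  intro hadj
  obtain ⟨e, he, rfl⟩ := hp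
  obtain ⟨e', he', rfl⟩ := hp'
  have hd : Adj x q q ((e⁻¹ * e') • q) := by
    have := hadj.smul e⁻¹
    rwa [inv_smul_smul, ← mul_smul] at this
  set d := e⁻¹ * e' with hdef
  have hdE : d ∈ twoCore x := mul_mem (inv_mem he) he'
  have hne : ∀ a, ¬ Adj x q a a := by
    rintro a ⟨k, hk, hk'⟩
    exact R.ne (MulAction.injective k (hk'.trans hk.symm))
  have hd1 : d ≠ 1 := fun h => hne q (by rwa [h, one_smul] at hd)
  -- all nontrivial translations give edges
  have hall : ∀ c ∈ twoCore x, c ≠ 1 → Adj x q q (c • q) := by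
    intro c hc hc1
    obtain ⟨h, hh, hh'⟩ := P.transitive L hdE hd1 hc hc1
    obtain ⟨a, ha, haq⟩ := R.near_inv h hh q (R.near_self P L)
    have h1 := hd.smul h
    rw [show h • d • q = c • h • q by
      rw [← mul_smul, ← mul_smul, ← hh', inv_mul_cancel_right], ← haq, ← mul_smul,
      P.comm_two L hc ha, mul_smul] at h1
    exact (adj_smul_iff a).1 h1
  have hclique : ∀ a, Near x q a → ∀ b, Near x q b → a ≠ b → Adj x q a b := by
    rintro _ ⟨a, ha, rfl⟩ _ ⟨b, hb, rfl⟩ hab
    have := (hall (a⁻¹ * b) (mul_mem (inv_mem ha) hb) fun h => hab (by rw [inv_mul_eq_one.1 h])).smul a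
    rwa [← mul_smul, mul_inv_cancel_left] at this
  -- the closed neighbourhood is a block
  set K := Finset.univ.filter (fun a => a = base x ∨ Near x q a) with hK
  have hblock : ∀ g : G, g • base x ∈ K → ∀ a ∈ K, g • a ∈ K := by
    intro g hg a ha
    rcases (Finset.mem_filter.1 hg).2 with hg | hg
    · rcases (Finset.mem_filter.1 ha).2 with rfl | ha
      · exact Finset.mem_filter.2 ⟨Finset.mem_univ _, Or.inl hg⟩
      · exact Finset.mem_filter.2 ⟨Finset.mem_univ _,
          Or.inr (R.near_inv g (smul_base_eq_iff.1 hg) a ha)⟩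
    · rcases (Finset.mem_filter.1 ha).2 with rfl | ha
      · exact Finset.mem_filter.2 ⟨Finset.mem_univ _, Or.inr hg⟩
      · have hsub : (K.erase (g • base x)) ⊆ Finset.univ.filter (Adj x q (g • base x)) := by
          intro b hb
          obtain ⟨hb1, hb2⟩ := Finset.mem_erase.1 hb
          refine Finset.mem_filter.2 ⟨Finset.mem_univ _, ?_⟩
          rcases (Finset.mem_filter.1 hb2).2 with rfl | hb3
          · exact R.adj_symm P L ((R.adj_base P L).2 hg)
          · exact hclique _ hg _ hb3 (Ne.symm hb1)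
        have hKc : K.card = 17 := by
          rw [hK, Finset.filter_or, Finset.filter_eq' Finset.univ (base x),
            if_pos (Finset.mem_univ _), Finset.card_union_of_disjoint, Finset.card_singleton,
            ← Fintype.card_subtype, ← Nat.card_eq_fintype_card, R.card_near P L]
          rw [Finset.disjoint_left]
          intro b hb hb'
          exact R.near_ne P L (Finset.mem_filter.1 hb').2 (Finset.mem_singleton.1 hb)
        have hg' : g • base x ∈ K := Finset.mem_filter.2 ⟨Finset.mem_univ _, Or.inr hg⟩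
        have heq := Finset.eq_of_subset_of_card_le hsub (by
          rw [Finset.card_erase_of_mem hg', hKc, ← Fintype.card_subtype, ← Nat.card_eq_fintype_card,
            R.card_nbrs P L])
        have hmem : g • a ∈ K.erase (g • base x) := by
          rw [heq]
          exact Finset.mem_filter.2 ⟨Finset.mem_univ _, ((R.adj_base P L).2 ha).smul g⟩
        exact (Finset.mem_erase.1 hmem).2
  let S : Subgroup G :=
    { carrier := {g | ∀ a, g • a ∈ K ↔ a ∈ K}
      one_mem' := fun a => by rw [one_smul]
      mul_mem' := fun {g k} hg hk a => by rw [mul_smul, hg, hk]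
      inv_mem' := fun {g} hg a => by rw [← hg, smul_inv_smul] }
  have hS : ∀ g : G, g • base x ∈ K → g ∈ S := by
    intro g hg a
    have heq : K.image (g • ·) = K := Finset.eq_of_subset_of_card_le
      (fun b hb => by
        obtain ⟨a, ha, rfl⟩ := Finset.mem_image.1 hb
        exact hblock g hg a ha)
      (le_of_eq (Finset.card_image_of_injective _ (MulAction.injective g)).symm)
    conv_lhs => rw [← heq]
    rw [Finset.mem_image]
    exact ⟨fun ⟨b, hb, hb'⟩ => (MulAction.injective g hb') ▸ hb, fun ha => ⟨a, ha, rfl⟩⟩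
  have horb : MulAction.orbit S (base x) = (K : Set (G ⧸ normTwo x)) := by
    ext a
    constructor
    · rintro ⟨k, rfl⟩
      exact (k.2 (base x)).2 (Finset.mem_filter.2 ⟨Finset.mem_univ _, Or.inl rfl⟩)
    · intro ha
      obtain ⟨g, rfl⟩ := R.exists_smul_base P L a
      exact ⟨⟨g, hS g ha⟩, rfl⟩
  have hK17 : K.card = 17 := by
    rw [hK, Finset.filter_or, Finset.filter_eq' Finset.univ (base x), if_pos (Finset.mem_univ _),
      Finset.card_union_of_disjoint, Finset.card_singleton, ← Fintype.card_subtype,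
      ← Nat.card_eq_fintype_card, R.card_near P L]
    rw [Finset.disjoint_left]
    intro b hb hb'
    exact R.near_ne P L (Finset.mem_filter.1 hb').2 (Finset.mem_singleton.1 hb)
  have h17 := (MulAction.stabilizer S (base x)).card_mul_index
  rw [MulAction.index_stabilizer, horb, Set.ncard_coe_finset, hK17] at h17
  have := (Dvd.intro_left _ h17).trans (Subgroup.card_subgroup_dvd_card S)
  rw [L.card] at this
  norm_num at this

/-- There is no triangle. -/
theorem no_triangle {a b c : G ⧸ normTwo x} (h1 : Adj x q a b) (h2 : Adj x q a c) : ¬ Adj x q b c := by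
  obtain ⟨g, rfl⟩ := R.exists_smul_base P L a
  intro h3
  have k1 := h1.smul g⁻¹
  have k2 := h2.smul g⁻¹
  rw [inv_smul_smul] at k1 k2
  exact R.not_adj_near P L ((R.adj_base P L).1 k1) ((R.adj_base P L).1 k2) (h3.smul g⁻¹)

theorem not_adj_base_far {p : G ⧸ normTwo x} (hp : Far x q p) : ¬ Adj x q (base x) p :=
  fun h => hp.2 ((R.adj_base P L).1 h)

/-- Every point at distance two has four common neighbours with the base point. -/
theorem card_mu {y : G ⧸ normTwo x} (hy : Far x q y) :
    Nat.card {a // Near x q a ∧ Adj x q a y} = 4 := by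
  classical
  haveI := Fintype.ofFinite G
  haveI : Fintype (G ⧸ normTwo x) := Fintype.ofFinite _
  set A := Finset.univ.filter (Near x q) with hA
  set B := Finset.univ.filter (Far x q) with hB
  have hconst : ∀ y' ∈ B, (A.filter fun a => Adj x q a y').card = (A.filter fun a => Adj x q a y).card := by
    intro y' hy'
    obtain ⟨h, hh, rfl⟩ := R.far_trans y y' hy (Finset.mem_filter.1 hy').2
    rw [← Finset.card_image_of_injective (A.filter fun a => Adj x q a y) (MulAction.injective h)]
    congr 1
    ext a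
    simp only [hA, Finset.mem_image, Finset.mem_filter, Finset.mem_univ, true_and]
    constructor
    · intro ⟨ha, hay⟩
      refine ⟨h⁻¹ • a, ⟨R.near_inv _ (inv_mem hh) a ha, ?_⟩, smul_inv_smul h a⟩
      have := hay.smul h⁻¹
      rwa [inv_smul_smul] at this
    · rintro ⟨b, ⟨hb, hby⟩, rfl⟩
      exact ⟨R.near_inv h hh b hb, hby.smul h⟩
  have hrow : ∀ a ∈ A, (B.filter fun y' => Adj x q a y').card = 15 := by
    intro a ha
    have ha' := (Finset.mem_filter.1 ha).2
    have e : (B.filter fun y' => Adj x q a y') =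
        (Finset.univ.filter (Adj x q a)).erase (base x) := by
      ext y'
      simp only [hB, Finset.mem_filter, Finset.mem_univ, true_and, Finset.mem_erase]
      refine ⟨fun ⟨h1, h2⟩ => ⟨h1.1, h2⟩, fun ⟨h1, h2⟩ => ⟨⟨h1, fun hn => ?_⟩, h2⟩⟩
      exact R.not_adj_near P L ha' hn h2
    rw [e, Finset.card_erase_of_mem (by
        simp only [Finset.mem_filter, Finset.mem_univ, true_and]
        exact R.adj_symm P L ((R.adj_base P L).2 ha')),
      ← Fintype.card_subtype, ← Nat.card_eq_fintype_card, R.card_nbrs P L]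
  have hdc : ∑ a ∈ A, (B.filter fun y' => Adj x q a y').card =
      ∑ y' ∈ B, (A.filter fun a => Adj x q a y').card := by
    simp only [Finset.card_filter]
    exact Finset.sum_comm
  rw [Finset.sum_congr rfl hrow, Finset.sum_congr rfl hconst, Finset.sum_const, Finset.sum_const,
    show A.card = 16 by rw [hA, ← Fintype.card_subtype, ← Nat.card_eq_fintype_card, R.card_near P L],
    show B.card = 60 by rw [hB, ← Fintype.card_subtype, ← Nat.card_eq_fintype_card, R.card_far],
    smul_eq_mul, smul_eq_mul] at hdc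
  rw [Nat.card_eq_fintype_card, Fintype.card_subtype, ← Finset.filter_filter, ← hA]
  omega

end Root

end Cfsg.Lib.MTwentyTwo
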