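import Cfsg.Agent.Lib.MTwentyTwo.Data

/-!
# The block search for a simple group of order 443520: the tables are the computed lists
-/

set_option autoImplicit false
set_option maxRecDepth 100000

namespace Cfsg.Lib.MTwentyTwo

theorem options_eleven_check : ((options 11).all fun ec =>
    decide (ec = (5, 1) ∨ ec = (10, 28)) || (std 11 ec.1 ec.2).isEmpty) = true := by
  decide +kernel

theorem std_seven_880 : std 7 2 880 = [] := by decide +kernel

theorem opts_five : opts 5 = table5 := by decide +kernel

theorem opts_seven : opts 7 = table7 := by decide +kernel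

theorem configs_eq : configs = cfgTable := by decide +kernel

theorem table_five_check : (table5.all fun o =>
    decide ((o.c = 1 → o.e = 4) ∧ (o.c ≠ 1 → o.c % 2 = 0 ∨ o.c % 7 = 0))) = true := by
  decide +kernel

theorem table_seven_check : (table7.all fun o =>
    decide ((o.c = 1 → o.e = 3) ∧ (o.c ≠ 1 → o.c % 2 = 0) ∧ o.c % 5 ≠ 0)) = true := by
  decide +kernel

end Cfsg.Lib.MTwentyTwo
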