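import Cfsg.Agent.Lib.MTwentyTwo.Basic
import Cfsg.Agent.Lib.MTwentyTwo.Tables

/-!
# A simple group of order 443520: the Sylow 11-subgroup is self-centralizing
-/

set_option autoImplicit false
set_option linter.style.haveILetI false
set_option linter.unusedSectionVars false

namespace Cfsg.Lib.MTwentyTwo

open Cfsg Cfsg.Lib

universe u

variable {G : Type u} [Group G] [Fintype G]

theorem not_sq_dvd (hG : IsM22 G) {p : ℕ} (hp : p = 5 ∨ p = 7 ∨ p = 11) : ¬ p ^ 2 ∣ Nat.card G := by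
  rw [hG.2]
  rcases hp with rfl | rfl | rfl <;> decide

namespace Dat

variable {p : ℕ} [Fact p.Prime] (D : Dat G p)

/-- A prime order of an element commuting with an element of order `p` divides the cofactor. -/
theorem dvd_c_of_commute {r : ℕ} (hr : r.Prime) (hrp : r ≠ p) {y : G} (hy : orderOf y = r)
    (hdvd : p ∣ Nat.card (Subgroup.centralizer ({y} : Set G))) : r ∣ D.c := by
  obtain ⟨⟨x, hxC⟩, hx⟩ :=
    exists_prime_orderOf_dvd_card' (G := Subgroup.centralizer ({y} : Set G)) p hdvd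
  rw [Subgroup.orderOf_mk] at hx
  obtain ⟨Q, hQ⟩ := Small.exists_sylow_eq_zpowers (G := G) (fun Q => by
    rw [Q.card_eq_multiplicity, ← D.P.card_eq_multiplicity, D.S.card_P]) hx
  obtain ⟨g, hg⟩ := MulAction.exists_smul_eq G Q D.P
  have hmem : g * y * g⁻¹ ∈ Subgroup.centralizer ((D.P : Subgroup G) : Set G) := by
    rw [Subgroup.mem_centralizer_iff]
    intro w hw
    rw [← hg, Sylow.coe_subgroup_smul] at hw
    obtain ⟨v, hv, rfl⟩ := hw
    rw [hQ] at hv
    obtain ⟨i, rfl⟩ := Subgroup.mem_zpowers_iff.1 hv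
    have hc : Commute (x ^ i) y :=
      (show Commute x y from Subgroup.mem_centralizer_singleton_iff.1 hxC).zpow_left i
    simp only [MulDistribMulAction.toMonoidEnd_apply, MulDistribMulAction.toMonoidHom_apply,
      MulAut.smul_def, MulAut.conj_apply]
    calc g * x ^ i * g⁻¹ * (g * y * g⁻¹) = g * (x ^ i * y) * g⁻¹ := by group
      _ = g * (y * x ^ i) * g⁻¹ := by rw [hc.eq]
      _ = g * y * g⁻¹ * (g * x ^ i * g⁻¹) := by group
  have h := Subgroup.orderOf_dvd_natCard _ hmem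
  rw [show orderOf (g * y * g⁻¹) = r from ((MulAut.conj g).orderOf_eq y).trans hy, D.hc] at h
  rcases hr.dvd_mul.1 h with h | h
  · exact absurd ((Nat.prime_dvd_prime_iff_eq hr Fact.out).1 h) hrp
  · exact h

theorem dvd_c_symm {r : ℕ} [hr : Fact r.Prime] (D' : Dat G r) (hne : r ≠ p) (h : r ∣ D.c) :
    p ∣ D'.c := by
  obtain ⟨x, hx, hx1⟩ := D.exists_x
  obtain ⟨⟨y, hyC⟩, hy⟩ := exists_prime_orderOf_dvd_card'
    (G := Subgroup.centralizer ((D.P : Subgroup G) : Set G)) r (D.hc ▸ dvd_mul_of_dvd_right h p)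
  rw [Subgroup.orderOf_mk] at hy
  refine D'.dvd_c_of_commute Fact.out (Ne.symm hne) (D.orderOf_eq hx hx1) ?_
  have hyx : y ∈ Subgroup.centralizer ({x} : Set G) :=
    Subgroup.mem_centralizer_singleton_iff.2 ((Subgroup.mem_centralizer_iff.1 hyC x hx).symm)
  exact hy ▸ Subgroup.orderOf_dvd_natCard _ hyx

theorem card_normalizer (hG : IsM22 G) :
    D.n * Nat.card (Subgroup.normalizer ((D.P : Subgroup G) : Set G)) = ord := by
  rw [D.hn_card, Small.card_normalizer_mul D.P, card_G hG]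

end Dat

/-- The Sylow 7-subgroup of a centralizer of order 308 would be normalized by too much. -/
theorem not_ten [Fact (Nat.Prime 11)] [Fact (Nat.Prime 7)] (hG : IsM22 G) (D : Dat G 11)
    (he : D.e = 10) (hc : D.c = 28) : False := by
  classical
  set C := Subgroup.centralizer ((D.P : Subgroup G) : Set G) with hC
  have hC308 : Nat.card C = 7 ^ 1 * 44 := by rw [hC, D.hc, hc]; norm_num
  obtain ⟨Q⟩ : Nonempty (Sylow 7 C) := inferInstance
  have hQ7 : Nat.card (Q : Subgroup C) = 7 := by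
    rw [Small.card_sylow 1 44 hC308 (by norm_num) Q]; norm_num
  obtain ⟨hdvd, hmod⟩ := Small.sylow_facts (G := C) (p := 7) 1 44 hC308 (by norm_num)
  have hPC : (D.P : Subgroup G) ≤ C := Block.le_centralizer_self D.S.card_P
  set P' := (D.P : Subgroup G).subgroupOf C with hP'
  have hP'N : P' ≤ Subgroup.normalizer ((Q : Subgroup C) : Set C) := by
    intro v hv
    rw [Subgroup.mem_normalizer_iff]
    intro w
    have hvw : ∀ w : C, v * w = w * v := fun w =>
      Subtype.ext (Subgroup.mem_centralizer_iff.1 w.2 v hv)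
    rw [hvw w, mul_inv_cancel_right]
  have h11 : 11 ∣ Nat.card (Subgroup.normalizer ((Q : Subgroup C) : Set C)) := by
    have := Subgroup.card_dvd_of_le hP'N
    rwa [hP', Nat.card_congr (Subgroup.subgroupOfEquivOfLe hPC).toEquiv, D.S.card_P] at this
  have h1 : Nat.card (Sylow 7 C) = 1 := by
    have hmul := Small.card_normalizer_mul Q
    obtain ⟨k, hk⟩ := h11
    rw [hk, hC308] at hmul
    have hd : Nat.card (Sylow 7 C) ∣ 28 := ⟨k, by
      apply Nat.eq_of_mul_eq_mul_left (show 0 < 11 by norm_num)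
      linarith⟩
    have h44 := Nat.le_of_dvd (by norm_num) hdvd
    have h28 := Nat.le_of_dvd (by norm_num) hd
    interval_cases hn : Nat.card (Sylow 7 C) <;> omega
  haveI : Subsingleton (Sylow 7 C) := (Nat.card_eq_one_iff_unique.1 h1).1
  set Q' := (Q : Subgroup C).map C.subtype with hQ'
  have hQ'7 : Nat.card Q' = 7 := by
    rw [hQ', Subgroup.card_map_of_injective C.subtype_injective, hQ7]
  obtain ⟨D'⟩ := exists_dat hG 7 (Or.inr (Or.inl rfl))
  let Q7 : Sylow 7 G := Sylow.ofCard Q'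
    (hQ'7.trans (D'.S.card_P.symm.trans D'.P.card_eq_multiplicity))
  have hNle : Subgroup.normalizer ((D.P : Subgroup G) : Set G) ≤
      Subgroup.normalizer ((Q7 : Subgroup G) : Set G) := by
    intro g hg
    show g ∈ Subgroup.normalizer (Q' : Set G)
    have hgC : ∀ a ∈ C, g * a * g⁻¹ ∈ C := fun a ha => by
      rw [hC, Subgroup.mem_centralizer_iff] at ha ⊢
      intro w hw
      have hw' : g⁻¹ * w * g ∈ (D.P : Subgroup G) := by
        have := (Subgroup.mem_normalizer_iff.1 (inv_mem hg) w).1 hw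
        rwa [inv_inv] at this
      have h := ha _ hw'
      calc w * (g * a * g⁻¹) = g * (g⁻¹ * w * g * a) * g⁻¹ := by group
        _ = g * (a * (g⁻¹ * w * g)) * g⁻¹ := by rw [h]
        _ = g * a * g⁻¹ * w := by group
    have hmem : ∀ q ∈ Q', g * q * g⁻¹ ∈ Q' := by
      intro q hq
      obtain ⟨q, hq', rfl⟩ := hq
      set q2 : C := ⟨g * (q : G) * g⁻¹, hgC _ q.2⟩
      have hord : orderOf q2 ∣ 7 := by
        rw [← Subgroup.orderOf_coe]
        show orderOf (MulAut.conj g (q : G)) ∣ 7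
        rw [MulEquiv.orderOf_eq, Subgroup.orderOf_coe]
        exact hQ7 ▸ Subgroup.orderOf_dvd_natCard _ hq'
      obtain ⟨R, hR⟩ := (IsPGroup.of_card (G := ↥(Subgroup.zpowers q2)) (p := 7)
        (n := if orderOf q2 = 1 then 0 else 1) (by
          rw [Nat.card_zpowers]
          rcases (Nat.dvd_prime (by norm_num)).1 hord with h | h <;> simp [h])).exists_le_sylow
      exact ⟨q2, Subsingleton.elim R Q ▸ hR (Subgroup.mem_zpowers q2), rfl⟩
    have hfin : (Q' : Set G).Finite := Set.toFinite _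
    exact Subgroup.mem_normalizer_fintype fun q hq => hmem q hq
  have hN := Subgroup.card_dvd_of_le hNle
  have hn7 : D'.n * Nat.card (Subgroup.normalizer ((Q7 : Subgroup G) : Set G)) = ord := by
    rw [D'.hn_card, Small.card_normalizer_mul Q7, card_G hG]
  have hNP : Nat.card (Subgroup.normalizer ((D.P : Subgroup G) : Set G)) = 3080 := by
    have h := D.card_normalizer hG
    have hn := D.hn
    rw [he, hc, ord] at hn
    have : D.n = 144 := by omega
    rw [this, ord] at h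
    omega
  rw [hNP] at hN
  obtain ⟨k, hk⟩ := hN
  rw [hk, ord] at hn7
  have hd144 : D'.n ∣ 144 := ⟨k, by
    apply Nat.eq_of_mul_eq_mul_left (show 0 < 3080 by norm_num)
    linarith⟩
  have hle := Nat.le_of_dvd (by norm_num) hd144
  have hmod7 := D'.hmod
  have h36 : D'.n = 36 := by
    have h8 : D'.n ≠ 8 := by
      intro h8
      haveI := hG.1
      have hne : Subgroup.normalizer ((D'.P : Subgroup G) : Set G) ≠ ⊤ := fun htop => by
        have := D'.card_normalizer hG
        rw [htop, Subgroup.card_top, card_G hG, h8, ord] at this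
        omega
      have := eleven_le_index hG hne
      have hi := D'.P.card_eq_index_normalizer
      rw [← D'.hn_card, h8] at hi
      rw [show (Subgroup.normalizer ((D'.P : Subgroup G) : Set G)).index = 8 from hi.symm] at this
      omega
    have h1' := D'.hn1
    have hsmall : D'.n % 7 = 1 → D'.n ∣ 144 → D'.n ≤ 144 → D'.n = 1 ∨ D'.n = 8 ∨ D'.n = 36 := by
      intro a b c
      interval_cases hn : D'.n <;> simp_all (config := {decide := true})
    rcases hsmall hmod7 hd144 hle with h | h | h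
    · exact absurd h h1'
    · exact absurd h h8
    · exact h
  have hec := D'.hn
  rw [h36, ord] at hec
  have he6 := Nat.le_of_dvd (by norm_num) D'.hed
  have hee : D'.e * D'.c = 1760 := by
    have : 36 * (D'.e * D'.c) = 63360 := by rw [← mul_assoc]; exact hec
    omega
  have he' : D'.e = 2 ∧ D'.c = 880 := by
    have h2 := D'.he2
    have hd := D'.hed
    interval_cases he'' : D'.e <;> first | omega | (norm_num at hd)
  obtain ⟨L, -, -, hL⟩ := D'.exists_std hG (not_sq_dvd hG (Or.inr (Or.inl rfl)))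
  rw [he'.1, he'.2, std_seven_880] at hL
  exact List.not_mem_nil hL

theorem eleven_data [Fact (Nat.Prime 11)] (hG : IsM22 G) (D : Dat G 11) : D.e = 5 ∧ D.c = 1 := by
  haveI : Fact (Nat.Prime 7) := ⟨by norm_num⟩
  have h := List.all_eq_true.1 options_eleven_check _ (D.mem_options hG (Or.inl rfl))
  obtain ⟨L, -, -, hL⟩ := D.exists_std hG (not_sq_dvd hG (Or.inr (Or.inr rfl)))
  rw [Bool.or_eq_true, decide_eq_true_eq, List.isEmpty_iff] at h
  rcases h with (h | h) | h
  · simpa using h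
  · simp only [Prod.mk.injEq] at h
    exact (not_ten hG D h.1 h.2).elim
  · exact absurd hL (by simp [h])

theorem not_eleven_dvd_centralizer [Fact (Nat.Prime 11)] (hG : IsM22 G) {z : G} {r : ℕ}
    (hr : r.Prime) (hr11 : r ≠ 11) (hz : orderOf z = r) :
    ¬ 11 ∣ Nat.card (Subgroup.centralizer ({z} : Set G)) := fun h => by
  obtain ⟨D⟩ := exists_dat hG 11 (Or.inr (Or.inr rfl))
  have := D.dvd_c_of_commute hr hr11 hz h
  rw [(eleven_data hG D).2] at this
  exact hr.not_dvd_one this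

theorem not_eleven_dvd_c [Fact (Nat.Prime 11)] (hG : IsM22 G) {p : ℕ} [Fact p.Prime] (D : Dat G p)
    (hp : p ≠ 11) : ¬ 11 ∣ D.c := fun h => by
  obtain ⟨D'⟩ := exists_dat hG 11 (Or.inr (Or.inr rfl))
  have := D.dvd_c_symm D' (Ne.symm hp) h
  rw [(eleven_data hG D').2] at this
  exact (Fact.out : p.Prime).not_dvd_one this

theorem exists_opt_five [Fact (Nat.Prime 11)] [Fact (Nat.Prime 5)] (hG : IsM22 G) (D : Dat G 5) :
    ∃ L : List (IrrCharacter G), L.Nodup ∧ (∀ χ, χ ∈ L ↔ χ ∈ D.S.Z) ∧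
      ⟨D.e, D.c, L.map D.slot, cents 5 D.e D.c⟩ ∈ table5 := by
  obtain ⟨L, h1, h2, h3⟩ := D.exists_std hG (not_sq_dvd hG (Or.inl rfl))
  refine ⟨L, h1, h2, ?_⟩
  rw [← opts_five, opts, List.mem_flatMap]
  exact ⟨_, D.mem_options hG (Or.inr (not_eleven_dvd_c hG D (by norm_num))),
    List.mem_map.2 ⟨_, h3, rfl⟩⟩

theorem exists_opt_seven [Fact (Nat.Prime 11)] [Fact (Nat.Prime 7)] (hG : IsM22 G) (D : Dat G 7) :
    ∃ L : List (IrrCharacter G), L.Nodup ∧ (∀ χ, χ ∈ L ↔ χ ∈ D.S.Z) ∧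
      ⟨D.e, D.c, L.map D.slot, cents 7 D.e D.c⟩ ∈ table7 := by
  obtain ⟨L, h1, h2, h3⟩ := D.exists_std hG (not_sq_dvd hG (Or.inr (Or.inl rfl)))
  refine ⟨L, h1, h2, ?_⟩
  rw [← opts_seven, opts, List.mem_flatMap]
  exact ⟨_, D.mem_options hG (Or.inr (not_eleven_dvd_c hG D (by norm_num))),
    List.mem_map.2 ⟨_, h3, rfl⟩⟩

theorem exists_cfg [Fact (Nat.Prime 11)] (hG : IsM22 G) (D : Dat G 11) :
    ∃ L : List (IrrCharacter G), L.Nodup ∧ (∀ χ, χ ∈ L ↔ χ ∈ D.S.Z) ∧
      L.map D.slot ∈ cfgTable := by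
  obtain ⟨L, h1, h2, h3⟩ := D.exists_std hG (not_sq_dvd hG (Or.inr (Or.inr rfl)))
  rw [(eleven_data hG D).1, (eleven_data hG D).2] at h3
  cases L with
  | nil => exact ⟨[], h1, h2, by
      rw [← configs_eq, configs]; exact List.mem_map.2 ⟨_, h3, rfl⟩⟩
  | cons a l =>
    refine ⟨a :: l.reverse, ((l.reverse_perm).cons a).nodup_iff.2 h1, fun χ => ?_, ?_⟩
    · rw [((l.reverse_perm).cons a).mem_iff, h2]
    · rw [← configs_eq, configs]
      refine List.mem_map.2 ⟨_, h3, ?_⟩
      simp [canon, List.map_reverse]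

theorem five_data [Fact (Nat.Prime 11)] [Fact (Nat.Prime 7)] [Fact (Nat.Prime 5)] (hG : IsM22 G)
    (D : Dat G 5) (D7 : Dat G 7) :
    (D.c = 1 → D.e = 4) ∧ (D.c ≠ 1 → 2 ∣ D.c) ∧ ¬ 7 ∣ D.c ∧ (D7.c = 1 → D7.e = 3) ∧
      (D7.c ≠ 1 → 2 ∣ D7.c) ∧ ¬ 5 ∣ D7.c := by
  obtain ⟨_, -, -, h⟩ := exists_opt_five hG D
  obtain ⟨_, -, -, h'⟩ := exists_opt_seven hG D7
  have k := of_decide_eq_true (List.all_eq_true.1 table_five_check _ h)
  have k' := of_decide_eq_true (List.all_eq_true.1 table_seven_check _ h')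
  have h7 : ¬ 7 ∣ D.c := fun e => k'.2.2 (Nat.mod_eq_zero_of_dvd (D.dvd_c_symm D7 (by norm_num) e))
  refine ⟨k.1, fun e => ?_, h7, k'.1, fun e => Nat.dvd_of_mod_eq_zero (k'.2.1 e),
    fun e => k'.2.2 (Nat.mod_eq_zero_of_dvd e)⟩
  exact ((k.2 e).resolve_right fun e => h7 (Nat.dvd_of_mod_eq_zero e)) |> Nat.dvd_of_mod_eq_zero

end Cfsg.Lib.MTwentyTwo
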