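import Cfsg.Agent.Lib.MTwentyTwo.Graph0

/-!
# The automorphisms of the graph on 77 vertices

There are at most 887040 of them: an automorphism is fixed by its values at the six base points.
-/

set_option autoImplicit false
set_option linter.style.haveILetI false

namespace Cfsg.Lib.MTwentyTwo

/-- The group of automorphisms of the graph. -/
def autGraph : Subgroup (Equiv.Perm (Fin 77)) where
  carrier := {g | ∀ i j, adj0 (g i) (g j) = adj0 i j}
  one_mem' := fun _ _ => rfl
  mul_mem' := fun {g h} hg hh i j => by rw [Equiv.Perm.mul_apply, Equiv.Perm.mul_apply, hg, hh]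
  inv_mem' := fun {g} hg i j => by
    rw [← hg (g⁻¹ i) (g⁻¹ j), ← Equiv.Perm.mul_apply, ← Equiv.Perm.mul_apply, mul_inv_cancel,
      Equiv.Perm.one_apply, Equiv.Perm.one_apply]

theorem mem_autGraph {g : Equiv.Perm (Fin 77)} :
    g ∈ autGraph ↔ ∀ i j, adj0 (g i) (g j) = adj0 i j := Iff.rfl

theorem testBit_foldl (l : List (Fin 77)) : ∀ (a i : ℕ),
    (l.foldl (fun a s => a ||| 2 ^ s.val) a).testBit i = true ↔
      a.testBit i = true ∨ ∃ s ∈ l, (s : Fin 77).val = i := by
  induction l with
  | nil => intro a i; simp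
  | cons b l ih =>
    intro a i
    rw [List.foldl_cons, ih, Nat.testBit_or, Bool.or_eq_true, Nat.testBit_two_pow]
    simp only [decide_eq_true_eq, List.mem_cons, exists_eq_or_imp]
    tauto

theorem fixed_of_step {g : Equiv.Perm (Fin 77)} (hg : g ∈ autGraph) :
    ∀ (rest : List (List (Fin 77))) (done : List (Fin 77)), (∀ s ∈ done, g s = s) →
      stepOK done rest = true → ∀ w, g w = w := by
  intro rest
  induction rest with
  | nil =>
    intro done hd h w
    simp only [stepOK, List.all_eq_true, List.contains_iff_mem] at h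
    exact hd w (h w (List.mem_finRange w))
  | cons new rest ih =>
    intro done hd h
    simp only [stepOK, Bool.and_eq_true, List.all_eq_true, Bool.or_eq_true, beq_iff_eq] at h
    refine ih (done ++ new) (fun s hs => ?_) h.2
    rcases List.mem_append.1 hs with hs | hs
    · exact hd s hs
    rcases h.1 s hs (g s) (List.mem_finRange _) with e | e
    · exact e
    · exfalso
      refine absurd ?_ (bne_iff_ne.1 e)
      refine Nat.eq_of_testBit_eq fun i => ?_
      rw [Nat.testBit_and, Nat.testBit_and]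
      cases hm : (List.foldl (fun a (s : Fin 77) => a ||| 2 ^ s.val) 0 done).testBit i
      · simp
      · obtain h0 | ⟨t, ht, rfl⟩ := (testBit_foldl done 0 i).1 hm
        · simp at h0
        · simp only [Bool.and_true]
          rw [← adj0_eq, ← adj0_eq]
          have := hg s t
          rwa [hd t ht] at this

theorem eq_one_of_base {g : Equiv.Perm (Fin 77)} (hg : g ∈ autGraph)
    (h : ∀ s ∈ basePts, g s = s) : g = 1 :=
  Equiv.ext fun w => fixed_of_step hg closureSteps basePts h closure_ok w

theorem common_iff : ∀ a ∈ vecs, ∀ b ∈ vecs, common a b =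
    decide (∃ w : Fin 77, w ≠ 0 ∧ adj0 1 w = true ∧ adj0 a w = true ∧ adj0 b w = true) := by
  decide +kernel

theorem mem_vecs {a : Fin 77} : a ∈ vecs ↔ 2 ≤ a.val ∧ a.val ≤ 16 := by
  simp [vecs]

theorem common_map {g : Equiv.Perm (Fin 77)} (hg : g ∈ autGraph) (h0 : g 0 = 0) (h1 : g 1 = 1)
    {a b : Fin 77} (ha : a ∈ vecs) (hb : b ∈ vecs) (hga : g a ∈ vecs) (hgb : g b ∈ vecs) :
    common (g a) (g b) = common a b := by
  rw [common_iff _ hga _ hgb, common_iff _ ha _ hb, decide_eq_decide]
  constructor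
  · rintro ⟨w, hw, e1, e2, e3⟩
    obtain ⟨w', rfl⟩ := g.surjective w
    refine ⟨w', fun e => hw (e ▸ h0), ?_, ?_, ?_⟩
    · rwa [← hg 1 w', h1]
    · rwa [← hg a w']
    · rwa [← hg b w']
  · rintro ⟨w, hw, e1, e2, e3⟩
    refine ⟨g w, fun e => hw (g.injective (e.trans h0.symm)), ?_, ?_, ?_⟩
    · rwa [← h1, hg]
    · rwa [hg]
    · rwa [hg]

theorem card_le_mul_fix (A : Subgroup (Equiv.Perm (Fin 77))) (p : Fin 77) (T : Finset (Fin 77))
    (hT : ∀ g ∈ A, g p ∈ T) :
    Nat.card A ≤ T.card * Nat.card (A ⊓ MulAction.stabilizer (Equiv.Perm (Fin 77)) p :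
      Subgroup (Equiv.Perm (Fin 77))) := by
  classical
  haveI : Fintype A := Fintype.ofFinite _
  set N := Nat.card (A ⊓ MulAction.stabilizer (Equiv.Perm (Fin 77)) p : Subgroup (Equiv.Perm (Fin 77)))
  have himg : (Finset.univ : Finset A).image (fun g : A => g.1 p) ⊆ T := fun b hb => by
    obtain ⟨g, -, rfl⟩ := Finset.mem_image.1 hb
    exact hT g g.2
  have h := Finset.card_le_mul_card_image (s := (Finset.univ : Finset A))
    (f := fun g : A => g.1 p) N (by
    intro b hb
    obtain ⟨g, -, rfl⟩ := Finset.mem_image.1 hb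
    rw [← Fintype.card_subtype, ← Nat.card_eq_fintype_card]
    refine Nat.card_le_card_of_injective (fun k => ⟨(g : Equiv.Perm (Fin 77))⁻¹ * (k.1 : Equiv.Perm (Fin 77)),
      A.mul_mem (A.inv_mem g.2) k.1.2, ?_⟩) fun k k' e => Subtype.ext (Subtype.ext ?_)
    · show ((g : Equiv.Perm (Fin 77))⁻¹ * (k.1 : Equiv.Perm (Fin 77))) p = p
      rw [Equiv.Perm.mul_apply, k.2, ← Equiv.Perm.mul_apply, inv_mul_cancel, Equiv.Perm.one_apply]
    · exact mul_left_cancel (congrArg Subtype.val e))
  rw [Finset.card_univ, ← Nat.card_eq_fintype_card, mul_comm] at h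
  exact h.trans (Nat.mul_le_mul_right _ (Finset.card_le_card himg))

theorem card_autGraph_le : Nat.card autGraph ≤ 887040 := by
  classical
  set A0 := autGraph ⊓ MulAction.stabilizer (Equiv.Perm (Fin 77)) (0 : Fin 77)
  set A1 := A0 ⊓ MulAction.stabilizer (Equiv.Perm (Fin 77)) (1 : Fin 77)
  have h0 := card_le_mul_fix autGraph 0 Finset.univ fun g _ => Finset.mem_univ _
  have h1 := card_le_mul_fix A0 1 (Finset.univ.filter fun a : Fin 77 => 1 ≤ a.val ∧ a.val ≤ 16) (by
    rintro g ⟨hg, hg0⟩
    have := hg 0 1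
    rw [show g 0 = 0 from hg0] at this
    simpa [adj0] using this)
  have h2 : Nat.card A1 ≤ 720 := by
    have hmem : ∀ g ∈ A1, ∀ a ∈ vecs, g a ∈ vecs := by
      rintro g ⟨⟨hg, hg0⟩, hg1⟩ a ha
      rw [mem_vecs] at ha ⊢
      have := hg 0 a
      rw [show g 0 = 0 from hg0] at this
      simp only [adj0, Fin.val_zero, if_true] at this
      have h16 : 1 ≤ (g a).val ∧ (g a).val ≤ 16 := by
        have e := decide_eq_decide.1 this
        exact e.2 ⟨by omega, ha.2⟩
      refine ⟨?_, h16.2⟩
      by_contra h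
      have e : g a = g 1 := by
        rw [show g 1 = 1 from hg1]
        exact Fin.ext (show (g a).val = 1 by omega)
      have := congrArg Fin.val (g.injective e)
      simp only [Fin.val_one] at this
      omega
    let F : A1 → {l // l ∈ basisImages.toFinset} := fun g =>
      ⟨[(g : Equiv.Perm (Fin 77)) 2, (g : Equiv.Perm (Fin 77)) 3, (g : Equiv.Perm (Fin 77)) 5,
        (g : Equiv.Perm (Fin 77)) 9], by
        obtain ⟨g, hg⟩ := g
        have v2 : (2 : Fin 77) ∈ vecs := mem_vecs.2 (by decide)
        have v3 : (3 : Fin 77) ∈ vecs := mem_vecs.2 (by decide)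
        have v5 : (5 : Fin 77) ∈ vecs := mem_vecs.2 (by decide)
        have v9 : (9 : Fin 77) ∈ vecs := mem_vecs.2 (by decide)
        have hc := fun {a b : Fin 77} (ha : a ∈ vecs) (hb : b ∈ vecs) =>
          common_map hg.1.1 hg.1.2 hg.2 ha hb (hmem g hg a ha) (hmem g hg b hb)
        obtain ⟨c23, c59, c25, c29, c35, c39⟩ := base_common
        have hne : ∀ {a b : Fin 77}, a ≠ b → g a ≠ g b := fun h e => h (g.injective e)
        simp only [basisImages, List.mem_toFinset, List.mem_flatMap, List.mem_map, List.mem_filter,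
          Bool.and_eq_true, bne_iff_ne, Bool.not_eq_true']
        refine ⟨g 2, hmem g hg 2 v2, g 3, ⟨hmem g hg 3 v3, hne (by decide), by rw [hc v2 v3, c23]⟩, g 5,
          ⟨hmem g hg 5 v5, ⟨⟨hne (by decide), hne (by decide)⟩, by rw [hc v2 v5, c25]⟩,
            by rw [hc v3 v5, c35]⟩, g 9,
          ⟨⟨hmem g hg 9 v9, ⟨⟨hne (by decide), hne (by decide)⟩, by rw [hc v2 v9, c29]⟩,
            by rw [hc v3 v9, c39]⟩, hne (by decide), by rw [hc v5 v9, c59]⟩, rfl⟩⟩
    have hF : Function.Injective F := by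
      intro g g' e
      have e' := congrArg Subtype.val e
      simp only [F, List.cons.injEq, and_true] at e'
      obtain ⟨e2, e3, e5, e9⟩ := e'
      apply Subtype.ext
      have h : (g' : Equiv.Perm (Fin 77))⁻¹ * g = 1 := by
        refine eq_one_of_base (mul_mem (inv_mem g'.2.1.1) g.2.1.1) fun s hs => ?_
        rw [Equiv.Perm.mul_apply]
        have key : (g : Equiv.Perm (Fin 77)) s = (g' : Equiv.Perm (Fin 77)) s := by
          simp only [basePts, List.mem_cons, List.not_mem_nil, or_false] at hs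
          rcases hs with rfl | rfl | rfl | rfl | rfl | rfl
          · exact g.2.1.2.trans g'.2.1.2.symm
          · exact g.2.2.trans g'.2.2.symm
          all_goals assumption
        rw [key, ← Equiv.Perm.mul_apply, inv_mul_cancel, Equiv.Perm.one_apply]
      exact (inv_mul_eq_one.1 h).symm
    refine (Nat.card_le_card_of_injective F hF).trans ?_
    rw [Nat.card_eq_finsetCard]
    exact (List.toFinset_card_le _).trans card_basisImages.le
  rw [Finset.card_univ, Fintype.card_fin] at h0
  rw [show (Finset.univ.filter fun a : Fin 77 => 1 ≤ a.val ∧ a.val ≤ 16).card = 16 by decide +kernel] at h1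
  calc Nat.card autGraph ≤ 77 * Nat.card A0 := h0
    _ ≤ 77 * (16 * Nat.card A1) := Nat.mul_le_mul_left _ h1
    _ ≤ 77 * (16 * 720) := Nat.mul_le_mul_left _ (Nat.mul_le_mul_left _ h2)
    _ = 887040 := by norm_num

end Cfsg.Lib.MTwentyTwo
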