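import Cfsg.Agent.Lib.MTwentyTwo.Planes
import Cfsg.Agent.Lib.MTwentyTwo.GraphAut

/-!
# A simple group of order 443520 acts on the model graph

The graph on the 77 conjugates of the elementary group is the model graph.
-/

set_option autoImplicit false
set_option linter.style.haveILetI false
set_option linter.unusedSectionVars false

namespace Cfsg.Lib.MTwentyTwo

open Cfsg Cfsg.Lib

universe u

variable {G : Type u} [Group G] [Finite G]

theorem Root.adj_irrefl {x : G} {q : G ⧸ normTwo x} (R : Root x q) (a : G ⧸ normTwo x) :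
    ¬ Adj x q a a := by
  rintro ⟨k, hk, hk'⟩
  exact R.ne (MulAction.injective k (hk'.trans hk.symm))

namespace Frame

variable {x v t b : G} {q : G ⧸ normTwo x} (F : Frame x v t b q)
include F

theorem card_nearSet {y : G ⧸ normTwo x} (hy : Far x q y) : (nearSet x v t b q y).card = 4 := by
  classical
  rw [← F.root.card_mu F.pair F.loc hy, ← Nat.card_eq_finsetCard]
  refine Nat.card_congr (Equiv.ofBijective
    (fun n => (⟨coord x v t b n.1 • q, ⟨_, F.coord_mem _, rfl⟩, mem_nearSet.1 n.2⟩ :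
      {a // Near x q a ∧ Adj x q a y}))
    ⟨fun m n h => Subtype.ext ?_, ?_⟩)
  · have h' : coord x v t b m.1 • q = coord x v t b n.1 • q := congrArg Subtype.val h
    refine F.coord_injective (inv_mul_eq_one.1 ?_).symm
    exact F.root.free _ (mul_mem (inv_mem (F.coord_mem n.1)) (F.coord_mem m.1))
      (by rw [mul_smul, h', inv_smul_smul])
  · rintro ⟨a, ⟨e, he, rfl⟩, ha⟩
    obtain ⟨n, rfl⟩ := F.exists_coord he
    exact ⟨⟨n, mem_nearSet.2 ha⟩, rfl⟩

theorem xor_mem_nearSet {y : G ⧸ normTwo x} {n : Fin 16} (m : Fin 16)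
    (hn : n ∈ nearSet x v t b q y) : m ^^^ n ∈ nearSet x v t b q (coord x v t b m • y) := by
  rw [mem_nearSet, F.coord_xor, mul_smul]
  exact (mem_nearSet.1 hn).smul _

variable (Fx : Fix x)
include Fx

/-- The index of a point of the long suborbit. -/
theorem exists_index {y : G ⧸ normTwo x} (hy : Far x q y) :
    ∃ k : Fin 60, (∀ n, n ∈ fixSet x v t b y ↔ inPlane (planeOf k) n = true) ∧
      (∀ n, n ∈ nearSet x v t b q y ↔ inCoset k n = true) := by
  classical
  obtain ⟨i, hi⟩ := F.exists_plane Fx hy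
  obtain ⟨n0, hn0⟩ : (nearSet x v t b q y).Nonempty := by
    rw [← Finset.card_pos, F.card_nearSet hy]
    norm_num
  obtain ⟨k, hk, hk'⟩ := coset_listed i n0
  refine ⟨k, hk ▸ hi, fun n => ?_⟩
  have heq : (fixSet x v t b y).image (fun m => m ^^^ n0) = nearSet x v t b q y := by
    refine Finset.eq_of_subset_of_card_le (fun n hn => ?_) ?_
    · obtain ⟨m, hm, rfl⟩ := Finset.mem_image.1 hn
      have := F.xor_mem_nearSet m hn0
      rwa [mem_fixSet.1 hm] at this
    · rw [F.card_nearSet hy, Finset.card_image_of_injective, F.card_fixSet hy]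
      intro a a' e
      have := congrArg (fun j => j ^^^ n0) e
      simpa only [(xor_facts a n0).2.2.2, (xor_facts a' n0).2.2.2] using this
  rw [← heq, hk', Finset.mem_image, ← hi]
  constructor
  · rintro ⟨m, hm, rfl⟩
    rwa [(xor_facts m n0).2.2.2]
  · intro h
    exact ⟨n ^^^ n0, h, (xor_facts n n0).2.2.2⟩

/-- The numbering of the long suborbit. -/
noncomputable def index (y : {y // Far x q y}) : Fin 60 := (F.exists_index Fx y.2).choose

theorem index_fix (y : {y // Far x q y}) (n : Fin 16) :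
    n ∈ fixSet x v t b y.1 ↔ inPlane (planeOf (F.index Fx y)) n = true :=
  (F.exists_index Fx y.2).choose_spec.1 n

theorem index_near (y : {y // Far x q y}) (n : Fin 16) :
    n ∈ nearSet x v t b q y.1 ↔ inCoset (F.index Fx y) n = true :=
  (F.exists_index Fx y.2).choose_spec.2 n

theorem index_bijective : Function.Bijective (F.index Fx) := by
  classical
  refine (Nat.bijective_iff_injective_and_card _).2 ⟨fun y y' h => ?_, by
    rw [F.root.card_far, Nat.card_fin]⟩
  have hfix : fixSet x v t b y.1 = fixSet x v t b y'.1 := by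
    ext n
    rw [F.index_fix Fx, F.index_fix Fx, h]
  obtain ⟨m, hm⟩ := F.orbit_of_fixSet_eq Fx y.2 y'.2 hfix
  obtain ⟨n, hn⟩ : (nearSet x v t b q y.1).Nonempty := by
    rw [← Finset.card_pos, F.card_nearSet y.2]
    norm_num
  have h1 := F.xor_mem_nearSet m hn
  rw [← hm, F.index_near Fx, ← h] at h1
  have h2 := (F.index_near Fx y n).1 hn
  rw [← (xor_facts m n).2.2.1] at h1
  have hmfix := (F.index_fix Fx y m).2 (coset_xor _ m n h2 h1)
  exact Subtype.ext (by rw [hm, mem_fixSet.1 hmfix])

/-- Two points with the same plane are not adjacent. -/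
theorem not_adj_same_plane {y y' : G ⧸ normTwo x} (hy : Far x q y) (hy' : Far x q y')
    (e : fixSet x v t b y = fixSet x v t b y') : ¬ Adj x q y y' := by
  intro hadj
  obtain ⟨⟨y0, hy0⟩, h36⟩ := (F.index_bijective Fx).2 36
  obtain ⟨h, hh, rfl⟩ := F.root.far_trans y y0 hy hy0
  obtain ⟨c, hc⟩ := F.orbit_of_fixSet_eq Fx hy0 (F.root.far_inv F.pair F.loc hh hy')
    (F.fixSet_smul_eq hh e)
  have hadj' := hadj.smul h
  rw [hc] at hadj'
  generalize hz : h • y = z at hc hadj' hy0 h36
  set f : Fin 16 → Fin 16 := fun n => pv (px n) with hf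
  have hu : ∀ n, coord x v t b (f n) = (v * x) * coord x v t b n * (v * x)⁻¹ := by
    intro n
    rw [hf, ← F.coord_pv, ← F.coord_px]
    group
  have huH : v * x ∈ normTwo x := mul_mem (F.pair.v_mem F.loc) (F.pair.x_mem F.loc)
  have hplane : ∀ n, n ∈ fixSet x v t b z ↔ inPlane 9 n = true := by
    intro n
    rw [F.index_fix Fx ⟨z, hy0⟩, h36, test_plane.1]
  have huz : fixSet x v t b z = fixSet x v t b ((v * x) • z) := by
    refine Finset.eq_of_subset_of_card_le (fun n hn => ?_)
      (by rw [F.card_fixSet hy0, F.card_fixSet (F.root.far_inv F.pair F.loc huH hy0)])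
    have hn2 : f (f n) ∈ fixSet x v t b z := by
      rw [hplane] at hn ⊢
      rw [hf]
      rwa [test_plane.2, test_plane.2]
    have hcube : ∀ n, pv (px (pv (px (pv (px n))))) = n := by decide
    have := (F.mem_fixSet_smul (hu (f (f n)))).2 hn2
    rwa [show f (f (f n)) = n from hcube n] at this
  obtain ⟨d, hd⟩ := F.orbit_of_fixSet_eq Fx hy0 (F.root.far_inv F.pair F.loc huH hy0) huz
  have hmove : ∀ c, Adj x q z (coord x v t b c • z) → Adj x q z (coord x v t b (f c) • z) := by
    intro c hc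
    have h1 := hc.smul (v * x)
    rw [show (v * x) • coord x v t b c • z = coord x v t b (f c) • (v * x) • z by
      rw [← mul_smul, ← mul_smul, hu, inv_mul_cancel_right], hd, ← mul_smul,
      F.pair.comm_two F.loc (F.coord_mem (f c)) (F.coord_mem d), mul_smul] at h1
    exact (adj_smul_iff _).1 h1
  have h1 := hmove c hadj'
  have h2 := hmove _ h1
  have h3 := h1.smul (coord x v t b c)
  rw [← mul_smul, ← F.coord_xor, (xor_facts (f c) c).2.2.1] at h3
  rw [show f (f c) = f c ^^^ c from (test_sum c).symm] at h2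
  exact F.root.no_triangle F.pair F.loc hadj' h2 h3

theorem adj_far (y y' : {y // Far x q y}) (h : Adj x q y.1 y'.1) :
    (F.index Fx y).val / 4 ≠ (F.index Fx y').val / 4 ∧
      cm (F.index Fx y).val &&& cm (F.index Fx y').val = 0 := by
  refine ⟨fun e => F.not_adj_same_plane Fx y.2 y'.2 ?_ h, ?_⟩
  · ext n
    rw [F.index_fix Fx, F.index_fix Fx, show planeOf (F.index Fx y) = planeOf (F.index Fx y') from Fin.ext e]
  · refine Nat.eq_of_testBit_eq fun i => ?_
    rw [Nat.testBit_and, Nat.zero_testBit, Bool.and_eq_false_iff]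
    by_cases hi : i < 16
    · by_contra hno
      simp only [not_or, Bool.not_eq_false] at hno
      have h1 := mem_nearSet.1 ((F.index_near Fx y ⟨i, hi⟩).2 hno.1)
      have h2 := mem_nearSet.1 ((F.index_near Fx y' ⟨i, hi⟩).2 hno.2)
      exact F.root.no_triangle F.pair F.loc h1 h2 h
    · exact Or.inl (Nat.testBit_eq_false_of_lt ((cm_lt _).trans_le
        (Nat.pow_le_pow_right (by norm_num) (by omega))))

theorem adj_far_iff (y y' : {y // Far x q y}) :
    Adj x q y.1 y'.1 ↔ (F.index Fx y).val / 4 ≠ (F.index Fx y').val / 4 ∧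
      cm (F.index Fx y).val &&& cm (F.index Fx y').val = 0 := by
  classical
  refine ⟨F.adj_far Fx y y', fun h => ?_⟩
  haveI := Fintype.ofFinite G
  haveI : Fintype (G ⧸ normTwo x) := Fintype.ofFinite _
  set N := Finset.univ.filter fun z : {z // Far x q z} => Adj x q y.1 z.1 with hN
  have hN12 : N.card = 12 := by
    have hall : Nat.card {p // Adj x q y.1 p} =
        Nat.card {p // Near x q p ∧ Adj x q p y.1} + N.card := by
      rw [← Nat.card_eq_finsetCard, ← Nat.card_sum]
      refine Nat.card_congr (Equiv.ofBijective (fun p : {p // Adj x q y.1 p} =>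
        if hp : Near x q p.1 then Sum.inl ⟨p.1, hp, F.root.adj_symm F.pair F.loc p.2⟩
        else Sum.inr ⟨⟨p.1, fun hb => F.root.not_adj_base_far F.pair F.loc y.2 (hb ▸
          F.root.adj_symm F.pair F.loc p.2), hp⟩, Finset.mem_filter.2 ⟨Finset.mem_univ _, p.2⟩⟩)
        ⟨fun p p' e => ?_, ?_⟩)
      · dsimp only at e
        split_ifs at e with h1 h2 h2
        · simp only [Sum.inl.injEq, Subtype.mk.injEq] at e
          exact Subtype.ext e
        · simp only [Sum.inr.injEq, Subtype.mk.injEq] at e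
          exact Subtype.ext (congrArg (fun s : {z // Far x q z} => s.1) e)
      · rintro (⟨p, hp, hp'⟩ | ⟨⟨p, hp⟩, hp'⟩)
        · exact ⟨⟨p, F.root.adj_symm F.pair F.loc hp'⟩, dif_pos hp⟩
        · exact ⟨⟨p, (Finset.mem_filter.1 hp').2⟩, dif_neg hp.2⟩
    rw [F.root.card_nbrs F.pair F.loc, F.root.card_mu F.pair F.loc y.2] at hall
    omega
  have heq := Finset.eq_of_subset_of_card_le
    (s := N.image (F.index Fx))
    (t := Finset.univ.filter fun k' : Fin 60 => (F.index Fx y).val / 4 ≠ k'.val / 4 ∧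
      cm (F.index Fx y).val &&& cm k'.val = 0) (fun k hk => by
      obtain ⟨z, hz, rfl⟩ := Finset.mem_image.1 hk
      exact Finset.mem_filter.2 ⟨Finset.mem_univ _, F.adj_far Fx y z (Finset.mem_filter.1 hz).2⟩)
    (by rw [card_candidates, Finset.card_image_of_injective _ (F.index_bijective Fx).1, hN12])
  have hmem : F.index Fx y' ∈ N.image (F.index Fx) := by
    rw [heq]
    exact Finset.mem_filter.2 ⟨Finset.mem_univ _, h⟩
  obtain ⟨z, hz, hz'⟩ := Finset.mem_image.1 hmem
  obtain rfl := (F.index_bijective Fx).1 hz'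
  exact (Finset.mem_filter.1 hz).2

/-- The graph of the conjugates is the model graph. -/
theorem exists_iso : ∃ f : Fin 77 ≃ G ⧸ normTwo x, ∀ i j, Adj x q (f i) (f j) ↔ adj0 i j = true := by
  classical
  let e := Equiv.ofBijective (F.index Fx) (F.index_bijective Fx)
  let pt : Fin 77 → G ⧸ normTwo x := fun i =>
    if i.val = 0 then base x
    else if h : i.val ≤ 16 then coord x v t b ⟨i.val - 1, by omega⟩ • q
    else (e.symm ⟨i.val - 17, by omega⟩).1
  have hsort : ∀ i : Fin 77, (i.val = 0 ∧ pt i = base x) ∨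
      (∃ n : Fin 16, i.val = n.val + 1 ∧ pt i = coord x v t b n • q) ∨
      ∃ y : {y // Far x q y}, i.val = (F.index Fx y).val + 17 ∧ pt i = y.1 := by
    intro i
    by_cases h0 : i.val = 0
    · exact Or.inl ⟨h0, if_pos h0⟩
    by_cases h : i.val ≤ 16
    · exact Or.inr (Or.inl ⟨⟨i.val - 1, by omega⟩, by show i.val = i.val - 1 + 1; omega,
        (if_neg h0).trans (dif_pos h)⟩)
    · refine Or.inr (Or.inr ⟨e.symm ⟨i.val - 17, by omega⟩, ?_, (if_neg h0).trans (dif_neg h)⟩)
      rw [show F.index Fx (e.symm ⟨i.val - 17, by omega⟩) = ⟨i.val - 17, by omega⟩ from e.apply_symm_apply _]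
      show i.val = i.val - 17 + 17
      omega
  have hnear : ∀ n, Near x q (coord x v t b n • q) := fun n => ⟨_, F.coord_mem n, rfl⟩
  have hinj : Function.Injective pt := by
    intro i j hij
    rcases hsort i with ⟨a, ha⟩ | ⟨n, a, ha⟩ | ⟨y, a, ha⟩ <;>
      rcases hsort j with ⟨b', hb⟩ | ⟨m, b', hb⟩ | ⟨z, b', hb⟩ <;> rw [ha, hb] at hij
    · exact Fin.ext (a.trans b'.symm)
    · exact absurd hij.symm (F.root.near_ne F.pair F.loc (hnear m))
    · exact absurd hij.symm z.2.1
    · exact absurd hij (F.root.near_ne F.pair F.loc (hnear n))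
    · have : n = m := F.coord_injective (inv_mul_eq_one.1 (F.root.free _
        (mul_mem (inv_mem (F.coord_mem m)) (F.coord_mem n)) (by rw [mul_smul, hij, inv_smul_smul]))).symm
      exact Fin.ext (by rw [a, b', this])
    · exact absurd (hij ▸ hnear n) z.2.2
    · exact absurd hij y.2.1
    · exact absurd (hij.symm ▸ hnear m) y.2.2
    · exact Fin.ext (by rw [a, b', Subtype.ext hij])
  have hbij := (Nat.bijective_iff_injective_and_card pt).2
    ⟨hinj, by rw [Nat.card_fin, F.pair.card_points F.loc]⟩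
  refine ⟨Equiv.ofBijective pt hbij, fun i j => ?_⟩
  show Adj x q (pt i) (pt j) ↔ _
  have hsymm := F.root.adj_comm F.pair F.loc (p := pt i) (p' := pt j)
  rcases hsort i with ⟨a, ha⟩ | ⟨n, a, ha⟩ | ⟨y, a, ha⟩ <;>
    rcases hsort j with ⟨b', hb⟩ | ⟨m, b', hb⟩ | ⟨z, b', hb⟩
  · rw [ha, hb]
    simp [adj0, a, b', F.root.adj_irrefl (base x)]
  · rw [ha, hb]
    simp [adj0, a, b', F.root.adj_base F.pair F.loc, hnear m, m.isLt]
  · rw [ha, hb]
    simp [adj0, a, b', F.root.not_adj_base_far F.pair F.loc z.2]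
  · rw [hsymm, ha, hb]
    simp [adj0, a, b', F.root.adj_base F.pair F.loc, hnear n, n.isLt]
  · rw [ha, hb]
    simp [adj0, a, b', F.root.not_adj_near F.pair F.loc (hnear n) (hnear m),
      show n.val + 1 ≤ 16 from n.isLt, show ¬ 16 ≤ m.val from not_le.2 m.isLt]
  · rw [ha, hb, ← mem_nearSet, F.index_near Fx]
    simp [adj0, a, b', inCoset, show n.val + 1 ≤ 16 from n.isLt]
  · rw [hsymm, ha, hb]
    simp [adj0, a, b', F.root.not_adj_base_far F.pair F.loc y.2]
  · rw [hsymm, ha, hb, ← mem_nearSet, F.index_near Fx]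
    simp [adj0, a, b', inCoset, show m.val + 1 ≤ 16 from m.isLt]
  · rw [ha, hb, F.adj_far_iff Fx]
    simp [adj0, a, b']

end Frame

/-- A simple group of order 443520 embeds into the automorphisms of the model graph. -/
theorem exists_embedding {G : Type u} [Group G] [Fintype G] (hG : IsM22 G) :
    ∃ φ : G →* Equiv.Perm (Fin 77), Function.Injective φ ∧ φ.range ≤ autGraph := by
  have L := loc hG
  obtain ⟨x, v, P⟩ := L.exists_some_pair
  have Fx := fix_data hG P
  obtain ⟨q, R⟩ := P.exists_root L Fx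
  obtain ⟨t, ht, ht1⟩ := L.exists_four_ne_one P.ox
  obtain ⟨b, hb, hb1⟩ := L.exists_four_ne_one P.ov
  have F : Frame x v t b q := ⟨L, P, R, ht, ht1, hb, hb1⟩
  obtain ⟨f, hf⟩ := F.exists_iso Fx
  let φ : G →* Equiv.Perm (Fin 77) :=
    f.symm.permCongrHom.toMonoidHom.comp (MulAction.toPermHom G (G ⧸ normTwo x))
  have hφ : ∀ g i, f (φ g i) = g • f i := fun g i => f.apply_symm_apply _
  refine ⟨φ, ?_, ?_⟩
  · haveI := hG.1
    rw [← MonoidHom.ker_eq_bot_iff]
    refine (φ.normal_ker.eq_bot_or_eq_top).resolve_right fun htop => R.ne ?_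
    obtain ⟨g, hg⟩ := R.exists_smul_base P L q
    have hg1 : φ g = 1 := (MonoidHom.mem_ker).1 (htop ▸ Subgroup.mem_top g)
    rw [← hg]
    have := hφ g (f.symm (base x))
    rw [hg1, Equiv.Perm.one_apply, Equiv.apply_symm_apply] at this
    exact this.symm
  · rintro _ ⟨g, rfl⟩
    refine mem_autGraph.2 fun i j => ?_
    rw [Bool.eq_iff_iff, ← hf, ← hf, hφ, hφ]
    exact adj_smul_iff g

end Cfsg.Lib.MTwentyTwo
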