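import Cfsg.Agent.Lib.MTwentyTwo.Basic

/-!
# Bookkeeping for a signed family: the list functions as sums over the principal block
-/

set_option autoImplicit false
set_option linter.style.haveILetI false
set_option linter.unusedSectionVars false

namespace Cfsg.Lib.MTwentyTwo

open Cfsg Cfsg.Lib

universe u

variable {G : Type u} [Group G] [Fintype G] {p : ℕ} [Fact p.Prime]

/-- A listing of the members of the family. -/
structure Lst (D : Dat G p) where
  /-- the list -/
  L : List (IrrCharacter G)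
  nodup : L.Nodup
  mem : ∀ χ, χ ∈ L ↔ χ ∈ D.S.Z

namespace Lst

variable {D : Dat G p} (l : Lst D)

/-- The slots. -/
noncomputable def slots : List Slot := l.L.map D.slot

/-- The values at an element. -/
noncomputable def vals (z : G) : List ℤ := l.L.map (intVal z)

/-- The signed weighted square sum of the values. -/
noncomputable def T (D : Dat G p) (z : G) : ℂ :=
  ∑ χ ∈ D.S.Z, (D.S.σ χ : ℂ) * ((intVal z χ : ℂ) * (intVal z χ : ℂ) / (deg χ : ℂ))

theorem sum_L {M : Type*} [AddCommMonoid M] (f : IrrCharacter G → M) :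
    (l.L.map f).sum = ∑ χ ∈ D.S.Z, f χ := by
  classical
  rw [← List.sum_toFinset f l.nodup]
  exact Finset.sum_congr (by ext χ; rw [List.mem_toFinset, l.mem]) fun _ _ => rfl

/-- The characters of the principal block. -/
noncomputable def B (D : Dat G p) : Finset (IrrCharacter G) :=
  open Classical in D.S.X ∪ D.S.Y

theorem mem_B {χ : IrrCharacter G} : χ ∈ B D ↔ χ ∈ D.S.X ∨ χ ∈ D.S.Y := by
  classical
  exact Finset.mem_union

include l in
theorem sum_B {M : Type*} [AddCommMonoid M] (f : IrrCharacter G → M)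
    (hf : ∀ θ' ∈ D.S.Y, f θ' = f D.S.θ) :
    ∑ χ ∈ B D, f χ = (l.L.map fun χ => D.mult χ • f χ).sum := by
  classical
  rw [l.sum_L, D.sum_Z, D.mult_θ,
    Finset.sum_congr (rfl : D.S.X = D.S.X) (f := fun χ => D.mult χ • f χ) (g := f)
      fun χ h => by rw [D.mult_of_mem_X h, one_smul],
    B, Finset.sum_union D.S.disj, Finset.sum_congr (rfl : D.S.Y = D.S.Y) hf, Finset.sum_const,
    D.S.card_Y, add_comm]

theorem mem_B_of_mem_L {χ : IrrCharacter G} (h : χ ∈ l.L) : χ ∈ B D := by
  rw [mem_B]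
  rcases D.S.mem_Z.1 ((l.mem χ).1 h) with rfl | h
  · exact Or.inr D.S.θ_mem
  · exact Or.inl h

theorem intVal_Y {θ' : IrrCharacter G} (h : θ' ∈ D.S.Y) {z : G} (hz : z ^ 2 = 1)
    (hzp : ¬ p ∣ orderOf z) : intVal z θ' = intVal z D.S.θ :=
  intVal_eq (by rw [cast_intVal D.S.θ hz, D.S.agree θ' h z hzp])

theorem exists_rep {χ : IrrCharacter G} (h : χ ∈ B D) : ∃ χ' ∈ l.L, deg χ' = deg χ ∧
    ∀ {z : G}, z ^ 2 = 1 → ¬ p ∣ orderOf z → intVal z χ' = intVal z χ := by
  rcases mem_B.1 h with h | h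
  · exact ⟨χ, (l.mem χ).2 (D.S.mem_Z.2 (Or.inr h)), rfl, fun _ _ => rfl⟩
  · exact ⟨D.S.θ, (l.mem _).2 (D.S.mem_Z.2 (Or.inl rfl)), (D.deg_Y h).symm,
      fun hz hzp => (intVal_Y h hz hzp).symm⟩

theorem mem_slots {x : Slot} (h : x ∈ l.slots) : ∃ χ ∈ l.L, D.slot χ = x := List.mem_map.1 h

theorem slot_sign {x : Slot} (h : x ∈ l.slots) : x.s = 1 ∨ x.s = -1 := by
  obtain ⟨χ, hχ, rfl⟩ := l.mem_slots h
  exact D.S.sign χ ((l.mem χ).1 hχ)

theorem one_le_mult (χ : IrrCharacter G) : 1 ≤ D.mult χ := by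
  rw [Dat.mult]
  split_ifs
  · exact D.div_pos
  · exact le_rfl

theorem slot_mult {x : Slot} (h : x ∈ l.slots) : 1 ≤ x.m := by
  obtain ⟨χ, -, rfl⟩ := l.mem_slots h
  exact one_le_mult χ

theorem slot_deg {x : Slot} (h : x ∈ l.slots) : x.d ≠ 0 := by
  obtain ⟨χ, -, rfl⟩ := l.mem_slots h
  exact (Block.charDegree_pos χ).ne'

theorem cnt_map (L : List (IrrCharacter G)) (d : ℕ) :
    cnt (L.map D.slot) d = (L.map fun χ => D.mult χ • (if deg χ = d then 1 else 0)).sum := by
  induction L with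
  | nil => rfl
  | cons a L ih =>
    simp only [List.map_cons, cnt, List.sum_cons, ih, Dat.slot, smul_eq_mul]
    split_ifs <;> simp

theorem cnt_slots (d : ℕ) : cnt l.slots d = ((B D).filter fun χ => deg χ = d).card := by
  rw [slots, cnt_map, ← l.sum_B (fun χ => if deg χ = d then 1 else 0)
    (fun θ' h => by simp [D.deg_Y h]), Finset.sum_boole]
  simp

theorem sqSum_slots : sqSum l.slots = ∑ χ ∈ B D, deg χ ^ 2 := by
  rw [l.sum_B (fun χ => deg χ ^ 2) (fun θ' h => by rw [D.deg_Y h]), slots]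
  generalize l.L = L
  induction L with
  | nil => rfl
  | cons a L ih => simp only [List.map_cons, sqSum, List.sum_cons, ih, Dat.slot, smul_eq_mul]; ring

theorem extSq_slots (q : ℕ) : extSq q l.slots =
    ∑ χ ∈ (B D).filter (fun χ => deg χ % 11 = 0 ∧ deg χ % q = 0), deg χ ^ 2 := by
  rw [Finset.sum_filter, l.sum_B (fun χ => if deg χ % 11 = 0 ∧ deg χ % q = 0 then deg χ ^ 2 else 0)
    (fun θ' h => by rw [D.deg_Y h]), slots]
  generalize l.L = L
  induction L with
  | nil => rfl
  | cons a L ih =>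
    simp only [List.map_cons, extSq, List.sum_cons, ih, Dat.slot, smul_eq_mul]
    split_ifs <;> ring

variable {z : G} (hz : z ^ 2 = 1) (hzp : ¬ p ∣ orderOf z)
include hz hzp

theorem valSq_slots : valSq l.slots (l.vals z) = ∑ χ ∈ B D, intVal z χ * intVal z χ := by
  rw [l.sum_B (fun χ => intVal z χ * intVal z χ) (fun θ' h => by rw [intVal_Y h hz hzp]), slots,
    vals]
  generalize l.L = L
  induction L with
  | nil => rfl
  | cons a L ih => simp only [List.map_cons, valSq, List.sum_cons, ih, Dat.slot, nsmul_eq_mul]; ring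

theorem addSq_slots (cand : Slot → List ℤ) (P : ℕ → Bool) :
    addSq (l.slots.map fun x => ⟨x, cand x, P x.d⟩) (l.vals z) =
      ∑ χ ∈ (B D).filter (fun χ => P (deg χ) = true), intVal z χ * intVal z χ := by
  rw [Finset.sum_filter, l.sum_B (fun χ => if P (deg χ) = true then intVal z χ * intVal z χ else 0)
    (fun θ' h => by rw [intVal_Y h hz hzp, D.deg_Y h]), slots, vals]
  generalize l.L = L
  induction L with
  | nil => rfl
  | cons a L ih =>
    simp only [List.map_cons, addSq, List.sum_cons, ih, Dat.slot, nsmul_eq_mul]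
    split_ifs <;> ring

theorem wSum_slots (P : ℕ → Bool) : wSum P l.slots (l.vals z) =
    ∑ χ ∈ (B D).filter (fun χ => P (deg χ) = true), (deg χ : ℤ) * intVal z χ := by
  rw [Finset.sum_filter, l.sum_B (fun χ => if P (deg χ) = true then (deg χ : ℤ) * intVal z χ else 0)
    (fun θ' h => by rw [intVal_Y h hz hzp, D.deg_Y h]), slots, vals]
  generalize l.L = L
  induction L with
  | nil => rfl
  | cons a L ih =>
    simp only [List.map_cons, wSum, List.sum_cons, ih, Dat.slot, nsmul_eq_mul]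
    split_ifs <;> ring

theorem linSum_slots : linSum l.slots (l.vals z) = 0 := by
  have e : linSum l.slots (l.vals z) = (l.L.map fun χ => D.S.σ χ * intVal z χ).sum := by
    rw [slots, vals]
    generalize l.L = L
    induction L with
    | nil => rfl
    | cons a L ih => simp only [List.map_cons, linSum, List.sum_cons, ih, Dat.slot]
  rw [e, l.sum_L]
  have h := D.S.rel z hzp
  rw [Finset.sum_congr rfl fun χ _ => by rw [← cast_intVal χ hz]] at h
  exact_mod_cast h

omit hzp in
theorem zipWith_eq :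
    (List.zipWith (fun (x : Slot) (v : ℤ) => (x.s : ℂ) * (v : ℂ) * (v : ℂ) / (x.d : ℂ)) l.slots
      (l.vals z)).sum = T D z := by
  have _ := hz
  rw [T, ← l.sum_L, slots, vals]
  generalize l.L = L
  induction L with
  | nil => rfl
  | cons a L ih =>
    simp only [List.map_cons, List.zipWith_cons_cons, List.sum_cons, ih, Dat.slot]
    ring

omit hzp in
theorem frac_slots : (frac l.slots (l.vals z)).2 ≠ 0 ∧
    ((frac l.slots (l.vals z)).1 : ℂ) = ((frac l.slots (l.vals z)).2 : ℂ) * T D z := by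
  obtain ⟨h1, h2⟩ := frac_spec l.slots (l.vals z) fun x hx => l.slot_deg hx
  exact ⟨h1, by rw [h2, l.zipWith_eq hz]⟩

omit hzp in
theorem qSum_slots : (qSum (degLcm l.slots) l.slots (l.vals z) : ℂ) =
    (degLcm l.slots : ℂ) * T D z := by
  have key : ∀ (Λ : ℕ) (L : List (IrrCharacter G)), (∀ χ ∈ L, deg χ ∣ Λ) →
      (qSum Λ (L.map D.slot) (L.map (intVal z)) : ℂ) = (Λ : ℂ) *
        (List.zipWith (fun (x : Slot) (v : ℤ) => (x.s : ℂ) * (v : ℂ) * (v : ℂ) / (x.d : ℂ))
          (L.map D.slot) (L.map (intVal z))).sum := by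
    intro Λ L
    induction L with
    | nil => intro; simp [qSum]
    | cons a L ih =>
      intro hd
      have hd0 : (deg a : ℂ) ≠ 0 := Nat.cast_ne_zero.2 (Block.charDegree_pos a).ne'
      simp only [List.map_cons, qSum, List.zipWith_cons_cons, List.sum_cons, Int.cast_add, Int.cast_mul,
        ih fun χ hχ => hd χ (List.mem_cons_of_mem _ hχ), Dat.slot, Int.cast_natCast,
        Nat.cast_div (hd a List.mem_cons_self) hd0]
      ring
  rw [← l.zipWith_eq hz, slots, vals]
  exact key _ l.L fun χ hχ => dvd_degLcm (List.mem_map_of_mem (f := D.slot) hχ)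

theorem mem_valsOf_slots {χ : IrrCharacter G} (h : χ ∈ B D) :
    intVal z χ ∈ valsOf l.slots (l.vals z) (deg χ) := by
  obtain ⟨χ', hL, hd, hv⟩ := l.exists_rep h
  rw [← hd, ← hv hz hzp]
  refine mem_valsOf (x := D.slot χ') ?_
  rw [slots, vals, List.zip_map']
  exact List.mem_map.2 ⟨χ', hL, rfl⟩

end Lst

end Cfsg.Lib.MTwentyTwo
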