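import Cfsg.Agent.Lib.MTwentyTwo.Loc

/-!
# The four-group of the centralizer of an element of order 3

For `u` of order 3 the elements of order at most 2 in `C(u)` form a four-group `four u`, on whose
nontrivial elements a Sylow 3-subgroup through `u` is transitive.
-/

set_option autoImplicit false
set_option linter.style.haveILetI false
set_option linter.unusedSectionVars false

namespace Cfsg.Lib.MTwentyTwo

open Cfsg Cfsg.Lib

universe u

variable {G : Type u} [Group G] [Finite G]

/-- The subgroup generated by the elements of order at most 2 commuting with `x`. -/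
def four (x : G) : Subgroup G := Subgroup.closure {g | g * x = x * g ∧ g ^ 2 = 1}

theorem card_zpowers_three {x : G} (hx : orderOf x = 3) : Nat.card (Subgroup.zpowers x) = 3 := by
  rw [Nat.card_zpowers, hx]

theorem mem_zpowers_three {x g : G} (hx : orderOf x = 3) (hg : g ∈ Subgroup.zpowers x) :
    g = 1 ∨ g = x ∨ g = x⁻¹ := by
  obtain ⟨n, rfl⟩ := mem_powers_iff_mem_zpowers.2 hg
  have h3 : x ^ 3 = 1 := hx ▸ pow_orderOf_eq_one x
  show x ^ n = 1 ∨ x ^ n = x ∨ x ^ n = x⁻¹
  rw [← pow_mod_orderOf x n, hx]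
  rcases (by omega : n % 3 = 0 ∨ n % 3 = 1 ∨ n % 3 = 2) with h | h | h <;> rw [h]
  · exact Or.inl (pow_zero x)
  · exact Or.inr (Or.inl (pow_one x))
  · exact Or.inr (Or.inr (eq_inv_of_mul_eq_one_left (by rw [← pow_succ, h3])))

theorem not_mem_zpowers_symm {a b : G} (ha : orderOf a = 3) (hb : orderOf b = 3)
    (h : b ∉ Subgroup.zpowers a) : a ∉ Subgroup.zpowers b := fun h' => h (by
  have e : Subgroup.zpowers a = Subgroup.zpowers b :=
    Subgroup.eq_of_le_of_card_ge (Subgroup.zpowers_le.2 h')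
      (by rw [card_zpowers_three ha, card_zpowers_three hb])
  rw [e]; exact Subgroup.mem_zpowers b)

namespace Loc

variable (L : Loc G)
include L

theorem card_sylow_three [Fact (Nat.Prime 3)] (P : Sylow 3 G) : Nat.card (P : Subgroup G) = 9 := by
  rw [Small.card_sylow 2 49280 (by rw [L.card]; norm_num) (by norm_num) P]; norm_num

theorem pow_three_of_mem [Fact (Nat.Prime 3)] (P : Sylow 3 G) {g : G} (hg : g ∈ (P : Subgroup G)) :
    g ^ 3 = 1 := by
  have h : orderOf g ∣ 3 ^ 2 := by
    have := Subgroup.orderOf_dvd_natCard _ hg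
    rwa [L.card_sylow_three P] at this
  obtain ⟨k, hk, hk'⟩ := (Nat.dvd_prime_pow Nat.prime_three).1 h
  refine orderOf_dvd_iff_pow_eq_one.1 ?_
  interval_cases k
  · simp [hk']
  · simp [hk']
  · exact absurd (by rw [hk']; norm_num) (L.no_nine g)

theorem commute_of_mem [Fact (Nat.Prime 3)] (P : Sylow 3 G) {g h : G} (hg : g ∈ (P : Subgroup G))
    (hh : h ∈ (P : Subgroup G)) : g * h = h * g := by
  have hcomm := @IsPGroup.commutative_of_card_eq_prime_sq 3 (P : Subgroup G) _ _
    (by rw [L.card_sylow_three P]; norm_num)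
  exact congrArg Subtype.val (hcomm ⟨g, hg⟩ ⟨h, hh⟩)

theorem exists_partner {x : G} (hx : orderOf x = 3) :
    ∃ w : G, orderOf w = 3 ∧ x * w = w * x ∧ w ∉ Subgroup.zpowers x := by
  haveI : Fact (Nat.Prime 3) := ⟨Nat.prime_three⟩
  obtain ⟨P, hP⟩ := (IsPGroup.of_card (G := ↥(Subgroup.zpowers x)) (p := 3) (n := 1)
    (by rw [card_zpowers_three hx, pow_one])).exists_le_sylow
  have hlt : Subgroup.zpowers x ≠ (P : Subgroup G) := fun e => by
    have := L.card_sylow_three P
    rw [← e, card_zpowers_three hx] at this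
    omega
  obtain ⟨w, hwP, hw⟩ := SetLike.exists_of_lt (lt_of_le_of_ne hP hlt)
  exact ⟨w, orderOf_eq_prime_of_pow Nat.prime_three (L.pow_three_of_mem P hwP)
    (fun e => hw (e ▸ one_mem _)), L.commute_of_mem P (hP (Subgroup.mem_zpowers x)) hwP, hw⟩

/-- An involution does not centralize an elementary group of order 9. -/
theorem no_nine_commute {t a b : G} (ht : orderOf t = 2) (ha : orderOf a = 3) (hb : orderOf b = 3)
    (hab : a * b = b * a) (hne : b ∉ Subgroup.zpowers a) (hta : a * t = t * a)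
    (htb : b * t = t * b) : False := by
  haveI : Fact (Nat.Prime 3) := ⟨Nat.prime_three⟩
  set H := Subgroup.closure ({a, b} : Set G)
  have hH : H ≤ Subgroup.centralizer ({t} : Set G) := (Subgroup.closure_le _).2 (by
    rintro g (rfl | rfl)
    · exact mem_cent.2 hta
    · exact mem_cent.2 htb)
  have hHb : H ≤ Subgroup.centralizer ({a} : Set G) := (Subgroup.closure_le _).2 (by
    rintro g (rfl | rfl)
    · exact mem_cent.2 rfl
    · exact mem_cent.2 hab.symm)
  obtain ⟨k, hk⟩ : ∃ k, Nat.card H = k := ⟨_, rfl⟩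
  have h1 : k ∣ 384 := hk ▸ L.cent_two t ht ▸ Subgroup.card_dvd_of_le hH
  have h2 : k ∣ 36 := hk ▸ L.cent_three a ha ▸ Subgroup.card_dvd_of_le hHb
  obtain ⟨Q⟩ : Nonempty (Sylow 3 H) := inferInstance
  set ZA := (Subgroup.zpowers a).subgroupOf H with hZA
  have haH : a ∈ H := Subgroup.subset_closure (Set.mem_insert _ _)
  have hbH : b ∈ H := Subgroup.subset_closure (Set.mem_insert_of_mem _ rfl)
  haveI : ZA.Normal := ⟨fun v hv g => by
    rw [hZA, Subgroup.mem_subgroupOf] at hv ⊢
    have hc : Commute (g : G) (v : G) := by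
      obtain ⟨i, hi⟩ := Subgroup.mem_zpowers_iff.1 hv
      exact hi ▸ ((show Commute (g : G) a from mem_cent.1 (hHb g.2)).zpow_right i)
    rw [Subgroup.coe_mul, Subgroup.coe_mul, hc.eq, InvMemClass.coe_inv, mul_inv_cancel_right]
    exact hv⟩
  have hZ3 : Nat.card ZA = 3 := by
    rw [hZA, Nat.card_congr (Subgroup.subgroupOfEquivOfLe (Subgroup.zpowers_le.2 haH)).toEquiv,
      card_zpowers_three ha]
  have hq : ((⟨b, hbH⟩ : H) : H ⧸ ZA) ≠ 1 := fun e =>
    hne (Subgroup.mem_subgroupOf.1 ((QuotientGroup.eq_one_iff (⟨b, hbH⟩ : H)).1 e))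
  have hq3 : orderOf ((⟨b, hbH⟩ : H) : H ⧸ ZA) = 3 := by
    refine orderOf_eq_prime_of_pow Nat.prime_three ?_ hq
    rw [← QuotientGroup.mk_pow, show (⟨b, hbH⟩ : H) ^ 3 = 1 from
      Subtype.ext (show b ^ 3 = 1 from hb ▸ pow_orderOf_eq_one b), QuotientGroup.mk_one]
  have h9 : 9 ∣ Nat.card H := by
    have hdvd : 3 ∣ Nat.card (H ⧸ ZA) := hq3 ▸ orderOf_dvd_natCard _
    have hcard := Subgroup.card_eq_card_quotient_mul_card_subgroup ZA
    rw [hcard, hZ3]
    exact Nat.mul_dvd_mul_right hdvd 3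
  have : 9 ∣ 384 := (hk ▸ h9).trans h1
  norm_num at this

/-- The structure of the centralizer of an element of order 3. -/
theorem four_aux {x : G} (hx : orderOf x = 3) : ∃ T : Subgroup G, Nat.card T = 4 ∧
    (∀ g ∈ T, g * x = x * g ∧ g ^ 2 = 1) ∧ (∀ g, g * x = x * g → g ^ 4 = 1 → g ∈ T) := by
  classical
  haveI := Fintype.ofFinite G
  haveI : Fact (Nat.Prime 3) := ⟨Nat.prime_three⟩
  haveI : Fact (Nat.Prime 2) := ⟨Nat.prime_two⟩
  have hx3 : x ^ 3 = 1 := hx ▸ pow_orderOf_eq_one x
  set K := Subgroup.centralizer ({x} : Set G) with hK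
  have hK36 : Nat.card K = 3 ^ 2 * 4 := L.cent_three x hx
  have hK36' : Nat.card K = 2 ^ 2 * 9 := L.cent_three x hx
  set xK : K := ⟨x, mem_cent.2 rfl⟩
  have hcent : ∀ g : K, g * xK = xK * g := fun g => Subtype.ext (mem_cent.1 g.2)
  -- the Sylow 3-subgroups
  have hQ9 : ∀ Q : Sylow 3 K, Nat.card (Q : Subgroup K) = 9 := fun Q => by
    rw [Small.card_sylow 2 4 hK36 (by norm_num) Q]; norm_num
  have hQsylow : ∀ Q : Sylow 3 K, ∃ P : Sylow 3 G,
      (P : Subgroup G) = (Q : Subgroup K).map K.subtype := fun Q => by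
    obtain ⟨P, hP⟩ := (IsPGroup.of_card (G := ↥((Q : Subgroup K).map K.subtype)) (p := 3) (n := 2)
      (by rw [Subgroup.card_map_of_injective K.subtype_injective, hQ9]; norm_num)).exists_le_sylow
    exact ⟨P, (Subgroup.eq_of_le_of_card_ge hP (by
      rw [Subgroup.card_map_of_injective K.subtype_injective, hQ9, L.card_sylow_three])).symm⟩
  have hxQ : ∀ Q : Sylow 3 K, xK ∈ (Q : Subgroup K) := fun Q => by
    haveI : (Subgroup.zpowers xK).Normal := ⟨fun v hv g => by
      obtain ⟨i, hi⟩ := Subgroup.mem_zpowers_iff.1 hv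
      have hc : Commute g v := hi ▸ ((show Commute g xK from hcent g).zpow_right i)
      rw [hc.eq, mul_inv_cancel_right]; exact hv⟩
    have hpg : IsPGroup 3 ↥(Subgroup.zpowers xK ⊔ (Q : Subgroup K)) :=
      IsPGroup.to_sup_of_normal_left (IsPGroup.of_card (n := 1)
        (by rw [Nat.card_zpowers, ← Subgroup.orderOf_coe, hx, pow_one])) Q.2
    have := Q.3 hpg le_sup_right
    exact this ▸ Subgroup.mem_sup_left (Subgroup.mem_zpowers xK)
  have hno : ∀ (Q : Sylow 3 K) (τ w : K), orderOf τ = 2 → w ∈ (Q : Subgroup K) →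
      w ∉ Subgroup.zpowers xK → τ * w = w * τ → False := by
    intro Q τ w hτ hw hwx hc
    obtain ⟨P, hP⟩ := hQsylow Q
    have hwP : (w : G) ∈ (P : Subgroup G) := hP ▸ ⟨w, hw, rfl⟩
    have hw1 : (w : G) ≠ 1 := fun e => hwx (by
      rw [show w = 1 from Subtype.ext e]; exact one_mem _)
    refine L.no_nine_commute (t := (τ : G)) (a := x) (b := (w : G)) (by rw [Subgroup.orderOf_coe, hτ])
      hx (orderOf_eq_prime_of_pow Nat.prime_three (L.pow_three_of_mem P hwP) hw1)
      (mem_cent.1 w.2).symm (fun h => hwx ?_) (mem_cent.1 τ.2).symm (congrArg Subtype.val hc).symm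
    obtain ⟨i, hi⟩ := Subgroup.mem_zpowers_iff.1 h
    exact Subgroup.mem_zpowers_iff.2 ⟨i, Subtype.ext (by rw [SubgroupClass.coe_zpow]; exact hi)⟩
  have hzK : Nat.card (Subgroup.zpowers xK) = 3 := by
    rw [Nat.card_zpowers, ← Subgroup.orderOf_coe, hx]
  obtain ⟨S⟩ : Nonempty (Sylow 2 K) := inferInstance
  have hS4 : Nat.card (S : Subgroup K) = 4 := by
    rw [Small.card_sylow 2 9 hK36' (by norm_num) S]; norm_num
  obtain ⟨hn, hn1⟩ := Small.sylow_facts (G := K) (p := 3) 2 4 hK36 (by norm_num)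
  have hn14 : Nat.card (Sylow 3 K) = 1 ∨ Nat.card (Sylow 3 K) = 4 := by
    have := Nat.le_of_dvd (by norm_num) hn
    interval_cases Nat.card (Sylow 3 K) <;> simp_all
  have hfinQ : ∀ Q : Sylow 3 K, (Finset.univ.filter fun g : K => g ∈ (Q : Subgroup K) ∧
      g ∉ Subgroup.zpowers xK).card = 6 := fun Q => by
    rw [Finset.filter_and_not, Finset.card_sdiff]
    have e1 : (Finset.univ.filter fun g : K => g ∈ (Q : Subgroup K)).card = 9 := by
      rw [← Fintype.card_subtype, ← Nat.card_eq_fintype_card]; exact hQ9 Q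
    have e2 : (Finset.univ.filter fun g : K => g ∈ Subgroup.zpowers xK).card = 3 := by
      rw [← Fintype.card_subtype, ← Nat.card_eq_fintype_card]; exact hzK
    rw [Finset.inter_eq_left.2, e1, e2]
    intro g hg
    rw [Finset.mem_filter] at hg ⊢
    exact ⟨hg.1, Subgroup.zpowers_le.2 (hxQ Q) hg.2⟩
  rcases hn14 with h1 | h4
  · -- a normal Sylow 3-subgroup is impossible
    exfalso
    haveI : Subsingleton (Sylow 3 K) := (Nat.card_eq_one_iff_unique.1 h1).1
    obtain ⟨Q⟩ : Nonempty (Sylow 3 K) := inferInstance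
    haveI : (Q : Subgroup K).Normal := Q.normal_of_subsingleton
    set F := Finset.univ.filter fun g : K => g ∈ (Q : Subgroup K) ∧ g ∉ Subgroup.zpowers xK with hF
    let orb : K → Finset K := fun w => (Finset.univ.filter (· ∈ (S : Subgroup K))).image
      fun τ => τ * w * τ⁻¹
    have hfree : ∀ w ∈ F, (orb w).card = 4 ∧ orb w ⊆ F := by
      intro w hw
      obtain ⟨hwQ, hwx⟩ := (Finset.mem_filter.1 hw).2
      refine ⟨?_, ?_⟩
      · rw [Finset.card_image_of_injOn, ← Fintype.card_subtype, ← Nat.card_eq_fintype_card]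
        · exact hS4
        intro τ hτ τ' hτ' e
        rw [Finset.coe_filter, Set.mem_setOf_eq] at hτ hτ'
        by_contra hne
        set σ := τ'⁻¹ * τ with hσ
        have hσ1 : σ ≠ 1 := fun e => hne (inv_mul_eq_one.1 e).symm
        have hσc : σ * w = w * σ := by
          have e' : τ * w * τ⁻¹ = τ' * w * τ'⁻¹ := e
          calc σ * w = τ'⁻¹ * (τ * w * τ⁻¹) * τ := by rw [hσ]; group
            _ = τ'⁻¹ * (τ' * w * τ'⁻¹) * τ := by rw [e']
            _ = w * σ := by rw [hσ]; group
        have hd : orderOf σ ∣ 2 ^ 2 := by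
          have := Subgroup.orderOf_dvd_natCard _ (mul_mem (inv_mem hτ'.2) hτ.2)
          rwa [hS4] at this
        obtain ⟨k, hk, hk'⟩ := (Nat.dvd_prime_pow Nat.prime_two).1 hd
        interval_cases k
        · exact hσ1 (orderOf_eq_one_iff.1 (by simpa using hk'))
        · exact hno Q σ w (by simpa using hk') hwQ hwx hσc
        · refine hno Q (σ ^ 2) w ?_ hwQ hwx ((show Commute σ w from hσc).pow_left 2).eq
          rw [orderOf_pow' σ (by norm_num), hk']; norm_num
      · intro v hv
        obtain ⟨τ, -, rfl⟩ := Finset.mem_image.1 hv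
        refine Finset.mem_filter.2 ⟨Finset.mem_univ _,
          (inferInstance : (Q : Subgroup K).Normal).conj_mem w hwQ τ, fun h => hwx ?_⟩
        obtain ⟨i, hi⟩ := Subgroup.mem_zpowers_iff.1 h
        refine Subgroup.mem_zpowers_iff.2 ⟨i, ?_⟩
        have hc : Commute τ (xK ^ i) := (show Commute τ xK from hcent τ).zpow_right i
        calc xK ^ i = τ⁻¹ * (xK ^ i) * τ := by rw [mul_assoc, ← hc.eq, inv_mul_cancel_left]
          _ = w := by rw [hi]; group
    have h6 : F.card = 6 := hfinQ Q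
    obtain ⟨w, hw⟩ := Finset.card_pos.1 (show 0 < F.card by omega)
    obtain ⟨h41, h42⟩ := hfree w hw
    obtain ⟨w', hw'F, hw'⟩ := Finset.exists_mem_notMem_of_card_lt_card (show (orb w).card < F.card by omega)
    obtain ⟨h41', h42'⟩ := hfree w' hw'F
    have hdisj : Disjoint (orb w) (orb w') := by
      rw [Finset.disjoint_left]
      intro v hv hv'
      obtain ⟨τ, hτ, rfl⟩ := Finset.mem_image.1 hv
      obtain ⟨τ', hτ', e⟩ := Finset.mem_image.1 hv'
      refine hw' (Finset.mem_image.2 ⟨τ'⁻¹ * τ, ?_, ?_⟩)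
      · rw [Finset.mem_filter] at hτ hτ' ⊢
        exact ⟨Finset.mem_univ _, mul_mem (inv_mem hτ'.2) hτ.2⟩
      · show τ'⁻¹ * τ * w * (τ'⁻¹ * τ)⁻¹ = w'
        calc τ'⁻¹ * τ * w * (τ'⁻¹ * τ)⁻¹ = τ'⁻¹ * (τ * w * τ⁻¹) * τ' := by group
          _ = τ'⁻¹ * (τ' * w' * τ'⁻¹) * τ' := by rw [e]
          _ = w' := by group
    have := Finset.card_le_card (Finset.union_subset h42 h42')
    rw [Finset.card_union_of_disjoint hdisj] at this
    omega
  · -- four Sylow 3-subgroups
    set A := Finset.univ.filter fun g : K => g ^ 3 = 1 with hA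
    have hA27 : 27 ≤ A.card := by
      set F := fun Q : Sylow 3 K => Finset.univ.filter fun g : K => g ∈ (Q : Subgroup K) ∧
        g ∉ Subgroup.zpowers xK
      have hd : Set.PairwiseDisjoint (↑(Finset.univ : Finset (Sylow 3 K))) F := by
        intro Q _ Q' _ hne
        rw [Function.onFun, Finset.disjoint_left]
        intro g hg hg'
        obtain ⟨-, hgQ, hgx⟩ := Finset.mem_filter.1 hg
        obtain ⟨-, hgQ', -⟩ := Finset.mem_filter.1 hg'
        apply hne
        set I := (Q : Subgroup K) ⊓ (Q' : Subgroup K)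
        have hI : Nat.card I ∣ 3 ^ 2 := by
          have := Subgroup.card_dvd_of_le (inf_le_left : I ≤ (Q : Subgroup K))
          rw [hQ9] at this
          rwa [show (3 : ℕ) ^ 2 = 9 from rfl]
        have hlt : Subgroup.zpowers xK < I :=
          lt_of_le_of_ne (Subgroup.zpowers_le.2 ⟨hxQ Q, hxQ Q'⟩) fun e => hgx (e.symm ▸ ⟨hgQ, hgQ'⟩)
        have hgt : 3 < Nat.card I := by
          by_contra h
          exact hlt.ne (Subgroup.eq_of_le_of_card_ge hlt.le (by rw [hzK]; omega))
        obtain ⟨k, hk, hk'⟩ := (Nat.dvd_prime_pow Nat.prime_three).1 hI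
        have hI9 : Nat.card I = 9 := by interval_cases k <;> omega
        refine Sylow.ext ((Subgroup.eq_of_le_of_card_ge (inf_le_left : I ≤ _) ?_).symm.trans
          (Subgroup.eq_of_le_of_card_ge (inf_le_right : I ≤ _) ?_))
        · rw [hQ9, hI9]
        · rw [hQ9, hI9]
      set Z3 := Finset.univ.filter fun g : K => g ∈ Subgroup.zpowers xK
      have hsub : (Finset.univ.biUnion F) ∪ Z3 ⊆ A := by
        intro g hg
        refine Finset.mem_filter.2 ⟨Finset.mem_univ _, ?_⟩
        have hmem : ∃ Q : Sylow 3 K, g ∈ (Q : Subgroup K) := by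
          rcases Finset.mem_union.1 hg with h | h
          · obtain ⟨Q, -, hQ⟩ := Finset.mem_biUnion.1 h
            exact ⟨Q, (Finset.mem_filter.1 hQ).2.1⟩
          · obtain ⟨Q⟩ : Nonempty (Sylow 3 K) := inferInstance
            exact ⟨Q, Subgroup.zpowers_le.2 (hxQ Q) (Finset.mem_filter.1 h).2⟩
        obtain ⟨Q, hQ⟩ := hmem
        obtain ⟨P, hP⟩ := hQsylow Q
        exact Subtype.ext (L.pow_three_of_mem P (hP ▸ ⟨g, hQ, rfl⟩))
      have hd' : Disjoint (Finset.univ.biUnion F) Z3 := Finset.disjoint_left.2 fun g h h' => by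
        obtain ⟨Q, -, hQ⟩ := Finset.mem_biUnion.1 h
        exact (Finset.mem_filter.1 hQ).2.2 (Finset.mem_filter.1 h').2
      refine le_trans (le_of_eq ?_) (Finset.card_le_card hsub)
      rw [Finset.card_union_of_disjoint hd', Finset.card_biUnion hd,
        Finset.sum_congr rfl fun Q _ => hfinQ Q, Finset.sum_const, Finset.card_univ,
        ← Nat.card_eq_fintype_card, h4, ← Fintype.card_subtype, ← Nat.card_eq_fintype_card, hzK]
      rfl
    set R := Finset.univ.filter fun g : K => g ^ 4 = 1 ∧ g ≠ 1 with hR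
    have hR3 : R.card ≤ 3 := by
      have hKc : Fintype.card K = 36 := by rw [← Nat.card_eq_fintype_card, hK36]; norm_num
      have hxc : ∀ (g : K) (i : ℕ), Commute g (xK ^ i) := fun g i =>
        (show Commute g xK from hcent g).pow_right i
      have hxi : ∀ i : ℕ, (xK ^ i) ^ 3 = 1 := fun i => by
        rw [← pow_mul, mul_comm, pow_mul, show xK ^ 3 = 1 from Subtype.ext hx3, one_pow]
      have hinj : ((R ×ˢ Finset.range 3).image fun q => q.1 * xK ^ q.2).card = R.card * 3 := by
        rw [Finset.card_image_of_injOn, Finset.card_product, Finset.card_range]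
        intro q hq r hr e
        simp only [Finset.coe_product, Set.mem_prod, Finset.mem_coe, hR, Finset.mem_filter,
          Finset.mem_univ, true_and, Finset.mem_range] at hq hr
        have e' : q.1 * xK ^ q.2 = r.1 * xK ^ r.2 := e
        have h3 := congrArg (· ^ 3) e'
        simp only [(hxc _ _).mul_pow, hxi, mul_one] at h3
        have hinv : ∀ g : K, g ^ 4 = 1 → g ^ 3 = g⁻¹ := fun g hg =>
          eq_inv_of_mul_eq_one_left (by rw [← pow_succ, hg])
        rw [hinv _ hq.1.1, hinv _ hr.1.1, inv_inj] at h3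
        refine Prod.ext h3 ?_
        rw [h3] at e'
        have := pow_inj_mod.1 (mul_left_cancel e')
        rw [← Subgroup.orderOf_coe, hx, Nat.mod_eq_of_lt hq.2, Nat.mod_eq_of_lt hr.2] at this
        exact this
      have hsub : ((R ×ˢ Finset.range 3).image fun q => q.1 * xK ^ q.2) ⊆ Aᶜ := by
        intro g hg
        obtain ⟨q, hq, rfl⟩ := Finset.mem_image.1 hg
        simp only [Finset.mem_product, hR, Finset.mem_filter, Finset.mem_univ, true_and] at hq
        rw [Finset.mem_compl, hA, Finset.mem_filter]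
        rintro ⟨-, h⟩
        rw [(hxc _ _).mul_pow, hxi, mul_one] at h
        exact hq.1.2 (by have := hq.1.1; rwa [pow_succ, h, one_mul] at this)
      have := Finset.card_le_card hsub
      rw [hinj, Finset.card_compl, hKc] at this
      omega
    have hSR : Finset.univ.filter (fun g : K => g ∈ (S : Subgroup K) ∧ g ≠ 1) = R := by
      refine Finset.eq_of_subset_of_card_le (fun g hg => ?_) ?_
      · rw [Finset.mem_filter] at hg
        refine Finset.mem_filter.2 ⟨Finset.mem_univ _, ?_, hg.2.2⟩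
        rw [← orderOf_dvd_iff_pow_eq_one, ← hS4]
        exact Subgroup.orderOf_dvd_natCard _ hg.2.1
      · refine hR3.trans (le_of_eq ?_)
        rw [Finset.filter_and, Finset.filter_ne', Finset.inter_erase, Finset.inter_univ,
          Finset.card_erase_of_mem (by simp [one_mem]), ← Fintype.card_subtype,
          ← Nat.card_eq_fintype_card, hS4]
    have hmemS : ∀ g : K, g ^ 4 = 1 → g ∈ (S : Subgroup K) := by
      intro g hg
      by_cases hg1 : g = 1
      · rw [hg1]; exact one_mem _
      have : g ∈ R := Finset.mem_filter.2 ⟨Finset.mem_univ _, hg, hg1⟩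
      rw [← hSR] at this
      exact (Finset.mem_filter.1 this).2.1
    have hsq : ∀ g ∈ (S : Subgroup K), g ^ 2 = 1 := by
      intro g hg
      have hd : orderOf g ∣ 2 ^ 2 := by
        have := Subgroup.orderOf_dvd_natCard _ hg
        rwa [hS4] at this
      obtain ⟨k, hk, hk'⟩ := (Nat.dvd_prime_pow Nat.prime_two).1 hd
      interval_cases k
      · rw [show g = 1 from orderOf_eq_one_iff.1 (by simpa using hk'), one_pow]
      · rw [← orderOf_dvd_iff_pow_eq_one, hk']; norm_num
      exfalso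
      have hz : Subgroup.zpowers g = (S : Subgroup K) :=
        Subgroup.eq_of_le_of_card_ge (Subgroup.zpowers_le.2 hg) (by rw [Nat.card_zpowers, hk', hS4]; norm_num)
      set τ := g ^ 2 with hτdef
      have hτ : orderOf τ = 2 := by rw [hτdef, orderOf_pow' g (by norm_num), hk']; norm_num
      have hτc : ∀ w : K, τ * w = w * τ := by
        intro w
        have h2 : (w * τ * w⁻¹) ^ 4 = 1 := by
          rw [conj_pow, hτdef, ← pow_mul, show g ^ (2 * 4) = 1 by
            rw [← orderOf_dvd_iff_pow_eq_one, hk']; norm_num, mul_one, mul_inv_cancel]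
        have hS' := hmemS _ h2
        rw [← hz] at hS'
        obtain ⟨n, hn⟩ := mem_powers_iff_mem_zpowers.2 hS'
        have hn' : g ^ (n % 4) = w * τ * w⁻¹ := by
          rw [← hn, show (4 : ℕ) = orderOf g by rw [hk']; norm_num, pow_mod_orderOf]
        have ho : orderOf (g ^ (n % 4)) = 2 := by rw [hn', orderOf_conj, hτ]
        rcases (by omega : n % 4 = 0 ∨ n % 4 = 1 ∨ n % 4 = 2 ∨ n % 4 = 3) with h | h | h | h <;>
          rw [h] at ho hn'
        · simp at ho
        · rw [pow_one, hk'] at ho; norm_num at ho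
        · exact (conj_eq_iff_commute.1 hn'.symm).symm
        · rw [orderOf_pow' g (by norm_num), hk'] at ho; norm_num at ho
      obtain ⟨Q⟩ : Nonempty (Sylow 3 K) := inferInstance
      obtain ⟨w, hw⟩ := Finset.card_pos.1 (show 0 < _ by rw [hfinQ Q]; norm_num)
      obtain ⟨-, hwQ, hwx⟩ := Finset.mem_filter.1 hw
      exact hno Q τ w hτ hwQ hwx (hτc w)
    refine ⟨(S : Subgroup K).map K.subtype, ?_, ?_, ?_⟩
    · rw [Subgroup.card_map_of_injective K.subtype_injective, hS4]
    · rintro _ ⟨g, hg, rfl⟩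
      exact ⟨mem_cent.1 g.2, congrArg Subtype.val (hsq g hg)⟩
    · intro g hg hg4
      exact ⟨⟨g, mem_cent.2 hg⟩, hmemS _ (Subtype.ext hg4), rfl⟩

theorem four_mem_iff {x g : G} (hx : orderOf x = 3) : g ∈ four x ↔ g * x = x * g ∧ g ^ 2 = 1 := by
  obtain ⟨T, -, hT, hT'⟩ := L.four_aux hx
  refine ⟨fun h => ?_, fun h => Subgroup.subset_closure h⟩
  have hle : four x ≤ T := (Subgroup.closure_le _).2 fun a ha =>
    hT' a ha.1 (by rw [show 4 = 2 * 2 from rfl, pow_mul, ha.2, one_pow])
  exact hT g (hle h)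

theorem four_mem_of_pow {x g : G} (hx : orderOf x = 3) (hc : g * x = x * g) {k : ℕ}
    (hk : g ^ 2 ^ k = 1) : g ∈ four x := by
  obtain ⟨T, -, hT, hT'⟩ := L.four_aux hx
  refine (L.four_mem_iff hx).2 (hT g (hT' g hc (orderOf_dvd_iff_pow_eq_one.1 ?_)))
  have h1 : orderOf g ∣ 2 ^ k := orderOf_dvd_of_pow_eq_one hk
  have h2 : orderOf g ∣ 4 * 9 := by
    have := Subgroup.orderOf_dvd_natCard (Subgroup.centralizer ({x} : Set G)) (mem_cent.2 hc)
    rw [L.cent_three x hx] at this
    exact this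
  refine Nat.Coprime.dvd_of_dvd_mul_right ?_ h2
  exact Nat.Coprime.coprime_dvd_left h1 ((show Nat.Coprime 2 9 by norm_num).pow_left k)

theorem card_four {x : G} (hx : orderOf x = 3) : Nat.card (four x) = 4 := by
  obtain ⟨T, hT4, hT, hT'⟩ := L.four_aux hx
  have e : four x = T := le_antisymm ((Subgroup.closure_le _).2 fun a ha =>
    hT' a ha.1 (by rw [show 4 = 2 * 2 from rfl, pow_mul, ha.2, one_pow]))
    fun a ha => Subgroup.subset_closure (hT a ha)
  rw [e, hT4]

theorem four_orderOf {x g : G} (hx : orderOf x = 3) (hg : g ∈ four x) (hg1 : g ≠ 1) :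
    orderOf g = 2 :=
  orderOf_eq_prime_of_pow Nat.prime_two ((L.four_mem_iff hx).1 hg).2 hg1

theorem four_comm {x g h : G} (hx : orderOf x = 3) (hg : g ∈ four x) (hh : h ∈ four x) :
    g * h = h * g := by
  have h1 := ((L.four_mem_iff hx).1 hg).2
  have h2 := ((L.four_mem_iff hx).1 hh).2
  have h3 := ((L.four_mem_iff hx).1 (mul_mem hg hh)).2
  rw [pow_two] at h1 h2 h3
  calc g * h = (g * h)⁻¹ := (inv_eq_of_mul_eq_one_right h3).symm
    _ = h⁻¹ * g⁻¹ := mul_inv_rev g h
    _ = h * g := by rw [inv_eq_of_mul_eq_one_right h1, inv_eq_of_mul_eq_one_right h2]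

theorem four_conj {x : G} (hx : orderOf x = 3) (c : G) {g : G} (hg : g ∈ four x) :
    c * g * c⁻¹ ∈ four (c * x * c⁻¹) := by
  obtain ⟨h1, h2⟩ := (L.four_mem_iff hx).1 hg
  refine (L.four_mem_iff (by rw [orderOf_conj, hx])).2 ⟨?_, by rw [conj_pow, h2, mul_one, mul_inv_cancel]⟩
  calc c * g * c⁻¹ * (c * x * c⁻¹) = c * (g * x) * c⁻¹ := by group
    _ = c * (x * g) * c⁻¹ := by rw [h1]
    _ = c * x * c⁻¹ * (c * g * c⁻¹) := by group

theorem four_inv {x : G} (hx : orderOf x = 3) : four x⁻¹ = four x := by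
  ext g
  rw [L.four_mem_iff hx, L.four_mem_iff (by rw [orderOf_inv, hx])]
  refine and_congr_left' ⟨fun h => ?_, fun h => ((show Commute g x from h).inv_right).eq⟩
  have := ((show Commute g x⁻¹ from h).inv_right).eq
  rwa [inv_inv] at this

theorem four_fixed {x w g : G} (hx : orderOf x = 3) (hw : orderOf w = 3) (hc : x * w = w * x)
    (hne : w ∉ Subgroup.zpowers x) (hg : g ∈ four x) (hg1 : g ≠ 1) : w * g ≠ g * w := fun h =>
  L.no_nine_commute (L.four_orderOf hx hg hg1) hx hw hc hne ((L.four_mem_iff hx).1 hg).1.symm h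

theorem four_invariant {x w g : G} (hx : orderOf x = 3) (hc : x * w = w * x) (hg : g ∈ four x) :
    w * g * w⁻¹ ∈ four x := by
  have := L.four_conj hx w hg
  rwa [show w * x * w⁻¹ = x by rw [← hc, mul_inv_cancel_right]] at this

/-- The three nontrivial elements of the four-group form one orbit. -/
theorem four_cases {x w g h : G} (hx : orderOf x = 3) (hw : orderOf w = 3) (hc : x * w = w * x)
    (hne : w ∉ Subgroup.zpowers x) (hg : g ∈ four x) (hg1 : g ≠ 1) (hh : h ∈ four x) (hh1 : h ≠ 1) :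
    h = g ∨ h = w * g * w⁻¹ ∨ h = w⁻¹ * g * w := by
  classical
  haveI := Fintype.ofFinite G
  have ha := L.four_invariant hx hc hg
  have hb : w⁻¹ * g * w ∈ four x := by
    have := L.four_invariant hx ((show Commute x w from hc).inv_right).eq hg
    rwa [inv_inv] at this
  have hfix := L.four_fixed hx hw hc hne hg hg1
  have n1 : w * g * w⁻¹ ≠ g := fun e => hfix (conj_eq_iff_commute.1 e)
  have n2 : w⁻¹ * g * w ≠ g := fun e => hfix (by
    calc w * g = w * (w⁻¹ * g * w) := by rw [e]
      _ = g * w := by group)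
  have n3 : w * g * w⁻¹ ≠ w⁻¹ * g * w := fun e => by
    have hw3 : w ^ 3 = 1 := hw ▸ pow_orderOf_eq_one w
    apply hfix
    have hww : w⁻¹ = w * w := (eq_inv_of_mul_eq_one_left (by rw [← pow_two, ← pow_succ, hw3])).symm
    have e2 : w * (w * g * w⁻¹) * w⁻¹ = g := by rw [e]; group
    have e3 : w⁻¹ * g * w = g := by
      rw [show w⁻¹ * g * w = w⁻¹ * g * (w⁻¹)⁻¹ by group, hww]
      calc w * w * g * (w * w)⁻¹ = w * (w * g * w⁻¹) * w⁻¹ := by group
        _ = g := e2
    exact absurd e3 n2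
  have hsub : ({g, w * g * w⁻¹, w⁻¹ * g * w, 1} : Finset G) ⊆
      Finset.univ.filter (· ∈ four x) := by
    intro v hv
    simp only [Finset.mem_insert, Finset.mem_singleton] at hv
    rcases hv with rfl | rfl | rfl | rfl <;> simp [hg, ha, hb, one_mem]
  have h4 : ({g, w * g * w⁻¹, w⁻¹ * g * w, 1} : Finset G).card = 4 := by
    rw [Finset.card_insert_of_notMem, Finset.card_insert_of_notMem, Finset.card_pair]
    · intro e; exact hg1 (by
        calc g = w * (w⁻¹ * g * w) * w⁻¹ := by group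
          _ = 1 := by rw [e]; group)
    · simp only [Finset.mem_insert, Finset.mem_singleton, not_or]
      exact ⟨n3, fun e => hg1 (by rw [conj_eq_one_iff] at e; exact e)⟩
    · simp only [Finset.mem_insert, Finset.mem_singleton, not_or]
      exact ⟨Ne.symm n1, Ne.symm n2, hg1⟩
  have heq := Finset.eq_of_subset_of_card_le hsub (by
    rw [← Fintype.card_subtype, ← Nat.card_eq_fintype_card, h4]
    exact (L.card_four hx).le)
  have hmem : h ∈ ({g, w * g * w⁻¹, w⁻¹ * g * w, 1} : Finset G) := heq ▸ (by simp [hh])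
  simp only [Finset.mem_insert, Finset.mem_singleton] at hmem
  tauto

/-- The centralizer in `C(x)` of an involution of the four-group has order 12. -/
theorem card_cent_pair {x t : G} (hx : orderOf x = 3) (ht : t ∈ four x) (ht1 : t ≠ 1) :
    Nat.card (Subgroup.centralizer ({x} : Set G) ⊓ Subgroup.centralizer ({t} : Set G) : Subgroup G)
      = 12 := by
  set K := Subgroup.centralizer ({x} : Set G) ⊓ Subgroup.centralizer ({t} : Set G)
  have ht2 := L.four_orderOf hx ht ht1
  have htc := ((L.four_mem_iff hx).1 ht).1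
  have h1 : Nat.card K ∣ 12 := by
    have a := Subgroup.card_dvd_of_le (inf_le_left : K ≤ _)
    have b := Subgroup.card_dvd_of_le (inf_le_right : K ≤ _)
    rw [L.cent_three x hx] at a
    rw [L.cent_two t ht2] at b
    have := Nat.dvd_gcd a b
    norm_num at this
    exact this
  have h3 : 3 ∣ Nat.card K := hx ▸ Subgroup.orderOf_dvd_natCard K ⟨mem_cent.2 rfl, mem_cent.2 htc.symm⟩
  have h4 : 4 ∣ Nat.card K := by
    rw [← L.card_four hx]
    exact Subgroup.card_dvd_of_le fun v hv => ⟨mem_cent.2 ((L.four_mem_iff hx).1 hv).1,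
      mem_cent.2 (L.four_comm hx hv ht)⟩
  exact Nat.dvd_antisymm h1 ((show Nat.Coprime 3 4 by norm_num).mul_dvd_of_dvd_of_dvd h3 h4)

/-- An element of order 3 commuting with `x` and an involution of its four-group is a power of `x`. -/
theorem mem_zpowers_of_commute {x t g : G} (hx : orderOf x = 3) (ht : t ∈ four x) (ht1 : t ≠ 1)
    (hgx : g * x = x * g) (hgt : g * t = t * g) (hg3 : g ^ 3 = 1) : g ∈ Subgroup.zpowers x := by
  by_contra hn
  exact L.no_nine_commute (L.four_orderOf hx ht ht1) hx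
    (orderOf_eq_prime_of_pow Nat.prime_three hg3 fun e => hn (e ▸ one_mem _)) hgx.symm hn
    ((L.four_mem_iff hx).1 ht).1.symm hgt

end Loc

end Cfsg.Lib.MTwentyTwo
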