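import Cfsg.Agent.Lib.MTwentyTwo.Eleven
import Cfsg.Agent.Lib.MTwentyTwo.Count
import Cfsg.Agent.Lib.MTwentyTwo.Check0
import Cfsg.Agent.Lib.MTwentyTwo.Check1
import Cfsg.Agent.Lib.MTwentyTwo.Check2
import Cfsg.Agent.Lib.MTwentyTwo.Check3
import Cfsg.Agent.Lib.MTwentyTwo.Check4
import Cfsg.Agent.Lib.MTwentyTwo.Check5

/-!
# A simple group of order 443520: soundness of the block search

The three principal families at 11, 7 and 5 pass the tests of the search; hence they are the
surviving ones.
-/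

set_option autoImplicit false
set_option linter.style.haveILetI false
set_option linter.unusedSectionVars false

namespace Cfsg.Lib.MTwentyTwo

open Cfsg Cfsg.Lib

universe u

noncomputable local instance (priority := high) fintypeSubgroupMTwentyTwoFront {A : Type u}
    [Group A] [Fintype A] (H : Subgroup A) : Fintype H := Fintype.ofFinite H

variable {G : Type u} [Group G] [Fintype G]

section General

variable (hG : IsM22 G)
include hG

theorem sum_sq_deg : ∑ χ : IrrCharacter G, deg χ ^ 2 = ord := by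
  have h := Char.sum_sq_degree (G := G)
  simp only [MEleven.apply_one] at h
  rw [card_G hG] at h
  exact_mod_cast h

theorem sum_sq_deg_le' (U : Finset (IrrCharacter G)) : ∑ χ ∈ U, deg χ ^ 2 ≤ ord :=
  sum_sq_deg hG ▸ Finset.sum_le_sum_of_subset (Finset.subset_univ _)

theorem sum_compl_sq [DecidableEq (IrrCharacter G)] (U : Finset (IrrCharacter G)) :
    ord - ∑ χ ∈ U, deg χ ^ 2 = ∑ χ ∈ Uᶜ, deg χ ^ 2 := by
  have h := Finset.sum_add_sum_compl U fun χ => deg χ ^ 2
  rw [sum_sq_deg hG] at h
  omega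

theorem deg_eq_one {χ : IrrCharacter G} (h : deg χ = 1) : χ = Small.one' G := by
  by_contra hne
  have := Small.two_le_charDegree_of_perfect (perfect hG) hne
  change 2 ≤ deg χ at this
  omega

theorem intVal_of_deg_one {χ : IrrCharacter G} (h : deg χ = 1) (z : G) : intVal z χ = 1 := by
  rw [deg_eq_one hG h]
  exact intVal_eq (by rw [Small.one'_apply, Int.cast_one])

theorem mem_dom_intVal {z : G} (hz : orderOf z = 2) (χ : IrrCharacter G) {m : ℕ} (hm : 1 ≤ m)
    (hsq : (m : ℤ) * intVal z χ * intVal z χ ≤ Nat.card (Subgroup.centralizer ({z} : Set G))) :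
    intVal z χ ∈ dom (deg χ) m (Nat.card (Subgroup.centralizer ({z} : Set G))) := by
  haveI := hG.1
  have hz2 : z ^ 2 = 1 := hz ▸ pow_orderOf_eq_one z
  have hz1 : z ≠ 1 := fun e => by rw [e, orderOf_one] at hz; omega
  by_cases hd : deg χ = 1
  · rw [intVal_of_deg_one hG hd]; simp [dom, hd]
  have hne : χ ≠ Small.one' G := fun e => hd (by rw [e]; exact Small.charDegree_one')
  refine mem_dom hd hm (card_centralizer_le hG hz1) (natAbs_intVal_lt (not_cyclic hG) hne hz2 hz1)
    ?_ (intVal_mod_four (perfect hG) χ hz2) hsq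
  have h := qof_dvd_intVal χ hz2 rfl
  rwa [card_G hG] at h

theorem sq_le_centralizer {z : G} (hz : z ^ 2 = 1) (U : Finset (IrrCharacter G)) :
    ∑ χ ∈ U, intVal z χ * intVal z χ ≤ (Nat.card (Subgroup.centralizer ({z} : Set G)) : ℤ) := by
  rw [← sum_intVal_sq hz]
  exact Finset.sum_le_sum_of_subset_of_nonneg (Finset.subset_univ _) fun _ _ _ => mul_self_nonneg _

theorem mem_dom_single {z : G} (hz : orderOf z = 2) (χ : IrrCharacter G) :
    intVal z χ ∈ dom (deg χ) 1 (Nat.card (Subgroup.centralizer ({z} : Set G))) := by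
  refine mem_dom_intVal hG hz χ le_rfl ?_
  have := sq_le_centralizer hG (hz ▸ pow_orderOf_eq_one z) {χ}
  simpa using this

end General

namespace Dat

variable {p : ℕ} [Fact p.Prime] (D : Dat G p)

theorem not_dvd_deg_B {χ : IrrCharacter G} (h : χ ∈ Lst.B D) : ¬ p ∣ deg χ := by
  rcases Lst.mem_B.1 h with h | h
  · exact D.S.not_dvd_deg (D.S.mem_Z.2 (Or.inr h))
  · rw [D.deg_Y h]
    exact D.S.not_dvd_deg (D.S.mem_Z.2 (Or.inl rfl))

theorem mem_B_of_not_dvd (hc : D.c = 1) {χ : IrrCharacter G} (h : ¬ p ∣ deg χ) : χ ∈ Lst.B D :=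
  Classical.byContradiction fun hn => h (D.dvd_deg_of_notMem hc hn)

theorem not_dvd_c (hG : IsM22 G) (hp : p = 5 ∨ p = 7 ∨ p = 11) : ¬ p ∣ D.c := fun h => by
  refine not_sq_dvd hG hp ((pow_two p) ▸ (mul_dvd_mul_left p h).trans ?_)
  rw [← D.hc]
  exact Subgroup.card_subgroup_dvd_card _

theorem not_dvd_centralizer (hc : D.c = 1) (hp2 : p ≠ 2) {z : G} (hz : orderOf z = 2) :
    ¬ p ∣ Nat.card (Subgroup.centralizer ({z} : Set G)) := fun h => by
  have := D.dvd_c_of_commute Nat.prime_two (Ne.symm hp2) hz h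
  rw [hc] at this
  exact absurd this (by norm_num)

/-- The congruence at an involution centralizing `P`. -/
theorem mod_two_mul (hp2 : p ≠ 2) {z : G} (hz : orderOf z = 2) (hzC : z ∈ D.C)
    {χ : IrrCharacter G} (hχ : χ ∈ D.S.Z) :
    (intVal z χ - deg χ) % ((2 * p : ℕ) : ℤ) = 0 := by
  classical
  have hz2 : z ^ 2 = 1 := hz ▸ pow_orderOf_eq_one z
  have hzp := not_dvd_orderOf (G := G) Fact.out hp2 hz
  have hone : ¬ p ∣ orderOf (1 : G) := by
    rw [orderOf_one]; exact (Fact.out : p.Prime).not_dvd_one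
  have hX : ∀ ψ ∈ D.S.X, ((2 * p : ℕ) : ℤ) ∣ intVal z ψ - deg ψ := by
    intro ψ hψ
    have hcomm : ∀ v ∈ (D.P : Subgroup G), v * z = z * v := Subgroup.mem_centralizer_iff.1 hzC
    let H : Subgroup G :=
      { carrier := {g | g ∈ (D.P : Subgroup G) ∨ g * z ∈ (D.P : Subgroup G)}
        one_mem' := Or.inl (Subgroup.one_mem _)
        mul_mem' := by
          rintro a b (ha | ha) (hb | hb)
          · exact Or.inl (mul_mem ha hb)
          · exact Or.inr (by rw [mul_assoc]; exact mul_mem ha hb)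
          · refine Or.inr ?_
            rw [mul_assoc, hcomm b hb, ← mul_assoc]
            exact mul_mem ha hb
          · refine Or.inl ?_
            have e : (a * z) * (b * z) = a * b := by
              have hb' : (b * z) * z = z * (b * z) := hcomm _ hb
              rw [show (b * z) * z = b * (z * z) by group, ← pow_two, hz2, mul_one] at hb'
              calc (a * z) * (b * z) = a * (z * (b * z)) := by group
                _ = a * b := by rw [← hb']
            rw [← e]; exact mul_mem ha hb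
        inv_mem' := by
          rintro a (ha | ha)
          · exact Or.inl (inv_mem ha)
          · refine Or.inr ?_
            have h' := inv_mem ha
            have e : a⁻¹ * z = (a * z)⁻¹ := by
              have h1 := hcomm _ h'
              rw [mul_inv_rev, inv_eq_self hz2] at h1 ⊢
              rw [mul_assoc z a⁻¹ z] at h1
              exact (mul_left_cancel h1).trans rfl
            rw [e]; exact h' }
    set F : Finset G := Finset.univ.filter (· ∈ (D.P : Subgroup G)) with hF
    have hdisj : Disjoint F (F.image (· * z)) := by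
      rw [Finset.disjoint_left]
      intro g hg hg'
      obtain ⟨v, hv, rfl⟩ := Finset.mem_image.1 hg'
      have hzP : z ∈ (D.P : Subgroup G) := by
        have := mul_mem (inv_mem (Finset.mem_filter.1 hv).2) (Finset.mem_filter.1 hg).2
        rwa [inv_mul_cancel_left] at this
      have h2 : p = 2 := by
        rw [← D.orderOf_eq hzP (fun e => by rw [e, orderOf_one] at hz; omega), hz]
      exact hp2 h2
    have hmem : ∀ g, g ∈ F ∪ F.image (· * z) ↔ g ∈ H := by
      intro g
      simp only [Finset.mem_union, hF, Finset.mem_filter, Finset.mem_univ, true_and, Finset.mem_image]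
      constructor
      · rintro (h | ⟨v, hv, rfl⟩)
        · exact Or.inl h
        · exact Or.inr (by rw [mul_assoc, ← pow_two, hz2, mul_one]; exact hv)
      · rintro (h | h)
        · exact Or.inl h
        · exact Or.inr ⟨g * z, h, by rw [mul_assoc, ← pow_two, hz2, mul_one]⟩
    have hFcard : F.card = p := by
      rw [hF, ← Fintype.card_subtype, ← Nat.card_eq_fintype_card, D.S.card_P]
    have hHcard : Nat.card H = 2 * p := by
      rw [Nat.card_eq_fintype_card, Fintype.card_subtype,
        show (Finset.univ.filter (· ∈ H)) = F ∪ F.image (· * z) by ext g; rw [Finset.mem_filter, hmem]; simp,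
        Finset.card_union_of_disjoint hdisj, Finset.card_image_of_injective _ (mul_left_injective z),
        hFcard]
      ring
    have hsum : ∀ y : G, y ∈ D.C → ¬ p ∣ orderOf y →
        ∑ v ∈ F, (ψ : G → ℂ) (v * y) = (ψ : G → ℂ) y + ((p - 1 : ℕ) : ℂ) * (D.S.σ ψ : ℂ) := by
      intro y hy hy'
      have h1 : (1 : G) ∈ F := Finset.mem_filter.2 ⟨Finset.mem_univ _, Subgroup.one_mem _⟩
      rw [← Finset.add_sum_erase _ _ h1, one_mul, Finset.sum_congr rfl fun v hv =>
        D.S.val ψ hψ v (Finset.mem_filter.1 (Finset.mem_of_mem_erase hv)).2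
          (Finset.ne_of_mem_erase hv) y hy hy', Finset.sum_const, Finset.card_erase_of_mem h1,
        hFcard, nsmul_eq_mul]
    obtain ⟨n1, hn1⟩ := MEleven.exists_nat_sum ψ (D.P : Subgroup G)
    obtain ⟨n2, hn2⟩ := MEleven.exists_nat_sum ψ H
    have eP : ∑ v : (D.P : Subgroup G), (ψ : G → ℂ) v = ∑ v ∈ F, (ψ : G → ℂ) (v * 1) := by
      simp only [mul_one]
      exact (Finset.sum_subtype F (fun g => by simp [hF]) fun g => (ψ : G → ℂ) g).symm
    have eH : ∑ v : H, (ψ : G → ℂ) v =
        (∑ v ∈ F, (ψ : G → ℂ) (v * 1)) + ∑ v ∈ F, (ψ : G → ℂ) (v * z) := by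
      simp only [mul_one]
      rw [← Finset.sum_subtype _ hmem fun g => (ψ : G → ℂ) g, Finset.sum_union hdisj,
        Finset.sum_image (mul_left_injective z).injOn]
    rw [eP, hsum 1 (Subgroup.one_mem _) hone, D.S.card_P, MEleven.apply_one] at hn1
    rw [eH, hsum 1 (Subgroup.one_mem _) hone, hsum z hzC hzp, hHcard, MEleven.apply_one,
      ← cast_intVal ψ hz2] at hn2
    have h1 : (deg ψ : ℤ) + ((p - 1 : ℕ) : ℤ) * D.S.σ ψ = ((p * n1 : ℕ) : ℤ) := by exact_mod_cast hn1
    have h2 : (deg ψ : ℤ) + ((p - 1 : ℕ) : ℤ) * D.S.σ ψ +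
        (intVal z ψ + ((p - 1 : ℕ) : ℤ) * D.S.σ ψ) = ((2 * p * n2 : ℕ) : ℤ) := by exact_mod_cast hn2
    refine ⟨(n2 : ℤ) - n1, ?_⟩
    push_cast at h1 h2 ⊢
    linear_combination h2 - 2 * h1
  apply Int.emod_eq_zero_of_dvd
  rcases D.S.mem_Z.1 hχ with rfl | h
  · have e : D.S.σ D.S.θ * (intVal z D.S.θ - deg D.S.θ) =
        -∑ ψ ∈ D.S.X, D.S.σ ψ * (intVal z ψ - deg ψ) := by
      have hr := D.S.rel z hzp
      rw [Finset.sum_congr rfl fun ψ _ => by rw [← cast_intVal ψ hz2]] at hr
      have hr' : ∑ ψ ∈ D.S.Z, D.S.σ ψ * intVal z ψ = 0 := by exact_mod_cast hr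
      have hd : ∑ ψ ∈ D.S.Z, D.S.σ ψ * (deg ψ : ℤ) = 0 := D.S.rel_deg
      rw [D.sum_Z] at hr' hd
      simp only [mul_sub, Finset.sum_sub_distrib]
      linarith
    have hdvd : ((2 * p : ℕ) : ℤ) ∣ D.S.σ D.S.θ * (intVal z D.S.θ - deg D.S.θ) := by
      rw [e]
      exact (Finset.dvd_sum fun ψ hψ => dvd_mul_of_dvd_right (hX ψ hψ) _).neg_right
    rcases D.sign_θ with s | s <;> rw [s] at hdvd
    · simpa using hdvd
    · simpa using hdvd.neg_right
  · exact hX χ h

/-- An involution with centralizer order among the candidates. -/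
theorem exists_involution_center (hG : IsM22 G) (hp : p = 5 ∨ p = 7 ∨ p = 11) (hc : D.c ≠ 1)
    (heven : 2 ∣ D.c) [Fact (Nat.Prime 11)] :
    ∃ z : G, orderOf z = 2 ∧ z ∈ D.C ∧
      Nat.card (Subgroup.centralizer ({z} : Set G)) ∈ cents p D.e D.c := by
  classical
  haveI : Fact (Nat.Prime 2) := ⟨Nat.prime_two⟩
  have hp2 : p ≠ 2 := by rcases hp with rfl | rfl | rfl <;> norm_num
  obtain ⟨T⟩ : Nonempty (Sylow 2 D.C) := inferInstance
  have hCeven : 2 ∣ Nat.card D.C := by rw [D.hc]; exact dvd_mul_of_dvd_right heven p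
  haveI : Nontrivial (T : Subgroup D.C) := by
    rw [← Finite.one_lt_card_iff_nontrivial, T.card_eq_multiplicity]
    exact Nat.one_lt_pow (Nat.Prime.factorization_pos_of_dvd Nat.prime_two Nat.card_pos.ne' hCeven).ne'
      (by norm_num)
  haveI : Nontrivial (Subgroup.center (T : Subgroup D.C)) := T.2.center_nontrivial
  obtain ⟨k, hk, hk'⟩ := (T.2.to_subgroup (Subgroup.center (T : Subgroup D.C))).nontrivial_iff_card.1
    inferInstance
  obtain ⟨w, hw⟩ := exists_prime_orderOf_dvd_card' (G := Subgroup.center (T : Subgroup D.C)) 2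
    (hk' ▸ dvd_pow_self 2 hk.ne')
  set z : G := (((w : (T : Subgroup D.C)) : D.C) : G) with hzdef
  have hz : orderOf z = 2 := by
    rw [hzdef, Subgroup.orderOf_coe, Subgroup.orderOf_coe, Subgroup.orderOf_coe, hw]
  have hz1 : z ≠ 1 := fun e => by rw [e, orderOf_one] at hz; omega
  have hzC : z ∈ D.C := ((w : (T : Subgroup D.C)) : D.C).2
  refine ⟨z, hz, hzC, ?_⟩
  set Cz := Subgroup.centralizer ({z} : Set G) with hCz
  have hPz : (D.P : Subgroup G) ≤ Cz := fun v hv =>
    Subgroup.mem_centralizer_singleton_iff.2 (Subgroup.mem_centralizer_iff.1 hzC v hv)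
  set T' := (T : Subgroup D.C).map D.C.subtype with hT'
  have hTz : T' ≤ Cz := by
    rintro _ ⟨t, ht, rfl⟩
    have := congrArg (fun q : (T : Subgroup D.C) => ((q : D.C) : G))
      (Subgroup.mem_center_iff.1 w.2 ⟨t, ht⟩)
    exact Subgroup.mem_centralizer_singleton_iff.2 this
  set N := Cz ⊓ Subgroup.normalizer ((D.P : Subgroup G) : Set G) with hN
  have hTN : T' ≤ N := le_inf hTz
    ((Subgroup.map_subtype_le _).trans (Subgroup.centralizer_le_normalizer _))
  have hPN : (D.P : Subgroup G) ≤ N := le_inf hPz Subgroup.le_normalizer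
  have hpow2 : pow2 D.c ∣ Nat.card T' := by
    rw [hT', Subgroup.card_map_of_injective D.C.subtype_injective, T.card_eq_multiplicity]
    have hfind : pow2 D.c ∈ twoPart ∧ D.c % pow2 D.c = 0 := by
      rw [pow2]
      cases h : twoPart.find? (fun t => decide (D.c % t = 0)) with
      | none =>
        have := List.find?_eq_none.1 h 1 (by simp [twoPart])
        simp [Nat.mod_one] at this
      | some t => exact ⟨List.mem_of_find?_eq_some h, by simpa using List.find?_some h⟩
    have hd : pow2 D.c ∣ Nat.card D.C := D.hc ▸ dvd_mul_of_dvd_right (Nat.dvd_of_mod_eq_zero hfind.2) p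
    obtain ⟨j, hj⟩ : ∃ j, pow2 D.c = 2 ^ j := by
      have := hfind.1
      simp only [twoPart, List.mem_cons, List.not_mem_nil, or_false] at this
      rcases this with e | e | e | e | e | e | e | e <;> rw [e]
      · exact ⟨7, rfl⟩
      · exact ⟨6, rfl⟩
      · exact ⟨5, rfl⟩
      · exact ⟨4, rfl⟩
      · exact ⟨3, rfl⟩
      · exact ⟨2, rfl⟩
      · exact ⟨1, rfl⟩
      · exact ⟨0, rfl⟩
    rw [hj] at hd ⊢
    exact Nat.pow_dvd_pow 2 ((Nat.Prime.pow_dvd_iff_le_factorization Nat.prime_two Nat.card_pos.ne').1 hd)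
  have hpN : p ∣ Nat.card N := D.S.card_P ▸ Subgroup.card_dvd_of_le hPN
  have h2N : pow2 D.c ∣ Nat.card N := hpow2.trans (Subgroup.card_dvd_of_le hTN)
  have hcop : p.Coprime (pow2 D.c) :=
    (Nat.Coprime.coprime_dvd_right (dvd_refl _) ((Fact.out : p.Prime).coprime_iff_not_dvd.2 fun h => by
      have h' := hpow2
      rw [hT', Subgroup.card_map_of_injective D.C.subtype_injective, T.card_eq_multiplicity] at h'
      exact hp2 ((Nat.prime_dvd_prime_iff_eq Fact.out Nat.prime_two).1
        ((Fact.out : p.Prime).dvd_of_dvd_pow (h.trans h')))))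
  have hst : p * pow2 D.c ∣ Nat.card N := hcop.mul_dvd_of_dvd_of_dvd hpN h2N
  have hNC : Nat.card N ∣ Nat.card Cz := Subgroup.card_dvd_of_le inf_le_left
  have hNM : Nat.card N ∣ p * D.c * D.e := by
    refine (Subgroup.card_dvd_of_le (inf_le_right : N ≤ _)).trans (dvd_of_eq ?_)
    have h1 := D.card_normalizer hG
    have h2 := D.hn
    have hn0 : 0 < D.n := by rw [D.hn_card]; exact Nat.card_pos
    refine Nat.eq_of_mul_eq_mul_left hn0 ?_
    rw [h1]
    have hpd : p ∣ ord := by rcases hp with rfl | rfl | rfl <;> decide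
    calc ord = p * (ord / p) := (Nat.mul_div_cancel' hpd).symm
      _ = _ := by rw [← h2]; ring
  have hidx : Nat.card Cz / Nat.card N % p = 1 := by
    set P' := (D.P : Subgroup G).subgroupOf Cz with hP'
    have hP'c : Nat.card P' = p := by
      rw [hP', Nat.card_congr (Subgroup.subgroupOfEquivOfLe hPz).toEquiv, D.S.card_P]
    obtain ⟨m, hm⟩ : p ∣ Nat.card Cz := hP'c ▸ Subgroup.card_subgroup_dvd_card P'
    have hpm : ¬ p ∣ m := fun h => not_sq_dvd hG hp
      ((pow_two p) ▸ (mul_dvd_mul_left p h).trans (hm ▸ Subgroup.card_subgroup_dvd_card Cz))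
    have hfac : p = p ^ (Nat.card Cz).factorization p := by
      rw [hm, Nat.factorization_mul (Fact.out : p.Prime).ne_zero (fun h => hpm (by rw [h]; exact dvd_zero p)),
        Finsupp.add_apply, (Fact.out : p.Prime).factorization_self,
        Nat.factorization_eq_zero_of_not_dvd hpm, add_zero, pow_one]
    let Q : Sylow p Cz := Sylow.ofCard P' (hP'c.trans hfac)
    have h := Small.card_normalizer_mul Q
    have hmod := (Small.sylow_facts (G := Cz) (p := p) 1 m (by rw [pow_one, hm]) hpm).2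
    have eN : Nat.card (Subgroup.normalizer ((Q : Subgroup Cz) : Set Cz)) = Nat.card N := by
      have e : Subgroup.normalizer ((Q : Subgroup Cz) : Set Cz) = N.subgroupOf Cz := by
        ext g
        show g ∈ Subgroup.normalizer (P' : Set Cz) ↔ _
        rw [Subgroup.mem_subgroupOf, hN, Subgroup.mem_inf, and_iff_right g.2,
          Subgroup.mem_normalizer_iff, Subgroup.mem_normalizer_iff]
        constructor
        · intro h v
          constructor
          · intro hv
            exact (h ⟨v, hPz hv⟩).1 hv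
          · intro hv
            have hvC : v ∈ Cz := by
              have := mul_mem (mul_mem (inv_mem g.2) (hPz hv)) g.2
              simpa [mul_assoc] using this
            exact (h ⟨v, hvC⟩).2 hv
        · intro h v
          exact h v
      rw [e, Nat.card_congr (Subgroup.subgroupOfEquivOfLe inf_le_left).toEquiv]
    rw [eN] at h
    rw [← h, Nat.mul_div_cancel _ Nat.card_pos]
    exact hmod
  have h11 := not_eleven_dvd_centralizer hG Nat.prime_two (by norm_num) hz
  simp only [cents, List.mem_filter, Bool.and_eq_true, decide_eq_true_eq, if_neg hc,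
    List.any_eq_true, normOrders]
  refine ⟨mem_divList (card_centralizer_dvd hG z),
    ⟨fun e => h11 (Nat.dvd_of_mod_eq_zero e), card_centralizer_le hG hz1⟩,
    ⟨Nat.mod_eq_zero_of_dvd (hst.trans hNC), Nat.mod_eq_zero_of_dvd (four_dvd_centralizer hG hz)⟩,
    Nat.card N, ⟨mem_divList (card_G hG ▸ Subgroup.card_subgroup_dvd_card N),
      Nat.mod_eq_zero_of_dvd hst, Nat.mod_eq_zero_of_dvd hNM⟩, Nat.mod_eq_zero_of_dvd hNC, hidx⟩

end Dat

/-- A central involution of a Sylow 2-subgroup. -/
theorem exists_involution_sylow [Fact (Nat.Prime 11)] [Fact (Nat.Prime 7)] [Fact (Nat.Prime 5)]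
    (hG : IsM22 G) (D5 : Dat G 5) (D7 : Dat G 7) (h5 : D5.c = 1) (h7 : D7.c = 1)
    {p : ℕ} [Fact p.Prime] (D : Dat G p) (hc : D.c = 1) :
    ∃ z : G, orderOf z = 2 ∧
      Nat.card (Subgroup.centralizer ({z} : Set G)) ∈ cents p D.e D.c := by
  classical
  haveI : Fact (Nat.Prime 2) := ⟨Nat.prime_two⟩
  obtain ⟨S⟩ : Nonempty (Sylow 2 G) := inferInstance
  haveI : Nontrivial (S : Subgroup G) := by
    rw [← Finite.one_lt_card_iff_nontrivial, card_sylow_two hG S]; norm_num
  haveI : Nontrivial (Subgroup.center (S : Subgroup G)) := S.2.center_nontrivial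
  obtain ⟨k, hk, hk'⟩ := (S.2.to_subgroup (Subgroup.center (S : Subgroup G))).nontrivial_iff_card.1
    inferInstance
  obtain ⟨w, hw⟩ := exists_prime_orderOf_dvd_card' (G := Subgroup.center (S : Subgroup G)) 2
    (hk' ▸ dvd_pow_self 2 hk.ne')
  set z : G := ((w : (S : Subgroup G)) : G) with hzdef
  have hz : orderOf z = 2 := by rw [hzdef, Subgroup.orderOf_coe, Subgroup.orderOf_coe, hw]
  have hz1 : z ≠ 1 := fun e => by rw [e, orderOf_one] at hz; omega
  refine ⟨z, hz, ?_⟩
  have h128 : 128 ∣ Nat.card (Subgroup.centralizer ({z} : Set G)) := by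
    rw [← card_sylow_two hG S]
    refine Subgroup.card_dvd_of_le fun s hs => Subgroup.mem_centralizer_singleton_iff.2 ?_
    exact congrArg Subtype.val (Subgroup.mem_center_iff.1 w.2 ⟨s, hs⟩)
  have h11 := not_eleven_dvd_centralizer hG Nat.prime_two (by norm_num) hz
  have h5' := D5.not_dvd_centralizer h5 (by norm_num) hz
  have h7' := D7.not_dvd_centralizer h7 (by norm_num) hz
  simp only [cents, List.mem_filter, Bool.and_eq_true, decide_eq_true_eq, if_pos hc]
  exact ⟨mem_divList (card_centralizer_dvd hG z),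
    ⟨fun e => h11 (Nat.dvd_of_mod_eq_zero e), card_centralizer_le hG hz1⟩,
    Nat.mod_eq_zero_of_dvd h128, fun e => h5' (Nat.dvd_of_mod_eq_zero e),
    fun e => h7' (Nat.dvd_of_mod_eq_zero e)⟩

/-- The count as used by the search. -/
theorem frac_count {p : ℕ} [Fact p.Prime] {D : Dat G p} (l : Lst D) (hG : IsM22 G) (hp2 : p ≠ 2)
    (hc : D.c = 1) {z : G} (hz : orderOf z = 2) :
    (frac l.slots (l.vals z)).1 = 0 ∨ (2 ∣ D.e ∧ (frac l.slots (l.vals z)).1 * ord =
      ((p * Nat.card (Subgroup.centralizer ({z} : Set G)) *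
        Nat.card (Subgroup.centralizer ({z} : Set G)) * (frac l.slots (l.vals z)).2 : ℕ) : ℤ)) := by
  obtain ⟨-, h⟩ := l.frac_slots (z := z) (hz ▸ pow_orderOf_eq_one z)
  rcases D.frac_one hp2 hc hz with ⟨he, h'⟩ | h'
  · refine Or.inr ⟨he, ?_⟩
    rw [card_G hG] at h'
    apply Int.cast_injective (α := ℂ)
    push_cast
    rw [h]
    linear_combination -((frac l.slots (l.vals z)).2 : ℂ) * h'
  · left
    rw [h', mul_zero] at h
    exact_mod_cast h

section Search

variable [Fact (Nat.Prime 11)] (hG : IsM22 G) {DA : Dat G 11} (lA : Lst DA)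
include hG

theorem mem_A {χ : IrrCharacter G} (h : deg χ % 11 ≠ 0) : χ ∈ Lst.B DA :=
  DA.mem_B_of_not_dvd (eleven_data hG DA).2 fun e => h (Nat.mod_eq_zero_of_dvd e)

theorem not_mod_A {χ : IrrCharacter G} (h : χ ∈ Lst.B DA) : deg χ % 11 ≠ 0 :=
  fun e => DA.not_dvd_deg_B h (Nat.dvd_of_mod_eq_zero e)

theorem cnt_le_A {p : ℕ} [Fact p.Prime] {D : Dat G p} (l : Lst D) {d : ℕ} (hd : d % 11 ≠ 0) :
    cnt l.slots d ≤ cnt lA.slots d := by
  classical
  rw [l.cnt_slots, lA.cnt_slots]
  refine Finset.card_le_card fun χ hχ => ?_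
  obtain ⟨-, hχ⟩ := Finset.mem_filter.1 hχ
  exact Finset.mem_filter.2 ⟨mem_A hG (by rw [hχ]; exact hd), hχ⟩

theorem cols_mem {z : G} (hz : orderOf z = 2) :
    lA.vals z ∈ cols lA.slots (Nat.card (Subgroup.centralizer ({z} : Set G))) := by
  classical
  have hz2 : z ^ 2 = 1 := hz ▸ pow_orderOf_eq_one z
  have hz11 := not_dvd_orderOf (G := G) (p := 11) (by norm_num) (by norm_num) hz
  refine cols_complete (fun x hx => lA.slot_sign hx) (fun x hx => lA.slot_mult hx) ?_
    (lA.linSum_slots hz2 hz11) ?_ ?_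
  · rw [Lst.slots, Lst.vals, List.forall₂_map_left_iff, List.forall₂_map_right_iff, List.forall₂_same]
    intro χ hχ
    refine mem_dom_intVal hG hz χ (Lst.one_le_mult χ) ?_
    show (DA.mult χ : ℤ) * intVal z χ * intVal z χ ≤ _
    rw [Dat.mult]
    split_ifs with e
    · have h := sq_le_centralizer hG hz2 DA.S.Y
      rw [Finset.sum_congr rfl fun θ' h' => by rw [Lst.intVal_Y h' hz2 hz11],
        Finset.sum_const, DA.S.card_Y, nsmul_eq_mul, ← mul_assoc] at h
      rw [e]
      exact h
    · have h := sq_le_centralizer hG hz2 {χ}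
      simpa using h
  · have h := lA.qSum_slots (z := z) hz2
    rcases DA.frac_one (by norm_num) (eleven_data hG DA).2 hz with ⟨he, -⟩ | h'
    · rw [(eleven_data hG DA).1] at he; norm_num at he
    · rw [h', mul_zero] at h
      exact_mod_cast h
  · rw [lA.valSq_slots hz2 hz11]
    exact sq_le_centralizer hG hz2 _

variable {p : ℕ} [Fact p.Prime] {D : Dat G p} (l : Lst D)

/-- The characters of the new degrees in the second family. -/
noncomputable def newSet (D : Dat G p) (q : ℕ) : Finset (IrrCharacter G) :=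
  (Lst.B D).filter fun χ => decide (deg χ % 11 = 0 ∧ deg χ % q = 0) = true

theorem sqSum_new (q : ℕ) : extSq q l.slots = ∑ χ ∈ newSet D q, deg χ ^ 2 := by
  have _ := hG
  rw [l.extSq_slots, newSet]
  exact Finset.sum_congr (Finset.filter_congr fun χ _ => by simp) fun _ _ => rfl

/-- The inner search succeeds. -/
theorem inner_search (hp : p = 5 ∨ p = 7) {z : G} (hz : orderOf z = 2) (hzC : D.c ≠ 1 → z ∈ D.C)
    (q : ℕ) (Q : List Slot) (qv : List ℤ) (QS : Finset (IrrCharacter G))
    (hQ11 : ∀ χ ∈ QS, deg χ % 11 = 0) (hQq : ∀ χ ∈ QS, deg χ % q ≠ 0)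
    (hQval : ∀ χ ∈ Lst.B D, deg χ % 11 = 0 → deg χ % q ≠ 0 → intVal z χ ∈ valsOf Q qv (deg χ))
    (hQw : wSum (fun d => decide (d % 11 = 0)) Q qv = ∑ χ ∈ QS, (deg χ : ℤ) * intVal z χ)
    (hrem : D.c = 1 → ∀ χ, χ ∉ Lst.B DA → χ ∉ QS → χ ∉ newSet D q → 385 ∣ deg χ)
    {r : ℕ} (hr : r = ord - (sqSum lA.slots + ∑ χ ∈ QS, deg χ ^ 2 + extSq q l.slots))
    {S : ℤ} (hS : S = valSq lA.slots (lA.vals z) + ∑ χ ∈ QS, intVal z χ * intVal z χ)
    (e0 c0 : ℕ) (he0 : e0 = D.e) (hc0 : c0 = D.c) (cs : List ℕ) :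
    search (Nat.card (Subgroup.centralizer ({z} : Set G)))
      (pTest p q lA.slots Q ⟨e0, c0, l.slots, cs⟩ r (Nat.card (Subgroup.centralizer ({z} : Set G)))
        (lA.vals z) qv)
      (l.slots.map fun x => ⟨x, pCand p q lA.slots Q c0
        (Nat.card (Subgroup.centralizer ({z} : Set G))) (lA.vals z) qv x,
        decide (x.d % 11 = 0 ∧ x.d % q = 0)⟩) 0 S [] = true := by
  classical
  subst he0 hc0
  have hp2 : p ≠ 2 := by rcases hp with rfl | rfl <;> norm_num
  have hz2 : z ^ 2 = 1 := hz ▸ pow_orderOf_eq_one z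
  have hzp := not_dvd_orderOf (G := G) Fact.out hp2 hz
  have hz11 := not_dvd_orderOf (G := G) (p := 11) (by norm_num) (by norm_num) hz
  set C := Nat.card (Subgroup.centralizer ({z} : Set G)) with hC
  have hd1 : Disjoint (Lst.B DA) QS := Finset.disjoint_left.2 fun χ h h' =>
    not_mod_A hG h (hQ11 χ h')
  have hd2 : Disjoint (Lst.B DA ∪ QS) (newSet D q) := Finset.disjoint_left.2 fun χ h h' => by
    have h'' := of_decide_eq_true (Finset.mem_filter.1 h').2
    rcases Finset.mem_union.1 h with h | h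
    · exact not_mod_A hG h h''.1
    · exact hQq χ h h''.2
  set U := Lst.B DA ∪ QS ∪ newSet D q with hU
  have hUsq : ∑ χ ∈ U, intVal z χ * intVal z χ = S + ∑ χ ∈ newSet D q, intVal z χ * intVal z χ := by
    rw [hU, Finset.sum_union hd2, Finset.sum_union hd1, hS, lA.valSq_slots hz2 hz11]
  have hadd : addSq (l.slots.map fun x => ⟨x, pCand p q lA.slots Q D.c C (lA.vals z) qv x,
      decide (x.d % 11 = 0 ∧ x.d % q = 0)⟩) (l.vals z) =
      ∑ χ ∈ newSet D q, intVal z χ * intVal z χ :=
    l.addSq_slots hz2 hzp _ fun d => decide (d % 11 = 0 ∧ d % q = 0)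
  refine search_complete C _ _ (l.vals z) 0 S [] ?_ ?_ ?_ ?_
  · rw [show l.slots = l.L.map D.slot from rfl, show l.vals z = l.L.map (intVal z) from rfl,
      List.map_map, List.forall₂_map_left_iff, List.forall₂_map_right_iff, List.forall₂_same]
    intro χ hχ
    have hB := l.mem_B_of_mem_L hχ
    simp only [Function.comp, pCand]
    show intVal z χ ∈ (if deg χ = 1 then ([1] : List ℤ) else _)
    split_ifs with h1 h2 h3 h4 h5 h6
    all_goals try simp only [List.mem_filter, decide_eq_true_eq]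
    all_goals first
      | exact List.mem_singleton.2 (intVal_of_deg_one hG h1 z)
      | exact lA.mem_valsOf_slots hz2 hz11 (mem_A hG (by assumption))
      | exact hQval χ hB (not_not.1 (by assumption)) (by assumption)
      | exact mem_dom_single hG hz χ
      | exact ⟨lA.mem_valsOf_slots hz2 hz11 (mem_A hG (by assumption)),
          D.mod_two_mul hp2 hz (hzC (by assumption)) ((l.mem χ).1 hχ)⟩
      | exact ⟨hQval χ hB (not_not.1 (by assumption)) (by assumption),
          D.mod_two_mul hp2 hz (hzC (by assumption)) ((l.mem χ).1 hχ)⟩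
      | exact ⟨mem_dom_single hG hz χ,
          D.mod_two_mul hp2 hz (hzC (by assumption)) ((l.mem χ).1 hχ)⟩
  · rw [zero_add, List.map_map, show (Cell.x ∘ _ : Slot → Slot) = id from rfl, List.map_id]
    exact l.linSum_slots hz2 hzp
  · rw [hadd, ← hUsq]
    exact sq_le_centralizer hG hz2 U
  · rw [List.reverse_nil, List.nil_append, hadd, ← hUsq]
    obtain ⟨hf2, hf⟩ := l.frac_slots (z := z) hz2
    by_cases hc1 : D.c = 1
    · simp only [pTest, if_pos hc1, Bool.and_eq_true]
      refine ⟨?_, ?_⟩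
      · rcases frac_count l hG hp2 hc1 hz with h | ⟨he, h⟩
        · split_ifs <;> simp [h]
        · rw [if_neg (show ¬ D.e % 2 = 1 by omega), decide_eq_true_eq]
          exact Or.inr h
      · have hw : wSum (fun _ => true) lA.slots (lA.vals z) +
            wSum (fun d => decide (d % 11 = 0)) Q qv +
            wSum (fun d => decide (d % 11 = 0 ∧ d % q = 0)) l.slots (l.vals z) =
            ∑ χ ∈ U, (deg χ : ℤ) * intVal z χ := by
          rw [hU, Finset.sum_union hd2, Finset.sum_union hd1, hQw, lA.wSum_slots hz2 hz11,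
            l.wSum_slots hz2 hzp, Finset.filter_true_of_mem (fun _ _ => rfl), newSet]
        rw [hw]
        have hr' : r = ∑ χ ∈ Uᶜ, deg χ ^ 2 := by
          rw [hr, ← sum_compl_sq hG U, hU, Finset.sum_union hd2, Finset.sum_union hd1,
            lA.sqSum_slots, sqSum_new hG l q]
        have hdeg : ∀ χ ∈ Uᶜ, 385 ∣ deg χ := by
          intro χ hχ
          simp only [hU, Finset.mem_compl, Finset.mem_union, not_or] at hχ
          exact hrem hc1 χ hχ.1.1 hχ.1.2 hχ.2
        have hpos : ∀ χ ∈ Uᶜ, 148225 ≤ deg χ ^ 2 := fun χ hχ => by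
          have h := Nat.le_of_dvd (Block.charDegree_pos χ) (hdeg χ hχ)
          exact le_trans (by norm_num) (Nat.pow_le_pow_left h 2)
        have hcard : Uᶜ.card * 148225 ≤ r := by
          rw [hr']
          exact Finset.card_nsmul_le_sum Uᶜ _ _ hpos
        have htot := sum_deg_intVal hz2 (fun e : z = 1 => by rw [e, orderOf_one] at hz; omega)
        have hsq := sum_intVal_sq hz2
        rw [← Finset.sum_add_sum_compl U] at htot hsq
        split_ifs with h0 h1
        · have he : Uᶜ = ∅ := Finset.card_eq_zero.1 (by omega)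
          rw [he, Finset.sum_empty, add_zero] at htot hsq
          rw [decide_eq_true_eq]
          exact ⟨htot, hsq⟩
        · have hone : Uᶜ.card = 1 := by
            have hne : Uᶜ.card ≠ 0 := fun e => h0 (by rw [hr', Finset.card_eq_zero.1 e, Finset.sum_empty])
            omega
          obtain ⟨ψ, hψ⟩ := Finset.card_eq_one.1 hone
          rw [hψ, Finset.sum_singleton] at hr' htot hsq
          have hd : deg ψ = 385 := Nat.pow_left_injective two_ne_zero
            (show deg ψ ^ 2 = 385 ^ 2 by rw [← hr', h1])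
          rw [hd] at htot
          push_cast at htot
          have hdiv : (∑ χ ∈ U, (deg χ : ℤ) * intVal z χ) / 385 = -intVal z ψ := by
            rw [show ∑ χ ∈ U, (deg χ : ℤ) * intVal z χ = 385 * -intVal z ψ by linarith,
              Int.mul_ediv_cancel_left _ (by norm_num)]
          rw [decide_eq_true_eq, hdiv]
          refine ⟨Int.emod_eq_zero_of_dvd ⟨-intVal z ψ, by linarith⟩, ?_⟩
          rw [neg_mul_neg]
          exact hsq
        · rfl
    · simp only [pTest, if_neg hc1]
      split_ifs with he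
      · obtain ⟨m, hm, h⟩ := D.frac_full hp2
          (D.not_dvd_c hG (hp.imp_right Or.inl)) he hz
        rw [List.any_eq_true]
        refine ⟨m, List.mem_range.2 (Nat.lt_succ_of_le hm), ?_⟩
        rw [decide_eq_true_eq]
        apply Int.cast_injective (α := ℂ)
        push_cast
        rw [hf]
        rw [card_G hG] at h
        push_cast at h
        linear_combination -((frac l.slots (l.vals z)).2 : ℂ) * h
      · rfl

theorem embed_true (hp : p = 5 ∨ p = 7) (cs : List ℕ) :
    embed p lA.slots ⟨D.e, D.c, l.slots, cs⟩ = true := by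
  classical
  have hd : Disjoint (Lst.B DA) (newSet D 1) := Finset.disjoint_left.2 fun χ h h' =>
    not_mod_A hG h (of_decide_eq_true (Finset.mem_filter.1 h').2).1
  simp only [embed, Bool.and_eq_true, List.all_eq_true, decide_eq_true_eq]
  refine ⟨⟨fun x _ => ?_, ?_⟩, ?_⟩
  · by_cases h : x.d % 11 = 0
    · exact Or.inl h
    · exact Or.inr (cnt_le_A hG lA l h)
  · rw [lA.sqSum_slots, sqSum_new hG l 1, ← Finset.sum_union hd]
    exact sum_sq_deg_le' hG _
  · split_ifs with hc
    · simp only [Bool.and_eq_true, List.all_eq_true, decide_eq_true_eq]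
      refine ⟨fun x _ => ?_, ?_⟩
      · by_cases h : x.d % p = 0
        · exact Or.inl h
        · refine Or.inr ?_
          rw [l.cnt_slots, lA.cnt_slots]
          refine Finset.card_le_card fun χ hχ => ?_
          obtain ⟨-, hχ⟩ := Finset.mem_filter.1 hχ
          exact Finset.mem_filter.2 ⟨D.mem_B_of_not_dvd hc (by
            rw [hχ]; exact fun e => h (Nat.mod_eq_zero_of_dvd e)), hχ⟩
      · rw [lA.sqSum_slots, sqSum_new hG l 1, ← Finset.sum_union hd, sum_compl_sq hG]
        refine Nat.mod_eq_zero_of_dvd (Finset.dvd_sum fun χ hχ => ?_)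
        simp only [Finset.mem_compl, Finset.mem_union, not_or] at hχ
        have h11 : 11 ∣ deg χ := Nat.dvd_of_mod_eq_zero (by
          by_contra h; exact hχ.1 (mem_A hG h))
        have hpd : p ∣ deg χ := D.dvd_deg_of_notMem hc fun h => hχ.2 (Finset.mem_filter.2 ⟨h, by
          simp [Nat.mod_one, Nat.mod_eq_zero_of_dvd h11]⟩)
        have hcop : Nat.Coprime 11 p := by rcases hp with rfl | rfl <;> norm_num
        have := pow_dvd_pow_of_dvd (hcop.mul_dvd_of_dvd_of_dvd h11 hpd) 2
        rw [mul_pow, pow_two p, ← mul_assoc] at this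
        exact this
    · rfl

theorem joint_one (hp : p = 5 ∨ p = 7) (hzex : D.c ≠ 1 → ∃ z : G, orderOf z = 2 ∧ z ∈ D.C ∧
    Nat.card (Subgroup.centralizer ({z} : Set G)) ∈ cents p D.e D.c) :
    joint lA.slots 1 [] p ⟨D.e, D.c, l.slots, cents p D.e D.c⟩ = true := by
  classical
  have hd : Disjoint (Lst.B DA) (newSet D 1) := Finset.disjoint_left.2 fun χ h h' =>
    not_mod_A hG h (of_decide_eq_true (Finset.mem_filter.1 h').2).1
  simp only [joint, Bool.and_eq_true, List.all_eq_true, decide_eq_true_eq]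
  refine ⟨⟨fun x _ => Or.inr (Or.inl (Nat.mod_one _)), ?_⟩, ?_⟩
  · simp only [extSq, add_zero]
    rw [lA.sqSum_slots, sqSum_new hG l 1, ← Finset.sum_union hd]
    exact sum_sq_deg_le' hG _
  · by_cases hc : D.c = 1
    · simp [hc]
    · simp only [hc, false_and, if_false, Bool.true_and, List.any_eq_true]
      obtain ⟨z, hz, hzC, hcs⟩ := hzex hc
      refine ⟨_, hcs, ?_⟩
      simp only [decide_true, Bool.true_or, Bool.true_and, List.any_eq_true]
      refine ⟨lA.vals z, cols_mem hG lA hz, ?_⟩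
      simp only [List.map_nil, search, decide_true, Bool.true_and, List.reverse_nil,
        Bool.and_eq_true]
      refine ⟨by simp [qTest], ?_⟩
      refine inner_search hG lA l hp hz (fun _ => hzC) 1 [] [] ∅ (by simp) (by simp)
        (fun χ _ _ h => absurd (Nat.mod_one _) h) (by simp [wSum]) (fun e => absurd e hc)
        (by simp [extSq]) (by simp) _ _ rfl rfl _

theorem joint_two {q : ℕ} [Fact q.Prime] (hp : p = 5 ∧ q = 7 ∨ p = 7 ∧ q = 5) {Dq : Dat G q}
    (lq : Lst Dq) (hcq : Dq.c = 1) (heq : q = 7 → ¬ 2 ∣ Dq.e)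
    (hzex : ∃ z : G, orderOf z = 2 ∧ (D.c ≠ 1 → z ∈ D.C) ∧
      Nat.card (Subgroup.centralizer ({z} : Set G)) ∈ cents p D.e D.c) :
    joint lA.slots q lq.slots p ⟨D.e, D.c, l.slots, cents p D.e D.c⟩ = true := by
  classical
  have hp' : p = 5 ∨ p = 7 := hp.imp (·.1) (·.1)
  have hq1 : q ≠ 1 := (Fact.out : q.Prime).ne_one
  have hq2 : q ≠ 2 := by rcases hp with ⟨-, rfl⟩ | ⟨-, rfl⟩ <;> norm_num
  have hcop : Nat.Coprime p q ∧ p * q = 35 := by
    rcases hp with ⟨rfl, rfl⟩ | ⟨rfl, rfl⟩ <;> norm_num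
  set QS := newSet Dq 1 with hQS
  have hQ11 : ∀ χ ∈ QS, deg χ % 11 = 0 := fun χ h => (of_decide_eq_true (Finset.mem_filter.1 h).2).1
  have hQq : ∀ χ ∈ QS, deg χ % q ≠ 0 := fun χ h e =>
    Dq.not_dvd_deg_B (Finset.mem_filter.1 h).1 (Nat.dvd_of_mod_eq_zero e)
  have hmemQ : ∀ χ : IrrCharacter G, deg χ % q ≠ 0 → χ ∈ Lst.B Dq := fun χ h =>
    Dq.mem_B_of_not_dvd hcq fun e => h (Nat.mod_eq_zero_of_dvd e)
  have hd1 : Disjoint (Lst.B DA) QS := Finset.disjoint_left.2 fun χ h h' =>
    not_mod_A hG h (hQ11 χ h')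
  have hd2 : Disjoint (Lst.B DA ∪ QS) (newSet D q) := Finset.disjoint_left.2 fun χ h h' => by
    have h'' := of_decide_eq_true (Finset.mem_filter.1 h').2
    rcases Finset.mem_union.1 h with h | h
    · exact not_mod_A hG h h''.1
    · exact hQq χ h h''.2
  have hrem : D.c = 1 → ∀ χ, χ ∉ Lst.B DA → χ ∉ QS → χ ∉ newSet D q → 385 ∣ deg χ := by
    intro hc χ h1 h2 h3
    have h11 : 11 ∣ deg χ := Nat.dvd_of_mod_eq_zero (by by_contra h; exact h1 (mem_A hG h))
    have hqd : q ∣ deg χ := Nat.dvd_of_mod_eq_zero (by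
      by_contra h
      exact h2 (Finset.mem_filter.2 ⟨hmemQ χ h, by simp [Nat.mod_one, Nat.mod_eq_zero_of_dvd h11]⟩))
    have hpd : p ∣ deg χ := D.dvd_deg_of_notMem hc fun h => h3 (Finset.mem_filter.2 ⟨h, by
      simp [Nat.mod_eq_zero_of_dvd hqd, Nat.mod_eq_zero_of_dvd h11]⟩)
    have h35 := hcop.1.mul_dvd_of_dvd_of_dvd hpd hqd
    rw [hcop.2] at h35
    exact (show Nat.Coprime 35 11 by norm_num).mul_dvd_of_dvd_of_dvd h35 h11
  simp only [joint, Bool.and_eq_true, List.all_eq_true, decide_eq_true_eq]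
  refine ⟨⟨fun x _ => ?_, ?_⟩, ?_⟩
  · by_cases h : x.d % q = 0
    · exact Or.inr (Or.inl h)
    · refine Or.inr (Or.inr ?_)
      rw [l.cnt_slots, lq.cnt_slots]
      refine Finset.card_le_card fun χ hχ => ?_
      obtain ⟨-, hχ⟩ := Finset.mem_filter.1 hχ
      exact Finset.mem_filter.2 ⟨hmemQ χ (by rw [hχ]; exact h), hχ⟩
  · rw [lA.sqSum_slots, sqSum_new hG l q, sqSum_new hG lq 1, ← Finset.sum_union hd1,
      ← Finset.sum_union hd2]
    exact sum_sq_deg_le' hG _
  · rw [if_neg fun h => hq1 h.2]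
    simp only [Bool.and_eq_true, List.any_eq_true]
    refine ⟨?_, ?_⟩
    · split_ifs with hc
      · simp only [Bool.and_eq_true, List.all_eq_true, decide_eq_true_eq]
        refine ⟨fun x _ => ?_, ?_⟩
        · by_cases h : x.d % p = 0
          · exact Or.inr (Or.inl h)
          · refine Or.inr (Or.inr ?_)
            rw [l.cnt_slots, lq.cnt_slots]
            refine Finset.card_le_card fun χ hχ => ?_
            obtain ⟨-, hχ⟩ := Finset.mem_filter.1 hχ
            exact Finset.mem_filter.2 ⟨D.mem_B_of_not_dvd hc (by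
              rw [hχ]; exact fun e => h (Nat.mod_eq_zero_of_dvd e)), hχ⟩
        · rw [lA.sqSum_slots, sqSum_new hG l q, sqSum_new hG lq 1, ← Finset.sum_union hd1,
            ← Finset.sum_union hd2, sum_compl_sq hG]
          refine Nat.mod_eq_zero_of_dvd (Finset.dvd_sum fun χ hχ => ?_)
          simp only [Finset.mem_compl, Finset.mem_union, not_or] at hχ
          exact (show (148225 : ℕ) = 385 ^ 2 by norm_num) ▸
            pow_dvd_pow_of_dvd (hrem hc χ hχ.1.1 hχ.1.2 hχ.2) 2
      · rfl
    · obtain ⟨z, hz, hzC, hcs⟩ := hzex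
      refine ⟨_, hcs, ?_, lA.vals z, cols_mem hG lA hz, ?_⟩
      · simp only [Bool.or_eq_true, decide_eq_true_eq]
        exact Or.inr fun e => Dq.not_dvd_centralizer hcq hq2 hz (Nat.dvd_of_mod_eq_zero e)
      · have hz2 : z ^ 2 = 1 := hz ▸ pow_orderOf_eq_one z
        have hzq := not_dvd_orderOf (G := G) Fact.out hq2 hz
        have hz11 := not_dvd_orderOf (G := G) (p := 11) (by norm_num) (by norm_num) hz
        have hadd : addSq (lq.slots.map fun x => ⟨x, if x.d = 1 then [1] else
            if x.d % 11 ≠ 0 then valsOf lA.slots (lA.vals z) x.d else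
              dom x.d 1 (Nat.card (Subgroup.centralizer ({z} : Set G))),
            decide (x.d % 11 = 0)⟩) (lq.vals z) = ∑ χ ∈ QS, intVal z χ * intVal z χ := by
          rw [lq.addSq_slots hz2 hzq _ fun d => decide (d % 11 = 0), hQS, newSet]
          exact Finset.sum_congr (Finset.filter_congr fun χ _ => by simp [Nat.mod_one]) fun _ _ => rfl
        refine search_complete _ _ _ (lq.vals z) 0 _ [] ?_ ?_ ?_ ?_
        · rw [show lq.slots = lq.L.map Dq.slot from rfl,
            show lq.vals z = lq.L.map (intVal z) from rfl, List.map_map,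
            List.forall₂_map_left_iff, List.forall₂_map_right_iff, List.forall₂_same]
          intro χ _
          simp only [Function.comp]
          show intVal z χ ∈ (if deg χ = 1 then ([1] : List ℤ) else _)
          split_ifs with h1 h2
          all_goals first
            | exact List.mem_singleton.2 (intVal_of_deg_one hG h1 z)
            | exact lA.mem_valsOf_slots hz2 hz11 (mem_A hG (by assumption))
            | exact mem_dom_single hG hz χ
        · rw [zero_add, List.map_map, show (Cell.x ∘ _ : Slot → Slot) = id from rfl, List.map_id]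
          exact lq.linSum_slots hz2 hzq
        · rw [hadd, lA.valSq_slots hz2 hz11, ← Finset.sum_union hd1]
          exact sq_le_centralizer hG hz2 _
        · rw [List.reverse_nil, List.nil_append, Bool.and_eq_true]
          refine ⟨?_, ?_⟩
          · have h := frac_count lq hG hq2 hcq hz
            rcases hp with ⟨-, rfl⟩ | ⟨-, rfl⟩
            · simp only [qTest, if_true, decide_eq_true_eq]
              exact h.resolve_right fun h => heq rfl h.1
            · simp only [qTest, show ¬(5 = 7) by norm_num, if_false, if_true, decide_eq_true_eq]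
              exact h.imp_right (·.2)
          · refine inner_search hG lA l hp' hz hzC q lq.slots (lq.vals z) QS hQ11 hQq
              (fun χ _ _ h => lq.mem_valsOf_slots hz2 hzq (hmemQ χ h)) ?_ hrem ?_ ?_ _ _ rfl rfl _
            · rw [lq.wSum_slots hz2 hzq, hQS, newSet]
              exact Finset.sum_congr (Finset.filter_congr fun χ _ => by simp [Nat.mod_one]) fun _ _ => rfl
            · rw [sqSum_new hG lq 1]
            · rw [hadd]

end Search

theorem search_all {cfg : List Slot} (h : cfg ∈ cfgTable) :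
    ((pairs table5 table7 cfg).isEmpty ||
      decide (cfg = goalCfg ∧ pairs table5 table7 cfg = [(5, goal5, goal7)])) = true := by
  have e : cfgTable = (List.range 18).flatMap fun k => (cfgTable.drop (8 * k)).take 8 := by
    decide +kernel
  rw [e, List.mem_flatMap] at h
  obtain ⟨k, hk, h⟩ := h
  rw [List.mem_range] at hk
  interval_cases k
  exacts [List.all_eq_true.1 search_0 _ h, List.all_eq_true.1 search_8 _ h,
    List.all_eq_true.1 search_16 _ h, List.all_eq_true.1 search_24 _ h,
    List.all_eq_true.1 search_32 _ h, List.all_eq_true.1 search_40 _ h,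
    List.all_eq_true.1 search_48 _ h, List.all_eq_true.1 search_56 _ h,
    List.all_eq_true.1 search_64 _ h, List.all_eq_true.1 search_72 _ h,
    List.all_eq_true.1 search_80 _ h, List.all_eq_true.1 search_88 _ h,
    List.all_eq_true.1 search_96 _ h, List.all_eq_true.1 search_104 _ h,
    List.all_eq_true.1 search_112 _ h, List.all_eq_true.1 search_120 _ h,
    List.all_eq_true.1 search_128 _ h, List.all_eq_true.1 search_136 _ h]

/-- The three families are the surviving ones. -/
theorem front [Fact (Nat.Prime 11)] [Fact (Nat.Prime 7)] [Fact (Nat.Prime 5)] (hG : IsM22 G)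
    (DA : Dat G 11) (D5 : Dat G 5) (D7 : Dat G 7) :
    D5.c = 1 ∧ D5.e = 4 ∧ D7.c = 1 ∧ D7.e = 3 ∧
      ∃ (lA : Lst DA) (l5 : Lst D5) (l7 : Lst D7),
        lA.slots = goalCfg ∧ l5.slots = goal5.Z ∧ l7.slots = goal7.Z := by
  classical
  obtain ⟨LA, hA1, hA2, hA3⟩ := exists_cfg hG DA
  obtain ⟨L5, h51, h52, h53⟩ := exists_opt_five hG D5
  obtain ⟨L7, h71, h72, h73⟩ := exists_opt_seven hG D7
  set lA : Lst DA := ⟨LA, hA1, hA2⟩
  set l5 : Lst D5 := ⟨L5, h51, h52⟩
  set l7 : Lst D7 := ⟨L7, h71, h72⟩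
  obtain ⟨e5, c5, -, e7, c7, -⟩ := five_data hG D5 D7
  set o5 : Opt := ⟨D5.e, D5.c, l5.slots, cents 5 D5.e D5.c⟩ with ho5
  set o7 : Opt := ⟨D7.e, D7.c, l7.slots, cents 7 D7.e D7.c⟩ with ho7
  have hA5 : o5 ∈ alone table5 lA.slots 5 := List.mem_filter.2 ⟨h53, by
    rw [Bool.and_eq_true]
    exact ⟨embed_true hG lA l5 (Or.inl rfl) _, joint_one hG lA l5 (Or.inl rfl)
      fun h => D5.exists_involution_center hG (Or.inl rfl) h (c5 h)⟩⟩
  have hA7 : o7 ∈ alone table7 lA.slots 7 := List.mem_filter.2 ⟨h73, by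
    rw [Bool.and_eq_true]
    exact ⟨embed_true hG lA l7 (Or.inr rfl) _, joint_one hG lA l7 (Or.inr rfl)
      fun h => D7.exists_involution_center hG (Or.inr (Or.inl rfl)) h (c7 h)⟩⟩
  have hz5 : D5.c = 1 → ∃ z : G, orderOf z = 2 ∧ (D7.c ≠ 1 → z ∈ D7.C) ∧
      Nat.card (Subgroup.centralizer ({z} : Set G)) ∈ cents 7 D7.e D7.c := by
    intro h5
    by_cases h7 : D7.c = 1
    · obtain ⟨z, hz, hz'⟩ := exists_involution_sylow hG D5 D7 h5 h7 D7 h7
      exact ⟨z, hz, fun e => absurd h7 e, hz'⟩
    · obtain ⟨z, hz, hzC, hz'⟩ := D7.exists_involution_center hG (Or.inr (Or.inl rfl)) h7 (c7 h7)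
      exact ⟨z, hz, fun _ => hzC, hz'⟩
  have hz7 : D7.c = 1 → ∃ z : G, orderOf z = 2 ∧ (D5.c ≠ 1 → z ∈ D5.C) ∧
      Nat.card (Subgroup.centralizer ({z} : Set G)) ∈ cents 5 D5.e D5.c := by
    intro h7
    by_cases h5 : D5.c = 1
    · obtain ⟨z, hz, hz'⟩ := exists_involution_sylow hG D5 D7 h5 h7 D5 h5
      exact ⟨z, hz, fun e => absurd h5 e, hz'⟩
    · obtain ⟨z, hz, hzC, hz'⟩ := D5.exists_involution_center hG (Or.inl rfl) h5 (c5 h5)
      exact ⟨z, hz, fun _ => hzC, hz'⟩
  have hs := search_all hA3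
  change ((pairs table5 table7 lA.slots).isEmpty || decide (lA.slots = goalCfg ∧
    pairs table5 table7 lA.slots = [(5, goal5, goal7)])) = true at hs
  have key : lA.slots = goalCfg ∧ o5 = goal5 ∧ o7 = goal7 := by
    have hne : ¬((alone table5 lA.slots 5).isEmpty || (alone table7 lA.slots 7).isEmpty) = true := by
      rw [Bool.or_eq_true, List.isEmpty_iff, List.isEmpty_iff]
      rintro (h | h)
      · rw [h] at hA5; exact List.not_mem_nil hA5
      · rw [h] at hA7; exact List.not_mem_nil hA7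
    have hmem : ∃ t, t ∈ pairs table5 table7 lA.slots ∧
        (t = (5, o5, o7) ∨ t.1 ≠ 5) := by
      simp only [pairs, if_neg hne]
      split_ifs with h5 h7
      · refine ⟨(5, o5, o7), ?_, Or.inl rfl⟩
        have hc : D5.c = 1 := by simpa [ho5] using List.all_eq_true.1 h5 o5 hA5
        exact List.mem_flatMap.2 ⟨o5, hA5, List.mem_map.2 ⟨o7, List.mem_filter.2 ⟨hA7,
          joint_two hG lA l7 (Or.inr ⟨rfl, rfl⟩) l5 hc (by norm_num) (hz5 hc)⟩, rfl⟩⟩
      · refine ⟨(7, o7, o5), ?_, Or.inr (by norm_num)⟩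
        have hc : D7.c = 1 := by simpa [ho7] using List.all_eq_true.1 h7 o7 hA7
        exact List.mem_flatMap.2 ⟨o7, hA7, List.mem_map.2 ⟨o5, List.mem_filter.2 ⟨hA5,
          joint_two hG lA l5 (Or.inl ⟨rfl, rfl⟩) l7 hc (fun _ h => by rw [e7 hc] at h; norm_num at h)
            (hz7 hc)⟩, rfl⟩⟩
      · exact ⟨_, List.mem_singleton.2 rfl, Or.inr (by norm_num)⟩
    obtain ⟨t, ht, ht'⟩ := hmem
    rw [Bool.or_eq_true, List.isEmpty_iff, decide_eq_true_eq] at hs
    rcases hs with hs | ⟨hs1, hs2⟩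
    · rw [hs] at ht; exact absurd ht List.not_mem_nil
    · rw [hs2, List.mem_singleton] at ht
      rcases ht' with h | h
      · rw [h, Prod.mk.injEq, Prod.mk.injEq] at ht
        exact ⟨hs1, ht.2.1, ht.2.2⟩
      · exact absurd (by rw [ht]) h
  obtain ⟨k1, k2, k3⟩ := key
  exact ⟨congrArg Opt.c k2, congrArg Opt.e k2, congrArg Opt.c k3, congrArg Opt.e k3, lA, l5, l7, k1,
    congrArg Opt.Z k2, congrArg Opt.Z k3⟩

end Cfsg.Lib.MTwentyTwo
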