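import Cfsg.Agent.Lib.MTwentyTwo.Columns

/-!
# Local data of a simple group of order 443520 and counting lemmas

`Loc G` records what the character theory gives: one class of involutions with centralizer order
384, one class of elements of order 3 with centralizer order 36, no element of order 9.
-/

set_option autoImplicit false
set_option linter.style.haveILetI false
set_option linter.unusedSectionVars false

namespace Cfsg.Lib.MTwentyTwo

open Cfsg Cfsg.Lib

universe u

/-- The local data. -/
structure Loc (G : Type u) [Group G] : Prop where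
  simple : IsSimpleGroup G
  card : Nat.card G = 443520
  cent_two : ∀ t : G, orderOf t = 2 → Nat.card (Subgroup.centralizer ({t} : Set G)) = 384
  cent_three : ∀ u : G, orderOf u = 3 → Nat.card (Subgroup.centralizer ({u} : Set G)) = 36
  conj_two : ∀ t t' : G, orderOf t = 2 → orderOf t' = 2 → IsConj t t'
  conj_three : ∀ u u' : G, orderOf u = 3 → orderOf u' = 3 → IsConj u u'
  no_nine : ∀ v : G, orderOf v ≠ 9

theorem exists_tbl_of {G : Type u} [Group G] [Fintype G] (hG : IsM22 G) : Nonempty (Tbl G) := by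
  haveI : Fact (Nat.Prime 11) := ⟨by norm_num⟩
  haveI : Fact (Nat.Prime 7) := ⟨by norm_num⟩
  haveI : Fact (Nat.Prime 5) := ⟨by norm_num⟩
  exact exists_tbl hG

theorem loc {G : Type u} [Group G] [Fintype G] (hG : IsM22 G) : Loc G := by
  obtain ⟨T⟩ := exists_tbl_of hG
  exact ⟨hG.1, hG.2, fun t ht => (T.inv_col hG ht).1, fun u hu => (T.three_col hG hu).1,
    fun t t' h h' => T.inv_conj hG h h', fun u u' h h' => T.three_conj hG h h', T.no_nine hG⟩

section General

variable {G : Type u} [Group G] [Finite G]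

theorem orderOf_eq_prime_of_pow {x : G} {p : ℕ} (hp : p.Prime) (h : x ^ p = 1) (h1 : x ≠ 1) :
    orderOf x = p :=
  ((Nat.dvd_prime hp).1 (orderOf_dvd_of_pow_eq_one h)).resolve_left fun e =>
    h1 (orderOf_eq_one_iff.1 e)

theorem orderOf_conj (g x : G) : orderOf (g * x * g⁻¹) = orderOf x := (MulAut.conj g).orderOf_eq x

theorem mem_cent {g x : G} : g ∈ Subgroup.centralizer ({x} : Set G) ↔ g * x = x * g :=
  Subgroup.mem_centralizer_singleton_iff

theorem conj_eq_iff_commute {g x : G} : g * x * g⁻¹ = x ↔ g * x = x * g := mul_inv_eq_iff_eq_mul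

/-- The action by conjugation on an invariant subgroup. -/
@[reducible] def conjAction (P R : Subgroup G) (h : ∀ g ∈ P, ∀ r ∈ R, g * r * g⁻¹ ∈ R) :
    MulAction P R where
  smul g r := ⟨(g : G) * r * (g : G)⁻¹, h g g.2 r r.2⟩
  one_smul r := Subtype.ext (show (1 : G) * r * (1 : G)⁻¹ = r by group)
  mul_smul g g' r := Subtype.ext (show (g : G) * g' * r * ((g : G) * g')⁻¹ =
    g * (g' * r * (g' : G)⁻¹) * (g : G)⁻¹ by group)

/-- An element of order 3 normalizing a subgroup. -/
theorem card_mod_three (R : Subgroup G) {u : G} (hu : orderOf u = 3)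
    (h : ∀ r ∈ R, u * r * u⁻¹ ∈ R) :
    Nat.card R % 3 = Nat.card (R ⊓ Subgroup.centralizer ({u} : Set G) : Subgroup G) % 3 := by
  classical
  haveI : Fact (Nat.Prime 3) := ⟨Nat.prime_three⟩
  set P := Subgroup.zpowers u
  have hP : ∀ g ∈ P, ∀ r ∈ R, g * r * g⁻¹ ∈ R := by
    intro g hg r hr
    obtain ⟨n, rfl⟩ := (mem_powers_iff_mem_zpowers.2 hg)
    clear hg
    induction n generalizing r with
    | zero => simpa using hr
    | succ n ih =>
      have := ih _ (h r hr)
      rw [show u ^ (n + 1) * r * (u ^ (n + 1))⁻¹ = u ^ n * (u * r * u⁻¹) * (u ^ n)⁻¹ by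
        rw [pow_succ]; group]
      exact this
  letI := conjAction P R hP
  have hPg : IsPGroup 3 P := IsPGroup.of_card (n := 1) (by rw [Nat.card_zpowers, hu, pow_one])
  have hmod := hPg.card_modEq_card_fixedPoints R
  refine Eq.trans hmod (congrArg (· % 3) (Nat.card_congr ?_))
  exact
    { toFun := fun r => ⟨r.1.1, r.1.2, by
        have h1 := congrArg Subtype.val (r.2 ⟨u, Subgroup.mem_zpowers u⟩)
        exact mem_cent.2 (conj_eq_iff_commute.1 h1).symm⟩
      invFun := fun r => ⟨⟨r.1, r.2.1⟩, fun g => Subtype.ext (by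
        show (g : G) * r.1 * (g : G)⁻¹ = r.1
        obtain ⟨k, hk⟩ := Subgroup.mem_zpowers_iff.1 g.2
        rw [conj_eq_iff_commute, ← hk]
        exact ((show Commute r.1 u from mem_cent.1 r.2.2).symm.zpow_left k).eq)⟩
      left_inv := fun _ => rfl
      right_inv := fun _ => rfl }

set_option maxHeartbeats 1000000 in
/-- Burnside's count for an elementary group of order 9 normalizing a subgroup. -/
theorem burnside_nine (R : Subgroup G) {u w : G} (hu : orderOf u = 3) (hw : orderOf w = 3)
    (hc : u * w = w * u) (hne : w ∉ Subgroup.zpowers u) (hRu : ∀ r ∈ R, u * r * u⁻¹ ∈ R)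
    (hRw : ∀ r ∈ R, w * r * w⁻¹ ∈ R) :
    (Nat.card R + 2 * (Nat.card (R ⊓ Subgroup.centralizer ({u} : Set G) : Subgroup G) +
      Nat.card (R ⊓ Subgroup.centralizer ({w} : Set G) : Subgroup G) +
      Nat.card (R ⊓ Subgroup.centralizer ({u * w} : Set G) : Subgroup G) +
      Nat.card (R ⊓ Subgroup.centralizer ({u * w ^ 2} : Set G) : Subgroup G))) % 9 = 0 := by
  classical
  haveI := Fintype.ofFinite G
  have hu3 : u ^ 3 = 1 := hu ▸ pow_orderOf_eq_one u
  have hw3 : w ^ 3 = 1 := hw ▸ pow_orderOf_eq_one w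
  have hcomm : Commute u w := hc
  let f : Multiplicative (ZMod 3) × Multiplicative (ZMod 3) →* G :=
    MonoidHom.mk' (fun q => u ^ (q.1.toAdd.val) * w ^ (q.2.toAdd.val)) (by
      intro a b
      have hpow : ∀ (x : G), x ^ 3 = 1 → ∀ m n : ZMod 3, x ^ (m + n).val = x ^ m.val * x ^ n.val := by
        intro x hx m n
        rw [← pow_add, ZMod.val_add, ← pow_eq_pow_mod _ hx]
      simp only [Prod.fst_mul, Prod.snd_mul, toAdd_mul, hpow u hu3, hpow w hw3]
      rw [mul_assoc (u ^ _), ← mul_assoc (u ^ (Multiplicative.toAdd b.1).val),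
        (hcomm.pow_pow _ _).eq]
      group)
  have hinj : Function.Injective f := by
    rw [injective_iff_map_eq_one]
    rintro ⟨a, b⟩ h
    have hb : (Multiplicative.toAdd b).val = 0 := by
      by_contra hb
      have hlt := ZMod.val_lt (Multiplicative.toAdd b)
      have hmem : w ^ (Multiplicative.toAdd b).val ∈ Subgroup.zpowers u := by
        have e : w ^ (Multiplicative.toAdd b).val = (u ^ (Multiplicative.toAdd a).val)⁻¹ :=
          eq_inv_of_mul_eq_one_right h
        rw [e]
        exact inv_mem (pow_mem (Subgroup.mem_zpowers u) _)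
      obtain ⟨m, hm⟩ := exists_pow_eq_self_of_coprime (x := w) (n := (Multiplicative.toAdd b).val)
        (by rw [hw]; interval_cases (Multiplicative.toAdd b).val <;> first | omega | norm_num)
      exact hne (hm ▸ pow_mem hmem m)
    have ha : (Multiplicative.toAdd a).val = 0 := by
      have e : u ^ (Multiplicative.toAdd a).val = 1 := by
        have h' : u ^ (Multiplicative.toAdd a).val * w ^ (Multiplicative.toAdd b).val = 1 := h
        rwa [hb, pow_zero, mul_one] at h'
      have hlt := ZMod.val_lt (Multiplicative.toAdd a)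
      by_contra hne'
      have h2 := Nat.le_of_dvd (Nat.pos_of_ne_zero hne') (orderOf_dvd_of_pow_eq_one e)
      rw [hu] at h2
      omega
    rw [ZMod.val_eq_zero] at ha hb
    exact Prod.ext (toAdd_eq_zero.1 ha) (toAdd_eq_zero.1 hb)
  have hf : ∀ q, ∀ r ∈ R, f q * r * (f q)⁻¹ ∈ R := by
    intro q r hr
    have key : ∀ x : G, (∀ r ∈ R, x * r * x⁻¹ ∈ R) → ∀ n : ℕ, ∀ r ∈ R, x ^ n * r * (x ^ n)⁻¹ ∈ R := by
      intro x hx n
      induction n with
      | zero => intro r hr; simpa using hr
      | succ n ih =>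
        intro r hr
        rw [show x ^ (n + 1) * r * (x ^ (n + 1))⁻¹ = x ^ n * (x * r * x⁻¹) * (x ^ n)⁻¹ by
          rw [pow_succ]; group]
        exact ih _ (hx r hr)
    show u ^ _ * w ^ _ * r * (u ^ _ * w ^ _)⁻¹ ∈ R
    rw [show u ^ (Multiplicative.toAdd q.1).val * w ^ (Multiplicative.toAdd q.2).val * r *
      (u ^ (Multiplicative.toAdd q.1).val * w ^ (Multiplicative.toAdd q.2).val)⁻¹ =
      u ^ (Multiplicative.toAdd q.1).val * (w ^ (Multiplicative.toAdd q.2).val * r *
        (w ^ (Multiplicative.toAdd q.2).val)⁻¹) * (u ^ (Multiplicative.toAdd q.1).val)⁻¹ by group]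
    exact key u hRu _ _ (key w hRw _ _ hr)
  letI act : MulAction (Multiplicative (ZMod 3) × Multiplicative (ZMod 3)) R :=
    { smul := fun q r => ⟨f q * r * (f q)⁻¹, hf q r r.2⟩
      one_smul := fun r => Subtype.ext (show f 1 * r * (f 1)⁻¹ = r by rw [map_one]; group)
      mul_smul := fun q q' r => Subtype.ext (show f (q * q') * r * (f (q * q'))⁻¹ =
        f q * (f q' * r * (f q')⁻¹) * (f q)⁻¹ by rw [map_mul]; group) }
  haveI : ∀ q, Fintype (MulAction.fixedBy R (q : Multiplicative (ZMod 3) × Multiplicative (ZMod 3))) :=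
    fun _ => Fintype.ofFinite _
  haveI : Fintype (MulAction.orbitRel.Quotient (Multiplicative (ZMod 3) × Multiplicative (ZMod 3)) R) :=
    Fintype.ofFinite _
  have hB := MulAction.sum_card_fixedBy_eq_card_orbits_mul_card_group
    (Multiplicative (ZMod 3) × Multiplicative (ZMod 3)) R
  have hfix : ∀ q, Fintype.card (MulAction.fixedBy R q) =
      Nat.card (R ⊓ Subgroup.centralizer ({f q} : Set G) : Subgroup G) := by
    intro q
    rw [← Nat.card_eq_fintype_card]
    exact Nat.card_congr
      { toFun := fun r => ⟨r.1.1, r.1.2, mem_cent.2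
          (conj_eq_iff_commute.1 (show f q * (r.1 : G) * (f q)⁻¹ = r.1 from
            congrArg Subtype.val r.2)).symm⟩
        invFun := fun r => ⟨⟨r.1, r.2.1⟩, Subtype.ext
          (show f q * r.1 * (f q)⁻¹ = r.1 from conj_eq_iff_commute.2 (mem_cent.1 r.2.2).symm)⟩
        left_inv := fun _ => rfl
        right_inv := fun _ => rfl }
  have hinvC : ∀ {x y : G}, x * y = 1 →
      Subgroup.centralizer ({y} : Set G) = Subgroup.centralizer ({x} : Set G) := by
    intro x y h
    rw [eq_inv_of_mul_eq_one_right h, ← Small.centralizer_zpowers, Subgroup.zpowers_inv,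
      Small.centralizer_zpowers]
  rw [Finset.sum_congr rfl fun q _ => hfix q] at hB
  have hcards : Fintype.card (Multiplicative (ZMod 3) × Multiplicative (ZMod 3)) = 9 := by
    rw [Fintype.card_prod, Fintype.card_multiplicative, ZMod.card]
  rw [hcards, Fintype.sum_prod_type] at hB
  have hsum : ∀ F : Multiplicative (ZMod 3) → ℕ, ∑ a, F a =
      F (Multiplicative.ofAdd 0) + F (Multiplicative.ofAdd 1) + F (Multiplicative.ofAdd 2) := fun F => by
    rw [← Equiv.sum_comp Multiplicative.ofAdd]
    exact Fin.sum_univ_three _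
  have hv : ∀ i j : ZMod 3,
      f (Multiplicative.ofAdd i, Multiplicative.ofAdd j) = u ^ i.val * w ^ j.val := fun _ _ => rfl
  simp only [hsum, hv] at hB
  rw [show (0 : ZMod 3).val = 0 from rfl, show (1 : ZMod 3).val = 1 from rfl,
    show (2 : ZMod 3).val = 2 from rfl] at hB
  simp only [pow_zero, pow_one, one_mul, mul_one] at hB
  rw [hinvC (x := w) (y := w ^ 2) (by rw [← pow_succ', hw3]),
    hinvC (x := u) (y := u ^ 2) (by rw [← pow_succ', hu3]),
    hinvC (x := u * w ^ 2) (y := u ^ 2 * w) (by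
      calc u * w ^ 2 * (u ^ 2 * w) = u * (w ^ 2 * u ^ 2) * w := by group
        _ = u * (u ^ 2 * w ^ 2) * w := by rw [(hcomm.pow_pow 2 2).eq]
        _ = u ^ 3 * w ^ 3 := by group
        _ = 1 := by rw [hu3, hw3, one_mul]),
    hinvC (x := u * w) (y := u ^ 2 * w ^ 2) (by
      calc u * w * (u ^ 2 * w ^ 2) = u * (w * u ^ 2) * w ^ 2 := by group
        _ = u * (u ^ 2 * w) * w ^ 2 := by rw [(hcomm.pow_left 2).eq]
        _ = u ^ 3 * w ^ 3 := by group
        _ = 1 := by rw [hu3, hw3, one_mul]),
    show (R ⊓ Subgroup.centralizer ({(1 : G)} : Set G)) = R from inf_eq_left.2 fun r _ =>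
      mem_cent.2 (by rw [mul_one, one_mul])] at hB
  omega

end General

end Cfsg.Lib.MTwentyTwo
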