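import Cfsg.Agent.Lib.MTwentyTwo.PermChar

/-!
# The suborbits

The normalizer of the elementary group has orbits of sizes 1, 16, 60 on the 77 points, and the
elementary group is regular on the orbit of size 16 and has stabilizers of order 4 on the orbit of
size 60.
-/

set_option autoImplicit false
set_option linter.style.haveILetI false
set_option linter.unusedSectionVars false

namespace Cfsg.Lib.MTwentyTwo

open Cfsg Cfsg.Lib

universe u

variable {G : Type u} [Group G]

/-- The base point. -/
def base (x : G) : G ⧸ normTwo x := QuotientGroup.mk 1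

/-- The points of the short suborbit. -/
def Near (x : G) (q p : G ⧸ normTwo x) : Prop := ∃ e ∈ twoCore x, e • q = p

/-- The points of the long suborbit. -/
def Far (x : G) (q p : G ⧸ normTwo x) : Prop := p ≠ base x ∧ ¬ Near x q p

/-- The stabilizer in the elementary group. -/
def stabE (x : G) (p : G ⧸ normTwo x) : Subgroup G := twoCore x ⊓ MulAction.stabilizer G p

theorem mem_stabE {x e : G} {p : G ⧸ normTwo x} : e ∈ stabE x p ↔ e ∈ twoCore x ∧ e • p = p := Iff.rfl

theorem smul_base_eq_iff {x g : G} : g • base x = base x ↔ g ∈ normTwo x := by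
  rw [base, MulAction.Quotient.smul_mk, QuotientGroup.eq, smul_eq_mul, mul_one, mul_one, inv_mem_iff]

/-- A point of the short suborbit, with the facts on both suborbits. -/
structure Root (x : G) (q : G ⧸ normTwo x) : Prop where
  ne : q ≠ base x
  free : ∀ e ∈ twoCore x, e • q = q → e = 1
  near_inv : ∀ h ∈ normTwo x, ∀ p, Near x q p → Near x q (h • p)
  far_stab : ∀ p, Far x q p → Nat.card (stabE x p) = 4
  far_trans : ∀ p p', Far x q p → Far x q p' → ∃ h ∈ normTwo x, h • p = p'
  card_far : Nat.card {p // Far x q p} = 60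

set_option synthInstance.maxSize 4000 in
theorem suborbit_arith : ∀ n1 : ℕ, n1 < 76 → ∀ a1 ∈ ([1, 2, 4, 8] : List ℕ), ∀ a2 ∈ ([1, 2, 4, 8] : List ℕ),
    5760 % n1 = 0 → 5760 % (76 - n1) = 0 → n1 * (a1 - 1) + (76 - n1) * (a2 - 1) = 180 →
      (n1 = 16 ∧ a1 = 1 ∧ a2 = 4) ∨ (n1 = 60 ∧ a1 = 4 ∧ a2 = 1) := by
  decide +kernel

variable [Finite G]

namespace Pair

variable {x v : G} (P : Pair x v) (L : Loc G)
include P L

theorem card_points : Nat.card (G ⧸ normTwo x) = 77 := by
  rw [← Subgroup.index_eq_card, P.index_normTwo L]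

/-- Only the base point is fixed by the elementary group. -/
theorem eq_base_of_fixed {p : G ⧸ normTwo x} (h : ∀ e ∈ twoCore x, e • p = p) : p = base x := by
  obtain ⟨g, rfl⟩ := QuotientGroup.mk_surjective p
  rw [base, QuotientGroup.eq, mul_one, inv_mem_iff]
  by_contra hg
  have hmem : ∀ e : twoCore x, g⁻¹ * (e : G) * g ∈ normTwo x := fun e => by
    have h' := h e e.2
    rw [MulAction.Quotient.smul_mk, QuotientGroup.eq] at h'
    have := inv_mem h'
    rwa [mul_inv_rev, inv_inv, smul_eq_mul, ← mul_assoc] at this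
  haveI hN : ((twoCore x).subgroupOf (normTwo x)).Normal := Subgroup.normal_in_normalizer
  let f : twoCore x →* normTwo x ⧸ (twoCore x).subgroupOf (normTwo x) :=
    (QuotientGroup.mk' _).comp (MonoidHom.mk' (fun e => ⟨g⁻¹ * (e : G) * g, hmem e⟩) fun a b =>
      Subtype.ext (show g⁻¹ * ((a : G) * b) * g = g⁻¹ * a * g * (g⁻¹ * b * g) by group))
  have hf : Function.Injective f := by
    rw [injective_iff_map_eq_one]
    intro e he
    have hm : g⁻¹ * (e : G) * g ∈ twoCore x := Subgroup.mem_subgroupOf.1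
      ((QuotientGroup.eq_one_iff (⟨g⁻¹ * (e : G) * g, hmem e⟩ : normTwo x)).1 he)
    by_contra he1
    refine hg (inv_mem_iff.1 (P.ti L e.2 (fun e' => he1 (Subtype.ext e')) ?_))
    rwa [inv_inv]
  have hcard := Subgroup.card_dvd_of_injective f hf
  have hq : Nat.card (normTwo x ⧸ (twoCore x).subgroupOf (normTwo x)) * 16 = 5760 := by
    rw [← P.card_normTwo L, Subgroup.card_eq_card_quotient_mul_card_subgroup
      ((twoCore x).subgroupOf (normTwo x))]
    congr 1
    rw [Nat.card_congr (Subgroup.subgroupOfEquivOfLe (P.two_le_normTwo L)).toEquiv, L.card_two P.ox]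
  rw [L.card_two P.ox] at hcard
  omega

theorem card_stabE_cases {p : G ⧸ normTwo x} (hp : p ≠ base x) :
    Nat.card (stabE x p) ∈ [1, 2, 4, 8] := by
  have hd := Subgroup.card_dvd_of_le (inf_le_left : stabE x p ≤ twoCore x)
  rw [L.card_two P.ox, show (16 : ℕ) = 2 ^ 4 from rfl] at hd
  obtain ⟨j, hj, hj'⟩ := (Nat.dvd_prime_pow Nat.prime_two).1 hd
  rw [show Nat.card (stabE x p) = 2 ^ j from hj']
  interval_cases j <;> simp
  apply hp (P.eq_base_of_fixed L fun e he => ?_)
  have heq : stabE x p = twoCore x := Subgroup.eq_of_le_of_card_ge inf_le_left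
    (by rw [show Nat.card (stabE x p) = 2 ^ 4 from hj', L.card_two P.ox]; norm_num)
  exact (mem_stabE.1 (heq.symm ▸ he : e ∈ stabE x p)).2

theorem card_stabE_smul {h : G} (hh : h ∈ normTwo x) (p : G ⧸ normTwo x) :
    Nat.card (stabE x (h • p)) = Nat.card (stabE x p) := by
  refine (Nat.card_congr ((MulAut.conj h).toEquiv.subtypeEquiv fun e => ?_)).symm
  show e ∈ stabE x p ↔ h * e * h⁻¹ ∈ stabE x (h • p)
  simp only [mem_stabE, mul_smul, inv_smul_smul, smul_left_cancel_iff]
  refine and_congr_left' ⟨fun he => normTwo_conj hh he, fun he => ?_⟩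
  have := normTwo_conj (inv_mem hh) he
  rwa [show h⁻¹ * (h * e * h⁻¹) * h⁻¹⁻¹ = e by group] at this

/-- The two nontrivial suborbits. -/
theorem exists_root (F : Fix x) : ∃ q, Root x q := by
  classical
  haveI := Fintype.ofFinite G
  haveI : Fintype (G ⧸ normTwo x) := Fintype.ofFinite _
  set H := normTwo x with hH
  haveI : Fintype (MulAction.orbitRel.Quotient H (G ⧸ H)) := Fintype.ofFinite _
  let cls : G ⧸ H → MulAction.orbitRel.Quotient H (G ⧸ H) := Quotient.mk''
  have hcls : ∀ p p', cls p = cls p' ↔ p ∈ MulAction.orbit H p' := fun p p' =>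
    Quotient.eq''.trans MulAction.orbitRel_apply
  have hfixH : ∀ p : G ⧸ H, p ∈ MulAction.orbit H (base x) → p = base x := by
    rintro p ⟨h, rfl⟩
    exact smul_base_eq_iff.2 h.2
  have hF := F.orbits
  rw [Nat.card_eq_fintype_card] at hF
  obtain ⟨c1, hc1, c2, hc2, hc12⟩ : ∃ c1, c1 ≠ cls (base x) ∧ ∃ c2, c2 ≠ cls (base x) ∧ c1 ≠ c2 := by
    have h2 : ((Finset.univ).erase (cls (base x))).card = 2 := by
      rw [Finset.card_erase_of_mem (Finset.mem_univ _), Finset.card_univ, hF]
    obtain ⟨c1, c2, hne, he⟩ := Finset.card_eq_two.1 h2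
    exact ⟨c1, (Finset.mem_erase.1 (he ▸ Finset.mem_insert_self c1 {c2})).1, c2,
      (Finset.mem_erase.1 (he ▸ Finset.mem_insert_of_mem (Finset.mem_singleton_self c2))).1, hne⟩
  obtain ⟨p1, rfl⟩ := Quotient.exists_rep c1
  obtain ⟨p2, rfl⟩ := Quotient.exists_rep c2
  have hall : ∀ p, p ≠ base x → p ∈ MulAction.orbit H p1 ∨ p ∈ MulAction.orbit H p2 := by
    intro p hp
    by_contra hno
    rw [not_or] at hno
    have hsub : ({cls (base x), cls p1, cls p2, cls p} : Finset _).card ≤ 3 :=
      hF ▸ Finset.card_le_univ _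
    rw [Finset.card_insert_of_notMem, Finset.card_insert_of_notMem, Finset.card_pair] at hsub
    · omega
    · exact fun e => hno.2 ((hcls _ _).1 e.symm)
    · simp only [Finset.mem_insert, Finset.mem_singleton, not_or]
      exact ⟨hc12, fun e => hno.1 ((hcls _ _).1 e.symm)⟩
    · simp only [Finset.mem_insert, Finset.mem_singleton, not_or]
      exact ⟨fun e => hc1 e.symm, fun e => hc2 e.symm,
        fun e => hp (hfixH p ((hcls _ _).1 e.symm))⟩
  have hne : ∀ i : G ⧸ H, i ∈ [p1, p2] → ∀ p ∈ MulAction.orbit H i, p ≠ base x := by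
    intro i hi p hp e
    have : cls i = cls (base x) := by rw [← e]; exact ((hcls _ _).2 hp).symm
    rcases List.mem_pair.1 hi with rfl | rfl
    · exact hc1 this
    · exact hc2 this
  set O1 := Finset.univ.filter (· ∈ MulAction.orbit H p1) with hO1
  set O2 := Finset.univ.filter (· ∈ MulAction.orbit H p2) with hO2
  have hdisj : Disjoint O1 O2 := by
    rw [Finset.disjoint_left]
    intro p h1 h2
    exact hc12 (((hcls _ _).2 (Finset.mem_filter.1 h1).2).symm.trans
      ((hcls _ _).2 (Finset.mem_filter.1 h2).2))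
  have hunion : O1 ∪ O2 = Finset.univ.erase (base x) := by
    ext p
    simp only [hO1, hO2, Finset.mem_union, Finset.mem_filter, Finset.mem_univ, true_and,
      Finset.mem_erase, and_true]
    exact ⟨fun h => h.elim (hne p1 (by simp) p) (hne p2 (by simp) p), hall p⟩
  have hsum76 : O1.card + O2.card = 76 := by
    rw [← Finset.card_union_of_disjoint hdisj, hunion, Finset.card_erase_of_mem (Finset.mem_univ _),
      Finset.card_univ, ← Nat.card_eq_fintype_card, P.card_points L]
  have hdvd : ∀ i : G ⧸ H, (Finset.univ.filter (· ∈ MulAction.orbit H i)).card ∣ 5760 := by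
    intro i
    have h := (MulAction.stabilizer H i).card_mul_index
    rw [MulAction.index_stabilizer, P.card_normTwo L] at h
    refine Dvd.intro_left (Nat.card (MulAction.stabilizer H i)) (Eq.trans ?_ h)
    congr 1
    rw [← Set.ncard_coe_finset]
    congr 1
    ext p
    simp
  have hconst : ∀ i : G ⧸ H, ∀ p ∈ MulAction.orbit H i, Nat.card (stabE x p) = Nat.card (stabE x i) := by
    rintro i _ ⟨h, rfl⟩
    exact P.card_stabE_smul L h.2 i
  -- double counting of fixed points
  set E1 := Finset.univ.filter (fun e : G => e ∈ twoCore x ∧ e ≠ 1) with hE1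
  have hE15 : E1.card = 15 := by
    rw [show E1 = (Finset.univ.filter (· ∈ twoCore x)).erase 1 by ext e; simp [hE1, and_comm],
      Finset.card_erase_of_mem (by simp [one_mem]), ← Fintype.card_subtype, ← Nat.card_eq_fintype_card,
      L.card_two P.ox]
  have hcount : ∑ p ∈ Finset.univ.erase (base x), (Nat.card (stabE x p) - 1) = 180 := by
    have hl : ∀ p, Nat.card (stabE x p) - 1 = (E1.filter fun e => e • p = p).card := by
      intro p
      rw [show (E1.filter fun e => e • p = p) = (Finset.univ.filter (· ∈ stabE x p)).erase 1 by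
          ext e; simp [hE1, mem_stabE]; tauto,
        Finset.card_erase_of_mem (by simp [one_mem]), ← Fintype.card_subtype, ← Nat.card_eq_fintype_card]
    have hr : ∀ e ∈ E1, ((Finset.univ.erase (base x)).filter fun p => e • p = p).card = 12 := by
      intro e he
      obtain ⟨he, he1⟩ := (Finset.mem_filter.1 he).2
      rw [Finset.filter_erase, Finset.card_erase_of_mem (by
        simp only [Finset.mem_filter, Finset.mem_univ, true_and]
        exact smul_base_eq_iff.2 (P.two_le_normTwo L he)), ← Fintype.card_subtype,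
        ← Nat.card_eq_fintype_card]
      rw [F.fix e (P.two_order L he he1)]
    simp only [hl, Finset.card_filter]
    rw [Finset.sum_comm]
    simp only [← Finset.card_filter]
    rw [Finset.sum_congr rfl hr, Finset.sum_const, hE15, smul_eq_mul]
  rw [← hunion, Finset.sum_union hdisj,
    Finset.sum_congr rfl (fun p hp => by rw [hconst p1 p (Finset.mem_filter.1 hp).2]),
    Finset.sum_congr rfl (s₁ := O2) (fun p hp => by rw [hconst p2 p (Finset.mem_filter.1 hp).2]),
    Finset.sum_const, Finset.sum_const, smul_eq_mul, smul_eq_mul] at hcount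
  have hpos : 0 < O2.card :=
    Finset.card_pos.2 ⟨p2, Finset.mem_filter.2 ⟨Finset.mem_univ _, MulAction.mem_orbit_self p2⟩⟩
  have hkey := suborbit_arith O1.card (by omega) _
    (P.card_stabE_cases L (hne p1 (by simp) p1 (MulAction.mem_orbit_self p1))) _
    (P.card_stabE_cases L (hne p2 (by simp) p2 (MulAction.mem_orbit_self p2)))
    (Nat.mod_eq_zero_of_dvd (hdvd p1))
    (by rw [show 76 - O1.card = O2.card by omega]; exact Nat.mod_eq_zero_of_dvd (hdvd p2))
    (by rw [show 76 - O1.card = O2.card by omega]; exact hcount)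
  -- symmetrical conclusion
  have fin : ∀ a b, a ∈ [p1, p2] → b ∈ [p1, p2] → (∀ p, p ≠ base x → p ∈ MulAction.orbit H a ∨
      p ∈ MulAction.orbit H b) → (∀ p, p ∈ MulAction.orbit H a → p ∉ MulAction.orbit H b) →
      (Finset.univ.filter (· ∈ MulAction.orbit H a)).card = 16 →
      (Finset.univ.filter (· ∈ MulAction.orbit H b)).card = 60 →
      Nat.card (stabE x a) = 1 → Nat.card (stabE x b) = 4 → Root x a := by
    intro a b ha hb hab hd h16 h60 ha1 hb4
    have hfree : ∀ e ∈ twoCore x, e • a = a → e = 1 := fun e he h =>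
      Subgroup.mem_bot.1 ((Subgroup.card_eq_one.1 ha1) ▸ (mem_stabE.2 ⟨he, h⟩ : e ∈ stabE x a))
    have himg : (Finset.univ.filter (· ∈ twoCore x)).image (· • a) =
        Finset.univ.filter (· ∈ MulAction.orbit H a) := by
      refine Finset.eq_of_subset_of_card_le (fun p hp => ?_) (le_of_eq ?_)
      · obtain ⟨e, he, rfl⟩ := Finset.mem_image.1 hp
        exact Finset.mem_filter.2 ⟨Finset.mem_univ _,
          ⟨⟨e, P.two_le_normTwo L (Finset.mem_filter.1 he).2⟩, rfl⟩⟩
      · rw [h16, Finset.card_image_of_injOn, ← Fintype.card_subtype, ← Nat.card_eq_fintype_card,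
          L.card_two P.ox]
        intro e he e' he' h
        simp only [Finset.coe_filter, Finset.mem_univ, true_and, Set.mem_ofPred_eq] at he he'
        have := hfree _ (mul_mem (inv_mem he') he) (by
          rw [mul_smul, show e • a = e' • a from h, inv_smul_smul])
        exact (inv_mul_eq_one.1 this).symm
    have hnear : ∀ p, Near x a p ↔ p ∈ MulAction.orbit H a := by
      intro p
      rw [← (Finset.mem_filter.trans (and_iff_right (Finset.mem_univ p)) :
        p ∈ Finset.univ.filter (· ∈ MulAction.orbit H a) ↔ _), ← himg]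
      simp [Near]
    have hfar : ∀ p, Far x a p ↔ p ∈ MulAction.orbit H b := by
      intro p
      refine ⟨fun ⟨h1, h2⟩ => (hab p h1).resolve_left fun h => h2 ((hnear p).2 h),
        fun h => ⟨hne b hb p h, fun h' => hd p ((hnear p).1 h') h⟩⟩
    refine ⟨hne a ha a (MulAction.mem_orbit_self a), hfree, ?_, ?_, ?_, ?_⟩
    · intro h hh p hp
      rw [hnear] at hp ⊢
      obtain ⟨k, rfl⟩ := hp
      exact ⟨⟨h, hh⟩ * k, mul_smul _ _ _⟩
    · intro p hp
      rw [hconst b p ((hfar p).1 hp), hb4]
    · intro p p' hp hp'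
      obtain ⟨h, hh⟩ := (MulAction.orbit_eq_iff.2 ((hfar p).1 hp)).symm ▸ (hfar p').1 hp'
      exact ⟨h, h.2, hh⟩
    · rw [Nat.card_congr (Equiv.subtypeEquivRight hfar), Nat.card_eq_fintype_card, Fintype.card_subtype,
        h60]
  have hd12 : ∀ p, p ∈ MulAction.orbit H p1 → p ∉ MulAction.orbit H p2 := fun p h1 h2 =>
    hc12 (((hcls _ _).2 h1).symm.trans ((hcls _ _).2 h2))
  rcases hkey with ⟨h16, ha, hb⟩ | ⟨h60, ha, hb⟩
  · exact ⟨p1, fin p1 p2 (by simp) (by simp) hall hd12 h16 (by rw [← hO2]; omega) ha hb⟩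
  · exact ⟨p2, fin p2 p1 (by simp) (by simp) (fun p hp => (hall p hp).symm) (fun p h2 h1 => hd12 p h1 h2)
      (by rw [← hO2]; omega) h60 hb ha⟩

end Pair

end Cfsg.Lib.MTwentyTwo
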