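import Cfsg.Agent.Lib.MTwentyTwo.Sixteen

/-!
# The elementary group of order 16 and its normalizer

For a pair `x`, `v` of commuting elements of order 3 with commuting four-groups, `E = twoCore x` is the
product of the two four-groups, its normalizer has order 5760, is transitive on the fifteen involutions
of `E` and contains their centralizers.
-/

set_option autoImplicit false
set_option linter.style.haveILetI false
set_option linter.unusedSectionVars false

namespace Cfsg.Lib.MTwentyTwo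

open Cfsg Cfsg.Lib

universe u

variable {G : Type u} [Group G] [Finite G]

set_option synthInstance.maxSize 4000 in
theorem perm_three_elem : ∀ σ τ : Equiv.Perm (Fin 3),
    σ ^ 2 = 1 → τ ≠ 1 → τ ^ 3 = 1 → σ * (τ * σ * τ⁻¹) = τ * σ * τ⁻¹ * σ → σ = 1 := by
  decide

/-- Two commuting elements of order 3 with commuting four-groups. -/
structure Pair (x v : G) : Prop where
  ox : orderOf x = 3
  ov : orderOf v = 3
  comm : x * v = v * x
  ne : v ∉ Subgroup.zpowers x
  rel : Rel v x

/-- The normalizer of the elementary group. -/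
def normTwo (x : G) : Subgroup G := Subgroup.normalizer ((twoCore x : Subgroup G) : Set G)

theorem mem_normTwo_of_forall {x g : G} (h : ∀ e ∈ twoCore x, g * e * g⁻¹ ∈ twoCore x) :
    g ∈ normTwo x :=
  Subgroup.mem_normalizer_fintype fun e he => h e he

theorem normTwo_conj {x g e : G} (hg : g ∈ normTwo x) (he : e ∈ twoCore x) :
    g * e * g⁻¹ ∈ twoCore x :=
  (Subgroup.mem_normalizer_iff.1 hg e).1 he

theorem Loc.exists_pair (L : Loc G) {x : G} (hx : orderOf x = 3) : ∃ v, Pair x v := by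
  obtain ⟨-, v, hv, hc, hne, hr⟩ := L.two_sixteen hx
  exact ⟨v, hx, hv, hc, hne, hr⟩

theorem Loc.exists_three (L : Loc G) : ∃ x : G, orderOf x = 3 := by
  haveI : Fact (Nat.Prime 3) := ⟨Nat.prime_three⟩
  exact exists_prime_orderOf_dvd_card' 3 (by rw [L.card]; norm_num)

theorem Loc.exists_some_pair (L : Loc G) : ∃ x v : G, Pair x v := by
  obtain ⟨x, hx⟩ := L.exists_three
  obtain ⟨v, hv⟩ := L.exists_pair hx
  exact ⟨x, v, hv⟩

namespace Loc

variable (L : Loc G)
include L

theorem card_two {x : G} (hx : orderOf x = 3) : Nat.card (twoCore x) = 16 := (L.two_sixteen hx).1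

theorem card_centFour {x : G} (hx : orderOf x = 3) : Nat.card (centFour x) = 48 := by
  rw [(L.two_basic hx).2.2.1, L.card_two hx]

theorem self_four_le_two {x : G} (hx : orderOf x = 3) : four x ≤ twoCore x :=
  L.four_le_two hx hx (L.four_le_centFour_self hx)

end Loc

namespace Pair

variable {x v : G} (P : Pair x v) (L : Loc G)
include P L

theorem disjoint {g : G} (h1 : g ∈ four x) (h2 : g ∈ four v) : g = 1 := by
  by_contra hg
  exact L.four_fixed P.ox P.ov P.comm P.ne h1 hg ((L.four_mem_iff P.ov).1 h2).1.symm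

theorem four_x_le : four x ≤ twoCore x := L.self_four_le_two P.ox

theorem four_v_le : four v ≤ twoCore x := L.four_le_two P.ox P.ov P.rel

theorem fours_commute {a b : G} (ha : a ∈ four x) (hb : b ∈ four v) : a * b = b * a :=
  mem_centFour.1 (P.rel hb) a ha

theorem mul_injective : Function.Injective fun p : four x × four v => (p.1 : G) * (p.2 : G) := by
  intro p q h
  have h' : (p.1 : G) * p.2 = (q.1 : G) * q.2 := h
  have e : ((q.1 : G))⁻¹ * p.1 = (q.2 : G) * ((p.2 : G))⁻¹ := by
    calc ((q.1 : G))⁻¹ * p.1 = (q.1 : G)⁻¹ * ((p.1 : G) * p.2) * (p.2 : G)⁻¹ := by group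
      _ = (q.2 : G) * ((p.2 : G))⁻¹ := by rw [h']; group
  have h1 := P.disjoint L (mul_mem (inv_mem q.1.2) p.1.2) (e ▸ mul_mem q.2.2 (inv_mem p.2.2))
  have e1 : (q.1 : G) = p.1 := inv_mul_eq_one.1 h1
  have e2 : (q.2 : G) = p.2 := mul_inv_eq_one.1 (e ▸ h1)
  exact Prod.ext (Subtype.ext e1.symm) (Subtype.ext e2.symm)

theorem exists_mul {e : G} (he : e ∈ twoCore x) : ∃ a ∈ four x, ∃ b ∈ four v, e = a * b := by
  let f : four x × four v → twoCore x := fun p =>
    ⟨(p.1 : G) * p.2, mul_mem (P.four_x_le L p.1.2) (P.four_v_le L p.2.2)⟩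
  have hf : Function.Injective f := fun p q h => P.mul_injective L (congrArg Subtype.val h)
  have hb := (Nat.bijective_iff_injective_and_card f).2 ⟨hf, by
    rw [Nat.card_prod, L.card_four P.ox, L.card_four P.ov, L.card_two P.ox]⟩
  obtain ⟨p, hp⟩ := hb.2 ⟨e, he⟩
  exact ⟨p.1, p.1.2, p.2, p.2.2, (congrArg Subtype.val hp).symm⟩

theorem mul_self {e : G} (he : e ∈ twoCore x) : e * e = 1 := by
  obtain ⟨a, ha, b, hb, rfl⟩ := P.exists_mul L he
  have h1 := ((L.four_mem_iff P.ox).1 ha).2
  have h2 := ((L.four_mem_iff P.ov).1 hb).2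
  rw [pow_two] at h1 h2
  calc a * b * (a * b) = a * (b * a) * b := by group
    _ = a * (a * b) * b := by rw [P.fours_commute L ha hb]
    _ = (a * a) * (b * b) := by group
    _ = 1 := by rw [h1, h2, one_mul]

theorem inv_eq {e : G} (he : e ∈ twoCore x) : e⁻¹ = e :=
  inv_eq_of_mul_eq_one_right (P.mul_self L he)

theorem comm_two {e e' : G} (he : e ∈ twoCore x) (he' : e' ∈ twoCore x) : e * e' = e' * e := by
  have h := P.inv_eq L (mul_mem he he')
  rw [mul_inv_rev, P.inv_eq L he, P.inv_eq L he'] at h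
  exact h.symm

theorem two_order {e : G} (he : e ∈ twoCore x) (he1 : e ≠ 1) : orderOf e = 2 :=
  orderOf_eq_prime_of_pow Nat.prime_two (by rw [pow_two, P.mul_self L he]) he1

/-- The elementary group is its own centralizer. -/
theorem mem_of_commute {g : G} (hg : ∀ e ∈ twoCore x, g * e = e * g) : g ∈ twoCore x := by
  set C := Subgroup.centralizer ((twoCore x : Subgroup G) : Set G)
  have hgC : g ∈ C := Subgroup.mem_centralizer_iff.2 fun e he => (hg e he).symm
  have hEC : twoCore x ≤ C := fun a ha => Subgroup.mem_centralizer_iff.2 fun e he => P.comm_two L he ha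
  have hCF : C ≤ centFour x := fun a ha =>
    mem_centFour.2 fun b hb => Subgroup.mem_centralizer_iff.1 ha b (P.four_x_le L hb)
  obtain ⟨k, hk⟩ := Subgroup.card_dvd_of_le hEC
  have hd := Subgroup.card_dvd_of_le hCF
  rw [hk, L.card_two P.ox, L.card_centFour P.ox, show (48 : ℕ) = 16 * 3 from rfl] at hd
  rcases (Nat.dvd_prime Nat.prime_three).1 ((Nat.mul_dvd_mul_iff_left (by norm_num)).1 hd) with e | e
  · exact (Subgroup.eq_of_le_of_card_ge hEC (by rw [hk, e, mul_one])).symm ▸ hgC
  · exfalso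
    have hall : C = centFour x := Subgroup.eq_of_le_of_card_ge hCF
      (by rw [hk, e, L.card_two P.ox, L.card_centFour P.ox])
    have hxC : x ∈ C := hall ▸ L.self_mem_centFour P.ox
    obtain ⟨b, hb, hb1⟩ := L.exists_four_ne_one P.ov
    have hbx := Subgroup.mem_centralizer_iff.1 hxC b (P.four_v_le L hb)
    exact hb1 (P.disjoint L ((L.four_mem_iff P.ox).2 ⟨hbx, ((L.four_mem_iff P.ov).1 hb).2⟩) hb)

theorem two_le_normTwo : twoCore x ≤ normTwo x := Subgroup.le_normalizer

theorem x_mem : x ∈ normTwo x := mem_normTwo_of_forall fun _ he => L.two_invariant P.ox rfl he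

theorem v_mem : v ∈ normTwo x := mem_normTwo_of_forall fun _ he => L.two_invariant P.ox P.comm he

theorem two_fixed {e : G} (he : e ∈ twoCore x) (hc : e * x = x * e) : e ∈ four x :=
  (L.four_mem_iff P.ox).2 ⟨hc, by rw [pow_two, P.mul_self L he]⟩

/-- The centralizer of an involution of `four x` normalizes the elementary group. -/
theorem cent_le {t : G} (ht : t ∈ four x) (ht1 : t ≠ 1) :
    Subgroup.centralizer ({t} : Set G) ≤ normTwo x := by
  classical
  haveI : Fact (Nat.Prime 2) := ⟨Nat.prime_two⟩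
  have hcore := L.exists_core P.ox ht ht1
  have ht2 := L.four_orderOf P.ox ht ht1
  set C := Subgroup.centralizer ({t} : Set G) with hCdef
  obtain ⟨α, hα, ρ, hα3, hker, hρx, hρV⟩ := hcore
  set xC : C := ⟨x, mem_cent.2 ((L.four_mem_iff P.ox).1 ht).1.symm⟩
  have hEC : twoCore x ≤ C := fun e he => mem_cent.2
    (mem_centFour.1 ((L.two_basic P.ox).2.1 he) t ht).symm
  set Q := ρ.ker.map C.subtype with hQ
  let eqv := Fintype.equivFinOfCardEq hα3
  let Φ : Equiv.Perm α ≃* Equiv.Perm (Fin 3) := eqv.permCongrHom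
  -- the elementary group lies in the kernel
  have hEQ : twoCore x ≤ Q := by
    intro e he
    refine ⟨⟨e, hEC he⟩, ?_, rfl⟩
    set eC : C := ⟨e, hEC he⟩
    have he' := L.two_invariant P.ox (rfl : x * x = x * x) he
    have h := congrArg (fun y => Φ (ρ y)) (show eC * (xC * eC * xC⁻¹) = xC * eC * xC⁻¹ * eC from
      Subtype.ext (P.comm_two L he he'))
    simp only [map_mul, map_inv] at h
    have := perm_three_elem (Φ (ρ eC)) (Φ (ρ xC))
      (by rw [← map_pow, ← map_pow, show eC ^ 2 = 1 from Subtype.ext (by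
        show e ^ 2 = 1
        rw [pow_two, P.mul_self L he]), map_one, map_one])
      (fun h' => hρx (Φ.injective (h'.trans (map_one Φ).symm)))
      (by rw [← map_pow, ← map_pow, show xC ^ 3 = 1 from Subtype.ext (P.ox ▸ pow_orderOf_eq_one x),
        map_one, map_one]) h
    exact Φ.injective (this.trans (map_one Φ).symm)
  have hQ64 : Nat.card Q = 2 ^ 6 := by
    rw [hQ, Subgroup.card_map_of_injective C.subtype_injective, hker]; norm_num
  have hQp : IsPGroup 2 Q := IsPGroup.of_card hQ64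
  haveI : Group.IsNilpotent Q := hQp.isNilpotent
  set R := Q ⊓ normTwo x with hR
  have hER : twoCore x ≤ R := le_inf hEQ (P.two_le_normTwo L)
  -- the normalizer of the elementary group in the kernel is larger
  have hlt : (twoCore x).subgroupOf Q < ⊤ := by
    refine lt_top_iff_ne_top.2 fun e => ?_
    have := L.card_two P.ox
    rw [← Nat.card_congr (Subgroup.subgroupOfEquivOfLe hEQ).toEquiv, e, Subgroup.card_top, hQ64] at this
    norm_num at this
  obtain ⟨q, hq, hqE⟩ := SetLike.exists_of_lt (Group.normalizerCondition_of_isNilpotent _ hlt)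
  have hqR : (q : G) ∈ R := ⟨q.2, mem_normTwo_of_forall fun e he =>
    (Subgroup.mem_normalizer_iff.1 hq ⟨e, hEQ he⟩).1 he⟩
  have hxQ : ∀ r ∈ Q, x * r * x⁻¹ ∈ Q := by
    rintro _ ⟨r, hr, rfl⟩
    exact ⟨xC * r * xC⁻¹, ρ.normal_ker.conj_mem r hr _, rfl⟩
  have hxR : ∀ r ∈ R, x * r * x⁻¹ ∈ R := fun r hr =>
    ⟨hxQ r hr.1, (normTwo x).mul_mem ((normTwo x).mul_mem (P.x_mem L) hr.2) ((normTwo x).inv_mem (P.x_mem L))⟩
  have hfix : R ⊓ Subgroup.centralizer ({x} : Set G) = four x := le_antisymm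
    (fun g hg => L.four_mem_of_pow P.ox (mem_cent.1 hg.2) (pow_two_of_card hQ64 hg.1.1))
    (le_inf (le_trans (P.four_x_le L) hER) fun g hg => mem_cent.2 ((L.four_mem_iff P.ox).1 hg).1)
  have h3 := card_mod_three R P.ox hxR
  rw [hfix, L.card_four P.ox] at h3
  obtain ⟨j, hj, hj'⟩ := (Nat.dvd_prime_pow Nat.prime_two).1
    (hQ64 ▸ Subgroup.card_dvd_of_le (inf_le_left : R ≤ Q))
  have h16 : 16 < Nat.card R := by
    refine lt_of_le_of_ne (L.card_two P.ox ▸ Subgroup.card_le_of_le hER) fun e => ?_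
    have heq := Subgroup.eq_of_le_of_card_ge hER (by rw [L.card_two P.ox, ← e])
    exact hqE (show (q : G) ∈ twoCore x from heq ▸ hqR)
  have hR64 : Nat.card R = 2 ^ 6 := by
    rw [hj'] at h3 h16 ⊢
    interval_cases j <;> omega
  have hQN : Q ≤ normTwo x := by
    have e : R = Q := Subgroup.eq_of_le_of_card_ge inf_le_left (by rw [hQ64, hR64])
    exact e ▸ (inf_le_right : R ≤ normTwo x)
  -- the inverter
  obtain ⟨s, hst, hsx⟩ := L.exists_inverter P.ox ht ht1
  set sC : C := ⟨s, mem_cent.2 hst⟩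
  have hsN : s ∈ normTwo x := mem_normTwo_of_forall fun e he => by
    have h1 := L.two_conj P.ox s he
    rw [hsx] at h1
    have h2 : centFour x⁻¹ = centFour x := by rw [centFour, centFour, L.four_inv P.ox]
    rwa [show twoCore x⁻¹ = twoCore x by rw [twoCore, twoCore, h2]] at h1
  set N := (normTwo x).subgroupOf C
  have hxN : xC ∈ N := P.x_mem L
  have hsN' : sC ∈ N := hsN
  have hρx3 : orderOf (ρ xC) = 3 := orderOf_eq_prime_of_pow Nat.prime_three
    (by rw [← map_pow, show xC ^ 3 = 1 from Subtype.ext (P.ox ▸ pow_orderOf_eq_one x), map_one]) hρx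
  have h6 : Nat.card (Equiv.Perm α) = 6 := by
    rw [Nat.card_perm, Nat.card_eq_fintype_card, hα3]; rfl
  have htop : N.map ρ = ⊤ := by
    have hd := Subgroup.card_subgroup_dvd_card (N.map ρ)
    rw [h6] at hd
    have hd3 : 3 ∣ Nat.card (N.map ρ) := hρx3 ▸ Subgroup.orderOf_dvd_natCard _ ⟨xC, hxN, rfl⟩
    refine Subgroup.eq_top_of_card_eq _ ?_
    rw [h6]
    obtain ⟨d, hd'⟩ := hd3
    rw [hd', show (6 : ℕ) = 3 * 2 from rfl] at hd
    rcases (Nat.dvd_prime Nat.prime_two).1 ((Nat.mul_dvd_mul_iff_left (by norm_num)).1 hd) with e | e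
    · exfalso
      haveI : Fact (Nat.Prime 3) := ⟨Nat.prime_three⟩
      haveI hcyc : IsCyclic (N.map ρ) := isCyclic_of_prime_card (p := 3) (by rw [hd', e])
      letI := hcyc.commGroup
      have hc : ρ sC * ρ xC = ρ xC * ρ sC := congrArg Subtype.val
        (mul_comm (⟨ρ sC, sC, hsN', rfl⟩ : N.map ρ) ⟨ρ xC, xC, hxN, rfl⟩)
      have hinv : ρ xC = (ρ xC)⁻¹ := by
        rw [← map_inv, show xC⁻¹ = sC * xC * sC⁻¹ from Subtype.ext hsx.symm, map_mul, map_mul, map_inv,
          hc, mul_inv_cancel_right]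
      have h2 : (ρ xC) ^ 2 = 1 := by rw [pow_two]; exact eq_inv_iff_mul_eq_one.1 hinv
      have := orderOf_dvd_of_pow_eq_one h2
      rw [hρx3] at this
      omega
    · rw [hd', e]
  intro g hg
  have hmem : (⟨g, hg⟩ : C) ∈ (N.map ρ).comap ρ := by
    rw [htop]; exact Subgroup.mem_top _
  rw [Subgroup.comap_map_eq] at hmem
  have hle : N ⊔ ρ.ker ≤ N := sup_le le_rfl fun r hr => hQN ⟨r, hr, rfl⟩
  exact hle hmem

/-- An element normalizing the four-group and fixing one of its involutions. -/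
theorem not_cent_le_normalizer_four {t : G} (ht : t ∈ four x) (ht1 : t ≠ 1) :
    ∃ c ∈ Subgroup.centralizer ({t} : Set G), ∃ a ∈ four x, c * a * c⁻¹ ∉ four x := by
  classical
  by_contra hno
  push Not at hno
  set C := Subgroup.centralizer ({t} : Set G)
  have hC : Nat.card C = 384 := L.cent_two t (L.four_orderOf P.ox ht ht1)
  haveI := Fintype.ofFinite C
  haveI := Fintype.ofFinite (four x)
  have ha : v * t * v⁻¹ ∈ four x := L.four_invariant P.ox P.comm ht
  let f : C → four x := fun c => ⟨(c : G) * (v * t * v⁻¹) * (c : G)⁻¹, hno c c.2 _ ha⟩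
  have hfib : ∀ c c' : C, f c = f c' → (c : G)⁻¹ * c' ∈ centFour x := by
    intro c c' h
    have h' : (c : G) * (v * t * v⁻¹) * (c : G)⁻¹ = (c' : G) * (v * t * v⁻¹) * (c' : G)⁻¹ :=
      congrArg Subtype.val h
    set d := (c : G)⁻¹ * c' with hd
    have hdt : d * t = t * d := mem_cent.1 (mul_mem (inv_mem c.2) c'.2)
    have hda : d * (v * t * v⁻¹) = (v * t * v⁻¹) * d := by
      apply conj_eq_iff_commute.1
      calc d * (v * t * v⁻¹) * d⁻¹ = (c : G)⁻¹ * ((c' : G) * (v * t * v⁻¹) * (c' : G)⁻¹) * c := by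
            rw [hd]; group
        _ = (c : G)⁻¹ * ((c : G) * (v * t * v⁻¹) * (c : G)⁻¹) * c := by rw [h']
        _ = v * t * v⁻¹ := by group
    have hsub : four x ≤ Subgroup.centralizer ({d} : Set G) := by
      intro b hb
      by_cases hb1 : b = 1
      · rw [hb1]; exact one_mem _
      have e3 : v⁻¹ * t * v = t * (v * t * v⁻¹) := by
        have hm := mul_mem ht ha
        have hv' : v * t ≠ t * v := L.four_fixed P.ox P.ov P.comm P.ne ht ht1
        have n1 : t * (v * t * v⁻¹) ≠ 1 := fun e => hv' (by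
          have : v * t * v⁻¹ = t := by
            rw [(eq_inv_of_mul_eq_one_right e)]
            exact inv_eq_of_mul_eq_one_right (by rw [← pow_two]; exact ((L.four_mem_iff P.ox).1 ht).2)
          exact conj_eq_iff_commute.1 this)
        rcases L.four_cases P.ox P.ov P.comm P.ne ht ht1 hm n1 with e | e | e
        · exfalso
          have : v * t * v⁻¹ = 1 := mul_left_cancel (e.trans (mul_one t).symm)
          exact ht1 (conj_eq_one_iff.1 this)
        · exact absurd (mul_eq_right.1 e) ht1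
        · exact e.symm
      rcases L.four_cases P.ox P.ov P.comm P.ne ht ht1 hb hb1 with rfl | rfl | rfl
      · exact mem_cent.2 hdt.symm
      · exact mem_cent.2 hda.symm
      · rw [e3]; exact mul_mem (mem_cent.2 hdt.symm) (mem_cent.2 hda.symm)
    exact mem_centFour.2 fun b hb => mem_cent.1 (hsub hb)
  have hle := Finset.card_le_mul_card_image (s := (Finset.univ : Finset C)) (f := f) 48 (by
    intro b hb
    obtain ⟨c, -, rfl⟩ := Finset.mem_image.1 hb
    refine le_trans ?_ (L.card_centFour P.ox).le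
    rw [← Fintype.card_subtype, ← Nat.card_eq_fintype_card]
    refine Nat.card_le_card_of_injective (fun c' => (⟨(c : G)⁻¹ * (c'.1 : G), hfib c c'.1 c'.2.symm⟩ :
      centFour x)) fun a b h => Subtype.ext (Subtype.ext ?_)
    exact mul_left_cancel (congrArg Subtype.val h))
  have himg := Finset.card_le_univ ((Finset.univ : Finset C).image f)
  rw [Finset.card_univ, ← Nat.card_eq_fintype_card, hC] at hle
  rw [← Nat.card_eq_fintype_card, L.card_four P.ox] at himg
  omega

/-- Transitivity of the normalizer on the involutions. -/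
theorem transitive_aux : Nat.card (normTwo x) = 5760 ∧
    ∀ t ∈ four x, t ≠ 1 → ∀ e ∈ twoCore x, e ≠ 1 → ∃ h ∈ normTwo x, h * t * h⁻¹ = e := by
  classical
  suffices key : ∀ t ∈ four x, t ≠ 1 → Nat.card (normTwo x) = 5760 ∧
      ∀ e ∈ twoCore x, e ≠ 1 → ∃ h ∈ normTwo x, h * t * h⁻¹ = e by
    obtain ⟨t, ht, ht1⟩ := L.exists_four_ne_one P.ox
    exact ⟨(key t ht ht1).1, fun t' ht' ht1' => (key t' ht' ht1').2⟩
  intro t ht ht1
  set H := normTwo x
  set O : Set G := {e | ∃ h ∈ H, h * t * h⁻¹ = e} with hO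
  have hstep : ∀ h ∈ H, ∀ e ∈ O, h * e * h⁻¹ ∈ O := by
    rintro h hh _ ⟨k, hk, rfl⟩
    exact ⟨h * k, mul_mem hh hk, by group⟩
  have hsubE : ∀ e ∈ O, e ∈ twoCore x ∧ e ≠ 1 := by
    rintro _ ⟨h, hh, rfl⟩
    exact ⟨normTwo_conj hh (P.four_x_le L ht), fun e => ht1 (conj_eq_one_iff.1 e)⟩
  have htO : t ∈ O := ⟨1, one_mem _, by group⟩
  have hV : ∀ a ∈ four x, a ≠ 1 → a ∈ O := by
    intro a ha ha1
    rcases L.four_cases P.ox P.ov P.comm P.ne ht ht1 ha ha1 with rfl | rfl | rfl
    · exact htO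
    · exact hstep v (P.v_mem L) t htO
    · have := hstep v⁻¹ (inv_mem (P.v_mem L)) t htO
      rwa [inv_inv] at this
  have hxnot : x ∉ Subgroup.zpowers v := not_mem_zpowers_symm P.ox P.ov P.ne
  have hV' : ∀ b ∈ four v, b ≠ 1 → b ∈ O → ∀ b' ∈ four v, b' ≠ 1 → b' ∈ O := by
    intro b hb hb1 hbO b' hb' hb1'
    rcases L.four_cases P.ov P.ox P.comm.symm hxnot hb hb1 hb' hb1' with rfl | rfl | rfl
    · exact hbO
    · exact hstep x (P.x_mem L) b hbO
    · have := hstep x⁻¹ (inv_mem (P.x_mem L)) b hbO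
      rwa [inv_inv] at this
  have hmove : ∀ (g : G), g ∈ H → ∀ a b : G, g * b = b * g → a * b ∈ O → g * a * g⁻¹ * b ∈ O := by
    intro g hg a b hgb hab
    have := hstep g hg _ hab
    rwa [show g * (a * b) * g⁻¹ = g * a * g⁻¹ * (g * b * g⁻¹) by group,
      conj_eq_iff_commute.2 hgb] at this
  have hmix1 : ∀ a ∈ four x, a ≠ 1 → ∀ b ∈ four v, a * b ∈ O → ∀ a' ∈ four x, a' ≠ 1 → a' * b ∈ O := by
    intro a ha ha1 b hb hab a' ha' ha1'
    have hvb : v * b = b * v := ((L.four_mem_iff P.ov).1 hb).1.symm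
    rcases L.four_cases P.ox P.ov P.comm P.ne ha ha1 ha' ha1' with rfl | rfl | rfl
    · exact hab
    · exact hmove v (P.v_mem L) a b hvb hab
    · have := hmove v⁻¹ (inv_mem (P.v_mem L)) a b ((show Commute v b from hvb).inv_left).eq hab
      rwa [inv_inv] at this
  have hmix2 : ∀ a ∈ four x, ∀ b ∈ four v, b ≠ 1 → a * b ∈ O → ∀ b' ∈ four v, b' ≠ 1 → a * b' ∈ O := by
    intro a ha b hb hb1 hab b' hb' hb1'
    have hxa : x * a = a * x := ((L.four_mem_iff P.ox).1 ha).1.symm
    have hba : b * a ∈ O := P.fours_commute L ha hb ▸ hab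
    rw [P.fours_commute L ha hb']
    rcases L.four_cases P.ov P.ox P.comm.symm hxnot hb hb1 hb' hb1' with rfl | rfl | rfl
    · exact hba
    · exact hmove x (P.x_mem L) b a hxa hba
    · have := hmove x⁻¹ (inv_mem (P.x_mem L)) b a ((show Commute x a from hxa).inv_left).eq hba
      rwa [inv_inv] at this
  -- the orbit is larger than the four-group
  obtain ⟨c, hc, a0, ha0, hnot⟩ := P.not_cent_le_normalizer_four L ht ht1
  have ha01 : a0 ≠ 1 := fun e => hnot (by rw [e, mul_one, mul_inv_cancel]; exact one_mem _)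
  have hnew := hstep c (P.cent_le L ht ht1 hc) a0 (hV a0 ha0 ha01)
  -- orbit and stabilizer
  letI := conjAction H (twoCore x) fun g hg e he => normTwo_conj hg he
  set tE : twoCore x := ⟨t, P.four_x_le L ht⟩
  have hstab : Nat.card (MulAction.stabilizer H tE) = 384 := by
    rw [← L.cent_two t (L.four_orderOf P.ox ht ht1)]
    exact Nat.card_congr
      { toFun := fun h => ⟨h.1.1, mem_cent.2 (conj_eq_iff_commute.1 (congrArg Subtype.val h.2))⟩
        invFun := fun c => ⟨⟨c.1, P.cent_le L ht ht1 c.2⟩, Subtype.ext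
          (show (c : G) * t * (c : G)⁻¹ = t from conj_eq_iff_commute.2 (mem_cent.1 c.2))⟩
        left_inv := fun _ => rfl
        right_inv := fun _ => rfl }
  have hindex := (MulAction.stabilizer H tE).card_mul_index
  rw [MulAction.index_stabilizer, hstab] at hindex
  have horb : ∀ e : twoCore x, e ∈ MulAction.orbit H tE ↔ (e : G) ∈ O := fun e =>
    ⟨fun ⟨h, hh⟩ => ⟨h, h.2, congrArg Subtype.val hh⟩, fun ⟨h, hh, he⟩ => ⟨⟨h, hh⟩, Subtype.ext he⟩⟩
  have hn : (MulAction.orbit H tE).ncard = (O ∩ (twoCore x : Set G)).ncard := by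
    rw [← Set.ncard_image_of_injective _ Subtype.val_injective]
    congr 1
    ext e
    simp only [Set.mem_image, Set.mem_inter_iff, SetLike.mem_coe]
    exact ⟨fun ⟨e', h, he⟩ => he ▸ ⟨(horb e').1 h, e'.2⟩, fun h => ⟨⟨e, h.2⟩, (horb _).2 h.1, rfl⟩⟩
  rw [show O ∩ (twoCore x : Set G) = O from Set.inter_eq_left.2 fun e he => (hsubE e he).1] at hn
  rw [hn] at hindex
  have hdvd : O.ncard * 384 ∣ 443520 := by
    rw [← L.card, mul_comm, hindex]
    exact Subgroup.card_subgroup_dvd_card H
  -- the image of the product map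
  let F : four x × four v → G := fun p => (p.1 : G) * p.2
  have hF : Function.Injective F := P.mul_injective L
  haveI := Fintype.ofFinite (four x)
  haveI := Fintype.ofFinite (four v)
  have hx4 : Fintype.card (four x) = 4 := by rw [← Nat.card_eq_fintype_card, L.card_four P.ox]
  have hv4 : Fintype.card (four v) = 4 := by rw [← Nat.card_eq_fintype_card, L.card_four P.ov]
  have hcount : O.ncard = (Finset.univ.filter fun p => F p ∈ O).card := by
    rw [← Finset.card_image_of_injective _ hF, ← Set.ncard_coe_finset]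
    congr 1
    ext e
    simp only [Finset.coe_image, Finset.coe_filter, Finset.mem_univ, true_and, Set.mem_image,
      Set.mem_ofPred_eq]
    refine ⟨fun he => ?_, fun ⟨p, hp, hpe⟩ => hpe ▸ hp⟩
    obtain ⟨a, ha, b, hb, rfl⟩ := P.exists_mul L (hsubE e he).1
    exact ⟨(⟨a, ha⟩, ⟨b, hb⟩), he, rfl⟩
  by_cases hW : ∃ b ∈ four v, b ≠ 1 ∧ b ∈ O <;>
    by_cases hM : ∃ a ∈ four x, a ≠ 1 ∧ ∃ b ∈ four v, b ≠ 1 ∧ a * b ∈ O
  · -- everything
    obtain ⟨b0, hb0, hb01, hb0O⟩ := hW
    obtain ⟨a1, ha1, ha11, b1, hb1, hb11, hab1⟩ := hM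
    have hall : ∀ e ∈ twoCore x, e ≠ 1 → e ∈ O := by
      intro e he he1
      obtain ⟨a, ha, b, hb, rfl⟩ := P.exists_mul L he
      by_cases hb' : b = 1
      · rw [hb', mul_one] at he1 ⊢
        exact hV a ha he1
      by_cases ha' : a = 1
      · rw [ha', one_mul]
        exact hV' b0 hb0 hb01 hb0O b hb hb'
      exact hmix1 a1 ha1 ha11 b hb (hmix2 a1 ha1 b1 hb1 hb11 hab1 b hb hb') a ha ha'
    refine ⟨?_, hall⟩
    have h15 : O.ncard = 15 := by
      rw [show O = (twoCore x : Set G) \ {1} from Set.ext fun e =>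
        ⟨fun he => ⟨(hsubE e he).1, (hsubE e he).2⟩, fun he => hall e he.1 he.2⟩,
        Set.ncard_sdiff_singleton_of_mem (one_mem (twoCore x)), ← Nat.card_coe_set_eq]
      rw [show Nat.card (twoCore x : Set G) = 16 from L.card_two P.ox]
    rw [← hindex, h15]
  · exfalso
    obtain ⟨b0, hb0, hb01, hb0O⟩ := hW
    have e : (Finset.univ.filter fun p => F p ∈ O) =
        (Finset.univ.erase (1 : four x)) ×ˢ ({1} : Finset (four v)) ∪
          ({1} : Finset (four x)) ×ˢ (Finset.univ.erase (1 : four v)) := by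
      ext ⟨a, b⟩
      simp only [Finset.mem_filter, Finset.mem_univ, true_and, Finset.mem_union, Finset.mem_product,
        Finset.mem_erase, Finset.mem_singleton, and_true]
      constructor
      · intro h
        by_cases hb : b = 1
        · refine Or.inl ⟨fun ha => (hsubE _ h).2 ?_, hb⟩
          simp [F, ha, hb]
        · refine Or.inr ⟨by_contra fun ha => hM ⟨a, a.2, ?_, b, b.2, ?_, h⟩, hb⟩
          · exact fun e => ha (Subtype.ext e)
          · exact fun e => hb (Subtype.ext e)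
      · rintro (⟨ha, rfl⟩ | ⟨rfl, hb⟩)
        · simpa [F] using hV a a.2 fun e => ha (Subtype.ext e)
        · simpa [F] using hV' b0 hb0 hb01 hb0O b b.2 fun e => hb (Subtype.ext e)
    rw [hcount, e, Finset.card_union_of_disjoint (by
      rw [Finset.disjoint_left]
      rintro ⟨a, b⟩ h1 h2
      simp only [Finset.mem_product, Finset.mem_erase, Finset.mem_singleton] at h1 h2
      exact h1.1.1 h2.1)] at hdvd
    simp only [Finset.card_product, Finset.card_singleton, Finset.card_erase_of_mem (Finset.mem_univ _),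
      Finset.card_univ, hx4, hv4] at hdvd
    norm_num at hdvd
  · exfalso
    obtain ⟨a1, ha1, ha11, b1, hb1, hb11, hab1⟩ := hM
    have e : (Finset.univ.filter fun p => F p ∈ O) =
        (Finset.univ.erase (1 : four x)) ×ˢ (Finset.univ : Finset (four v)) := by
      ext ⟨a, b⟩
      simp only [Finset.mem_filter, Finset.mem_univ, true_and, Finset.mem_product,
        Finset.mem_erase, and_true]
      constructor
      · intro h ha
        apply hW
        refine ⟨b, b.2, fun e => (hsubE _ h).2 ?_, ?_⟩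
        · simp [F, ha, e]
        · simpa [F, ha] using h
      · intro ha
        have ha' : (a : G) ≠ 1 := fun e => ha (Subtype.ext e)
        by_cases hb : b = 1
        · simpa [F, hb] using hV a a.2 ha'
        exact hmix1 a1 ha1 ha11 b b.2
          (hmix2 a1 ha1 b1 hb1 hb11 hab1 b b.2 fun e => hb (Subtype.ext e)) a a.2 ha'
    rw [hcount, e] at hdvd
    simp only [Finset.card_product, Finset.card_erase_of_mem (Finset.mem_univ _), Finset.card_univ,
      hx4, hv4] at hdvd
    norm_num at hdvd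
  · exfalso
    obtain ⟨a, ha, b, hb, hab⟩ := P.exists_mul L (hsubE _ hnew).1
    rw [hab] at hnew hnot
    by_cases hb' : b = 1
    · exact hnot (by rw [hb', mul_one]; exact ha)
    by_cases ha' : a = 1
    · exact hW ⟨b, hb, hb', by rwa [ha', one_mul] at hnew⟩
    exact hM ⟨a, ha, ha', b, hb, hb', hnew⟩

theorem card_normTwo : Nat.card (normTwo x) = 5760 := (P.transitive_aux L).1

theorem index_normTwo : (normTwo x).index = 77 := by
  have h := (normTwo x).card_mul_index
  rw [P.card_normTwo L, L.card] at h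
  omega

theorem transitive {e e' : G} (he : e ∈ twoCore x) (he1 : e ≠ 1) (he' : e' ∈ twoCore x) (he1' : e' ≠ 1) :
    ∃ h ∈ normTwo x, h * e * h⁻¹ = e' := by
  obtain ⟨t, ht, ht1⟩ := L.exists_four_ne_one P.ox
  obtain ⟨h, hh, h'⟩ := (P.transitive_aux L).2 t ht ht1 e he he1
  obtain ⟨k, hk, k'⟩ := (P.transitive_aux L).2 t ht ht1 e' he' he1'
  exact ⟨k * h⁻¹, mul_mem hk (inv_mem hh), by rw [← h', ← k']; group⟩

/-- The centralizer of each involution of the elementary group normalizes it. -/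
theorem cent_le_normTwo {e g : G} (he : e ∈ twoCore x) (he1 : e ≠ 1) (hg : g * e = e * g) :
    g ∈ normTwo x := by
  obtain ⟨t, ht, ht1⟩ := L.exists_four_ne_one P.ox
  obtain ⟨h, hh, rfl⟩ := (P.transitive_aux L).2 t ht ht1 e he he1
  have : h⁻¹ * g * h ∈ normTwo x := P.cent_le L ht ht1 (mem_cent.2 (by
    calc h⁻¹ * g * h * t = h⁻¹ * (g * (h * t * h⁻¹)) * h := by group
      _ = h⁻¹ * ((h * t * h⁻¹) * g) * h := by rw [hg]
      _ = t * (h⁻¹ * g * h) := by group))
  have := mul_mem (mul_mem hh this) (inv_mem hh)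
  rwa [show h * (h⁻¹ * g * h) * h⁻¹ = g by group] at this

/-- Two conjugates with a common involution are equal. -/
theorem ti {g e : G} (he : e ∈ twoCore x) (he1 : e ≠ 1) (hge : g * e * g⁻¹ ∈ twoCore x) :
    g ∈ normTwo x := by
  obtain ⟨h, hh, h'⟩ := P.transitive L he he1 hge fun e' => he1 (conj_eq_one_iff.1 e')
  have hm : h⁻¹ * g ∈ normTwo x := P.cent_le_normTwo L he he1 (conj_eq_iff_commute.1 (by
    calc h⁻¹ * g * e * (h⁻¹ * g)⁻¹ = h⁻¹ * (g * e * g⁻¹) * h := by group
      _ = h⁻¹ * (h * e * h⁻¹) * h := by rw [h']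
      _ = e := by group))
  have := mul_mem hh hm
  rwa [mul_inv_cancel_left] at this

theorem exists_conj_mem {t : G} (ht : orderOf t = 2) : ∃ g : G, g⁻¹ * t * g ∈ twoCore x := by
  obtain ⟨a, ha, ha1⟩ := L.exists_four_ne_one P.ox
  obtain ⟨g, hg⟩ := isConj_iff.1 (L.conj_two a t (L.four_orderOf P.ox ha ha1) ht)
  exact ⟨g, by rw [← hg]; simpa [mul_assoc] using P.four_x_le L ha⟩

end Pair

end Cfsg.Lib.MTwentyTwo
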