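import Cfsg.Agent.Lib.MTwentyTwo.Coord

/-!
# The planes of the space with sixteen vectors

Finite facts used to identify the stabilizers in the long suborbit.
-/

set_option autoImplicit false

namespace Cfsg.Lib.MTwentyTwo

/-- The plane spanned by two vectors. -/
def pl (p q : Fin 16) : Finset (Fin 16) := {0, p, q, p ^^^ q}

/-- The plane meets the first four-group. -/
def hitA (W : Finset (Fin 16)) : Prop := 1 ∈ W ∨ 2 ∈ W ∨ 3 ∈ W

/-- The plane meets the second four-group. -/
def hitB (W : Finset (Fin 16)) : Prop := 4 ∈ W ∨ 8 ∈ W ∨ 12 ∈ W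

instance (W : Finset (Fin 16)) : Decidable (hitA W) := by unfold hitA; infer_instance
instance (W : Finset (Fin 16)) : Decidable (hitB W) := by unfold hitB; infer_instance

/-- Membership in a listed plane. -/
def inPlane (i : Fin 15) (n : Fin 16) : Bool := (planeMasks.getD i.val 0).testBit n.val

/-- Membership in a listed coset. -/
def inCoset (k : Fin 60) (n : Fin 16) : Bool := (cm k.val).testBit n.val

/-- The index of the plane of a coset. -/
def planeOf (k : Fin 60) : Fin 15 := ⟨k.val / 4, by omega⟩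

theorem pv_zero_px_zero : pv 0 = 0 ∧ px 0 = 0 := by decide

theorem pv_ne_zero : ∀ n : Fin 16, pv n = 0 → n = 0 := by decide

/-- The translation by a nonzero vector of the first four-group. -/
theorem pv_orbit : ∀ n : Fin 16, (n = 2 → pv 1 = n) ∧ (n = 3 → pv (pv 1) = n) := by decide

theorem pv_cube : ∀ n : Fin 16, pv (pv (pv n)) = n ∧ px (px (px n)) = n := by decide

theorem px_orbit : px 4 = 8 ∧ px 8 = 12 ∧ px 12 = 4 ∧ px 1 = 1 ∧ px 2 = 2 ∧ px 3 = 3 ∧
    pv 1 = 2 ∧ pv 2 = 3 ∧ pv 3 = 1 ∧ pv 4 = 4 ∧ pv 8 = 8 ∧ pv 12 = 12 := by decide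

theorem plane_triple : ∀ p q : Fin 16, 1 ∈ pl p q → (pl p q).card = 4 → pl p q ≠ pl 1 2 →
    (pl p q).image px ≠ pl p q ∧ ((pl p q).image px).image px ≠ pl p q ∧
      ((pl p q).image px).image px ≠ (pl p q).image px ∧
      1 ∈ (pl p q).image px ∧ 1 ∈ ((pl p q).image px).image px := by
  decide +kernel

theorem hit_invariant : ∀ p q : Fin 16, (hitA ((pl p q).image px) ↔ hitA (pl p q)) ∧
    (hitB ((pl p q).image px) ↔ hitB (pl p q)) ∧ (hitA ((pl p q).image pv) ↔ hitA (pl p q)) ∧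
    (hitB ((pl p q).image pv) ↔ hitB (pl p q)) := by
  decide +kernel

/-- A plane other than the first four-group has at most one of its vectors. -/
theorem one_A : ∀ p q : Fin 16, (pl p q).card = 4 → pl p q ≠ pl 1 2 →
    ¬ (1 ∈ pl p q ∧ 2 ∈ pl p q) ∧ ¬ (1 ∈ pl p q ∧ 3 ∈ pl p q) ∧ ¬ (2 ∈ pl p q ∧ 3 ∈ pl p q) := by
  decide +kernel

theorem one_B : ∀ p q : Fin 16, (pl p q).card = 4 → pl p q ≠ pl 4 8 →
    ¬ (4 ∈ pl p q ∧ 8 ∈ pl p q) ∧ ¬ (4 ∈ pl p q ∧ 12 ∈ pl p q) ∧ ¬ (8 ∈ pl p q ∧ 12 ∈ pl p q) := by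
  decide +kernel

theorem good_listed : ∀ p q : Fin 16, (pl p q).card = 4 → pl p q ≠ pl 1 2 → pl p q ≠ pl 4 8 →
    (hitA (pl p q) ↔ hitB (pl p q)) → ∃ i : Fin 15, ∀ n, n ∈ pl p q ↔ inPlane i n = true := by
  decide +kernel

theorem coset_listed : ∀ (i : Fin 15) (n0 : Fin 16),
    ∃ k : Fin 60, planeOf k = i ∧ ∀ n, inCoset k n = inPlane i (n ^^^ n0) := by
  decide +kernel

theorem cm_lt : ∀ k : Fin 60, cm k.val < 2 ^ 16 := by decide +kernel

theorem coset_xor : ∀ (k : Fin 60) (m n : Fin 16), inCoset k n = true → inCoset k (n ^^^ m) = true →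
    inPlane (planeOf k) m = true := by
  decide +kernel

theorem inPlane_injective : ∀ i j : Fin 15, (∀ n, inPlane i n = inPlane j n) → i = j := by
  decide +kernel

theorem coset_index_injective : ∀ k k' : Fin 60, (∀ n, inCoset k n = inCoset k' n) →
    planeOf k = planeOf k' → k = k' := by
  decide +kernel

/-- The plane used for the loop test: invariant by the product of the two cycles. -/
theorem test_plane : planeOf 36 = 9 ∧ ∀ n, inPlane 9 (pv (px n)) = inPlane 9 n := by decide +kernel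

theorem test_sum : ∀ c : Fin 16, pv (px c) ^^^ c = pv (px (pv (px c))) := by decide +kernel

/-- The candidates for the neighbours in the long suborbit are twelve. -/
theorem card_candidates : ∀ k : Fin 60, (Finset.univ.filter fun k' : Fin 60 =>
    k.val / 4 ≠ k'.val / 4 ∧ cm k.val &&& cm k'.val = 0).card = 12 := by
  decide +kernel

theorem xor_facts : ∀ m n : Fin 16, m ^^^ m = 0 ∧ m ^^^ (m ^^^ n) = n ∧ n ^^^ m = m ^^^ n ∧
    (m ^^^ n) ^^^ n = m := by
  decide +kernel

end Cfsg.Lib.MTwentyTwo
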