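import Cfsg.Agent.Lib.MTwentyTwo.PlaneCases

/-!
# The stabilizers in the long suborbit

The fifteen orbits of the elementary group on the long suborbit correspond to the fifteen listed planes,
and the sixty points to their cosets.
-/

set_option autoImplicit false
set_option linter.style.haveILetI false
set_option linter.unusedSectionVars false

namespace Cfsg.Lib.MTwentyTwo

open Cfsg Cfsg.Lib

universe u

variable {G : Type u} [Group G]

open Classical in
/-- The plane of the elements fixing a point. -/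
noncomputable def fixSet (x v t b : G) (y : G ⧸ normTwo x) : Finset (Fin 16) :=
  Finset.univ.filter fun n => coord x v t b n • y = y

open Classical in
/-- The vectors of the short suborbit adjacent to a point. -/
noncomputable def nearSet (x v t b : G) (q y : G ⧸ normTwo x) : Finset (Fin 16) :=
  Finset.univ.filter fun n => Adj x q (coord x v t b n • q) y

theorem mem_fixSet {x v t b : G} {y : G ⧸ normTwo x} {n : Fin 16} :
    n ∈ fixSet x v t b y ↔ coord x v t b n • y = y := by
  simp [fixSet]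

theorem mem_nearSet {x v t b : G} {q y : G ⧸ normTwo x} {n : Fin 16} :
    n ∈ nearSet x v t b q y ↔ Adj x q (coord x v t b n • q) y := by
  simp [nearSet]

variable [Finite G]

namespace Frame

variable {x v t b : G} {q : G ⧸ normTwo x} (F : Frame x v t b q)
include F

theorem card_fixSet {y : G ⧸ normTwo x} (hy : Far x q y) : (fixSet x v t b y).card = 4 := by
  classical
  rw [← F.root.far_stab y hy, ← Nat.card_eq_finsetCard]
  refine Nat.card_congr (Equiv.ofBijective
    (fun n => (⟨coord x v t b n.1, F.coord_mem _, mem_fixSet.1 n.2⟩ : stabE x y))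
    ⟨fun m n h => Subtype.ext (F.coord_injective (congrArg Subtype.val h)), ?_⟩)
  rintro ⟨e, he, he'⟩
  obtain ⟨n, rfl⟩ := F.exists_coord he
  exact ⟨⟨n, mem_fixSet.2 he'⟩, rfl⟩

theorem zero_mem_fixSet (y : G ⧸ normTwo x) : (0 : Fin 16) ∈ fixSet x v t b y :=
  mem_fixSet.2 (by rw [F.coord_zero, one_smul])

theorem xor_mem_fixSet {y : G ⧸ normTwo x} {m n : Fin 16} (hm : m ∈ fixSet x v t b y)
    (hn : n ∈ fixSet x v t b y) : m ^^^ n ∈ fixSet x v t b y := by
  rw [mem_fixSet] at *
  rw [F.coord_xor, mul_smul, hn, hm]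

theorem exists_pl {y : G ⧸ normTwo x} (hy : Far x q y) :
    ∃ p r, fixSet x v t b y = pl p r := by
  classical
  have h3 : ((fixSet x v t b y).erase 0).card = 3 := by
    rw [Finset.card_erase_of_mem (F.zero_mem_fixSet y), F.card_fixSet hy]
  obtain ⟨p, r, s, hpr, -, -, he⟩ := Finset.card_eq_three.1 h3
  have hp : p ∈ (fixSet x v t b y).erase 0 := by rw [he]; simp
  have hr : r ∈ (fixSet x v t b y).erase 0 := by rw [he]; simp
  obtain ⟨hp0, hp⟩ := Finset.mem_erase.1 hp
  obtain ⟨hr0, hr⟩ := Finset.mem_erase.1 hr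
  refine ⟨p, r, (Finset.eq_of_subset_of_card_le (fun n hn => ?_) ?_).symm⟩
  · simp only [pl, Finset.mem_insert, Finset.mem_singleton] at hn
    rcases hn with rfl | rfl | rfl | rfl
    · exact F.zero_mem_fixSet y
    · exact hp
    · exact hr
    · exact F.xor_mem_fixSet hp hr
  · rw [F.card_fixSet hy]
    revert hp0 hr0 hpr
    exact (by decide +kernel : ∀ p r : Fin 16, p ≠ r → p ≠ 0 → r ≠ 0 → 4 ≤ (pl p r).card) p r

theorem conj_coord {h : G} (hh : h ∈ normTwo x) (n : Fin 16) :
    ∃ m, coord x v t b m = h * coord x v t b n * h⁻¹ :=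
  F.exists_coord (normTwo_conj hh (F.coord_mem n))

theorem mem_fixSet_smul {h : G} {y : G ⧸ normTwo x} {m n : Fin 16}
    (hm : coord x v t b m = h * coord x v t b n * h⁻¹) :
    m ∈ fixSet x v t b (h • y) ↔ n ∈ fixSet x v t b y := by
  rw [mem_fixSet, mem_fixSet, hm, ← mul_smul, inv_mul_cancel_right, mul_smul, smul_left_cancel_iff]

theorem fixSet_smul_eq {h : G} (hh : h ∈ normTwo x) {y y' : G ⧸ normTwo x}
    (e : fixSet x v t b y = fixSet x v t b y') :
    fixSet x v t b (h • y) = fixSet x v t b (h • y') := by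
  ext m
  obtain ⟨n, hn⟩ := F.conj_coord (inv_mem hh) m
  have hm : coord x v t b m = h * coord x v t b n * h⁻¹ := by rw [hn]; group
  rw [F.mem_fixSet_smul hm, F.mem_fixSet_smul hm, e]

theorem fixSet_translate (y : G ⧸ normTwo x) (m : Fin 16) :
    fixSet x v t b (coord x v t b m • y) = fixSet x v t b y := by
  ext n
  refine F.mem_fixSet_smul ?_
  rw [F.pair.comm_two F.loc (F.coord_mem m) (F.coord_mem n), mul_inv_cancel_right]

theorem far_translate {y : G ⧸ normTwo x} (hy : Far x q y) (m : Fin 16) :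
    Far x q (coord x v t b m • y) :=
  F.root.far_inv F.pair F.loc (F.pair.two_le_normTwo F.loc (F.coord_mem m)) hy

theorem fixSet_x (y : G ⧸ normTwo x) :
    fixSet x v t b (x • y) = (fixSet x v t b y).image px := by
  ext m
  rw [Finset.mem_image]
  constructor
  · intro hm
    have e : coord x v t b m = x * coord x v t b (px (px m)) * x⁻¹ := by
      rw [F.coord_px, (pv_cube m).2]
    exact ⟨px (px m), (F.mem_fixSet_smul e).1 hm, (pv_cube m).2⟩
  · rintro ⟨n, hn, rfl⟩
    exact (F.mem_fixSet_smul (F.coord_px n).symm).2 hn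

theorem fixSet_v (y : G ⧸ normTwo x) :
    fixSet x v t b (v • y) = (fixSet x v t b y).image pv := by
  ext m
  rw [Finset.mem_image]
  constructor
  · intro hm
    have e : coord x v t b m = v * coord x v t b (pv (pv m)) * v⁻¹ := by
      rw [F.coord_pv, (pv_cube m).1]
    exact ⟨pv (pv m), (F.mem_fixSet_smul e).1 hm, (pv_cube m).1⟩
  · rintro ⟨n, hn, rfl⟩
    exact (F.mem_fixSet_smul (F.coord_pv n).symm).2 hn

/-- Each involution fixes twelve points of the long suborbit. -/
theorem card_fixed (Fx : Fix x) {n : Fin 16} (hn : n ≠ 0) :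
    Nat.card {y // Far x q y ∧ n ∈ fixSet x v t b y} = 12 := by
  classical
  haveI := Fintype.ofFinite G
  haveI : Fintype (G ⧸ normTwo x) := Fintype.ofFinite _
  have he1 : coord x v t b n ≠ 1 := fun h => hn (F.coord_eq_one h)
  have h := Fx.fix _ (F.pair.two_order F.loc (F.coord_mem n) he1)
  rw [Nat.card_eq_fintype_card, Fintype.card_subtype] at h ⊢
  have hb : base x ∈ Finset.univ.filter fun c => coord x v t b n • c = c :=
    Finset.mem_filter.2 ⟨Finset.mem_univ _,
      smul_base_eq_iff.2 (F.pair.two_le_normTwo F.loc (F.coord_mem n))⟩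
  have := Finset.card_erase_of_mem hb
  rw [h] at this
  rw [← show ((Finset.univ.filter fun c => coord x v t b n • c = c).erase (base x)).card = 12 from this]
  congr 1
  ext y
  simp only [Finset.mem_filter, Finset.mem_univ, true_and, Finset.mem_erase, mem_fixSet]
  refine ⟨fun ⟨h1, h2⟩ => ⟨h1.1, h2⟩, fun ⟨h1, h2⟩ => ⟨⟨h1, fun hnear => ?_⟩, h2⟩⟩
  obtain ⟨e, he, rfl⟩ := hnear
  refine he1 (F.root.free _ (F.coord_mem n) ?_)
  rw [← mul_smul, F.pair.comm_two F.loc (F.coord_mem n) he, mul_smul, smul_left_cancel_iff] at h2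
  exact h2

/-- The orbit of the elementary group has four points. -/
theorem four_le_orbit {y : G ⧸ normTwo x} (hy : Far x q y) [DecidableEq (G ⧸ normTwo x)] :
    4 ≤ ((Finset.univ : Finset (Fin 16)).image fun n => coord x v t b n • y).card := by
  classical
  have h := Finset.card_le_mul_card_image (s := (Finset.univ : Finset (Fin 16)))
    (f := fun n => coord x v t b n • y) 4 (by
    intro c hc
    obtain ⟨m, -, rfl⟩ := Finset.mem_image.1 hc
    refine le_trans ?_ (F.card_fixSet hy).le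
    refine Finset.card_le_card_of_injOn (fun n => m ^^^ n) (fun n hn => ?_) ?_
    · rw [Finset.mem_coe, mem_fixSet, F.coord_xor, mul_smul, (Finset.mem_filter.1 hn).2, ← mul_smul,
        F.pair.mul_self F.loc (F.coord_mem m), one_smul]
    · intro a _ a' _ e
      have := congrArg (fun k => m ^^^ k) e
      simpa only [(xor_facts m a).2.1, (xor_facts m a').2.1] using this)
  rw [Finset.card_univ, Fintype.card_fin] at h
  omega

variable (Fx : Fix x)
include Fx

/-- No point has the first four-group as its plane. -/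
theorem fixSet_ne_A {y : G ⧸ normTwo x} (hy : Far x q y) : fixSet x v t b y ≠ pl 1 2 := by
  classical
  haveI := Fintype.ofFinite G
  haveI : Fintype (G ⧸ normTwo x) := Fintype.ofFinite _
  intro hV
  obtain ⟨c, hc, a, ha, hca⟩ := F.pair.not_cent_le_normalizer_four F.loc F.ht F.ht1
  have hcH := F.pair.cent_le F.loc F.ht F.ht1 hc
  set y1 := c • y with hy1def
  have hy1 : Far x q y1 := F.root.far_inv F.pair F.loc hcH hy
  have h1 : (1 : Fin 16) ∈ fixSet x v t b y1 := by
    refine (F.mem_fixSet_smul (n := 1) ?_).2 (by rw [hV]; simp [pl])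
    have e1 : coord x v t b 1 = t := by simp [coord, lo4, hi4, fourElt]
    rw [e1, conj_eq_iff_commute.2 (mem_cent.1 hc)]
  obtain ⟨p, r, hpr⟩ := F.exists_pl hy1
  have hne : pl p r ≠ pl 1 2 := by
    intro e
    apply hca
    obtain ⟨i, rfl⟩ : ∃ i, coord x v t b i = a := F.exists_coord (F.pair.four_x_le F.loc ha)
    obtain ⟨j, hj⟩ := F.conj_coord hcH i
    have hiV : i ∈ fixSet x v t b y := by
      rw [hV]
      have hB : fourElt b x (hi4 i) = 1 := by
        have hm : fourElt b x (hi4 i) ∈ four x := by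
          have := mul_mem (inv_mem (F.memA (lo4 i))) ha
          rwa [coord, inv_mul_cancel_left] at this
        exact F.pair.disjoint F.loc hm (F.memB _)
      have h0 : hi4 i = 0 := (F.loc.fourElt_spec F.pair.ov F.pair.ox F.pair.comm.symm F.ne' F.hb
        F.hb1).2.1 _ hB
      revert h0
      exact (by decide : ∀ i : Fin 16, hi4 i = 0 → i ∈ pl 1 2) i
    have hj' : j ∈ pl 1 2 := e ▸ hpr ▸ (F.mem_fixSet_smul hj).2 hiV
    rw [← hj]
    revert hj'
    refine fun hj' => ?_
    have h0 : hi4 j = 0 := by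
      revert hj'
      exact (by decide : ∀ j : Fin 16, j ∈ pl 1 2 → hi4 j = 0) j
    rw [coord, h0, show fourElt b x 0 = 1 from rfl, mul_one]
    exact F.memA _
  obtain ⟨d1, d2, d3, m1, m2⟩ := plane_triple p r (hpr ▸ h1) (hpr ▸ F.card_fixSet hy1) hne
  -- four disjoint orbits
  set O : G ⧸ normTwo x → Finset (G ⧸ normTwo x) :=
    fun z => (Finset.univ : Finset (Fin 16)).image fun n => coord x v t b n • z with hO
  have hxy : Far x q (x • y1) := F.root.far_inv F.pair F.loc (F.pair.x_mem F.loc) hy1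
  have hxxy : Far x q (x • x • y1) := F.root.far_inv F.pair F.loc (F.pair.x_mem F.loc) hxy
  have hOS : ∀ z w, w ∈ O z → fixSet x v t b w = fixSet x v t b z := by
    intro z w hw
    obtain ⟨n, -, rfl⟩ := Finset.mem_image.1 hw
    exact F.fixSet_translate z n
  have hd : ∀ z z', fixSet x v t b z ≠ fixSet x v t b z' → Disjoint (O z) (O z') := fun z z' h =>
    Finset.disjoint_left.2 fun w hw hw' => h ((hOS z w hw).symm.trans (hOS z' w hw'))
  have e1 : fixSet x v t b (x • y1) = (pl p r).image px := by rw [F.fixSet_x, hpr]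
  have e2 : fixSet x v t b (x • x • y1) = ((pl p r).image px).image px := by rw [F.fixSet_x, e1]
  have dV : ∀ W : Finset (Fin 16), W.image px = pl 1 2 → W = pl 1 2 := by
    intro W hW
    have := congrArg (fun S => (S.image px).image px) hW
    simp only [Finset.image_image] at this
    rw [show px ∘ px ∘ px = id from funext fun n => (pv_cube n).2, Finset.image_id] at this
    rw [this]
    decide
  have hsub : O y ∪ O y1 ∪ O (x • y1) ∪ O (x • x • y1) ⊆
      Finset.univ.filter fun z => Far x q z ∧ (1 : Fin 16) ∈ fixSet x v t b z := by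
    have hone : ∀ z, Far x q z → (1 : Fin 16) ∈ fixSet x v t b z → O z ⊆
        Finset.univ.filter fun z => Far x q z ∧ (1 : Fin 16) ∈ fixSet x v t b z := by
      intro z hz hz1 w hw
      refine Finset.mem_filter.2 ⟨Finset.mem_univ _, ?_, by rw [hOS z w hw]; exact hz1⟩
      obtain ⟨n, -, rfl⟩ := Finset.mem_image.1 hw
      exact F.far_translate hz n
    refine Finset.union_subset (Finset.union_subset (Finset.union_subset
      (hone y hy (by rw [hV]; simp [pl])) (hone y1 hy1 h1)) (hone _ hxy (e1 ▸ m1))) (hone _ hxxy (e2 ▸ m2))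
  have hcard := Finset.card_le_card hsub
  rw [Finset.card_union_of_disjoint, Finset.card_union_of_disjoint, Finset.card_union_of_disjoint,
    ← Fintype.card_subtype, ← Nat.card_eq_fintype_card, F.card_fixed Fx (by decide)] at hcard
  · have := F.four_le_orbit hy
    have := F.four_le_orbit hy1
    have := F.four_le_orbit hxy
    have := F.four_le_orbit hxxy
    simp only [hO] at hcard
    omega
  · exact hd _ _ (by rw [hV, hpr]; exact Ne.symm hne)
  · rw [Finset.disjoint_union_left]
    exact ⟨hd _ _ (by rw [hV, e1]; exact fun e => hne (dV _ e.symm)),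
      hd _ _ (by rw [hpr, e1]; exact Ne.symm d1)⟩
  · rw [Finset.disjoint_union_left, Finset.disjoint_union_left]
    exact ⟨⟨hd _ _ (by rw [hV, e2]; exact fun e => hne (dV _ (dV _ e.symm))),
      hd _ _ (by rw [hpr, e2]; exact Ne.symm d2)⟩, hd _ _ (by rw [e1, e2]; exact Ne.symm d3)⟩

/-- No point has the second four-group as its plane. -/
theorem fixSet_ne_B {y : G ⧸ normTwo x} (hy : Far x q y) : fixSet x v t b y ≠ pl 4 8 := by
  intro hW
  obtain ⟨g, hg⟩ := isConj_iff.1 (F.loc.conj_three x v F.pair.ox F.pair.ov)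
  have hgt : g * t * g⁻¹ ∈ four v := hg ▸ F.loc.four_conj F.pair.ox g F.ht
  have hgH : g ∈ normTwo x := F.pair.ti F.loc (F.pair.four_x_le F.loc F.ht) F.ht1
    (F.pair.four_v_le F.loc hgt)
  have hy' : Far x q (g⁻¹ • y) := F.root.far_inv F.pair F.loc (inv_mem hgH) hy
  refine F.fixSet_ne_A Fx hy' (Finset.eq_of_subset_of_card_le (fun n hn => ?_) ?_).symm
  · have hnA : coord x v t b n ∈ four x := by
      have h0 : hi4 n = 0 := by
        revert hn
        exact (by decide : ∀ n : Fin 16, n ∈ pl 1 2 → hi4 n = 0) n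
      rw [coord, h0, show fourElt b x 0 = 1 from rfl, mul_one]
      exact F.memA _
    have hm := F.loc.four_conj F.pair.ox g hnA
    rw [hg] at hm
    obtain ⟨m, hm'⟩ := F.exists_coord (F.pair.four_v_le F.loc hm)
    have hmB : m ∈ pl 4 8 := by
      have hA : fourElt t v (lo4 m) = 1 := by
        refine F.pair.disjoint F.loc (F.memA _) ?_
        rw [show fourElt t v (lo4 m) = coord x v t b m * (fourElt b x (hi4 m))⁻¹ by
          rw [coord, mul_inv_cancel_right], hm']
        exact mul_mem hm (inv_mem (F.memB _))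
      have h0 : lo4 m = 0 := (F.loc.fourElt_spec F.pair.ox F.pair.ov F.pair.comm F.pair.ne F.ht
        F.ht1).2.1 _ hA
      revert h0
      exact (by decide : ∀ m : Fin 16, lo4 m = 0 → m ∈ pl 4 8) m
    refine (F.mem_fixSet_smul (n := n) hm').1 ?_
    rw [smul_inv_smul, hW]
    exact hmB
  · rw [F.card_fixSet hy']
    decide

/-- The points with a plane through the first vector lie in three orbits permuted by `x`. -/
theorem through_one {y : G ⧸ normTwo x} (hy : Far x q y) (h1 : (1 : Fin 16) ∈ fixSet x v t b y)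
    {z : G ⧸ normTwo x} (hz : Far x q z) (hz1 : (1 : Fin 16) ∈ fixSet x v t b z) :
    ∃ m, z = coord x v t b m • y ∨ z = coord x v t b m • x • y ∨ z = coord x v t b m • x • x • y := by
  classical
  haveI := Fintype.ofFinite G
  haveI : Fintype (G ⧸ normTwo x) := Fintype.ofFinite _
  obtain ⟨p, r, hpr⟩ := F.exists_pl hy
  obtain ⟨d1, d2, d3, m1, m2⟩ :=
    plane_triple p r (hpr ▸ h1) (hpr ▸ F.card_fixSet hy) (hpr ▸ F.fixSet_ne_A Fx hy)
  set O : G ⧸ normTwo x → Finset (G ⧸ normTwo x) :=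
    fun z => (Finset.univ : Finset (Fin 16)).image fun n => coord x v t b n • z with hO
  have hxy : Far x q (x • y) := F.root.far_inv F.pair F.loc (F.pair.x_mem F.loc) hy
  have hxxy : Far x q (x • x • y) := F.root.far_inv F.pair F.loc (F.pair.x_mem F.loc) hxy
  have hOS : ∀ z w, w ∈ O z → fixSet x v t b w = fixSet x v t b z := by
    intro z w hw
    obtain ⟨n, -, rfl⟩ := Finset.mem_image.1 hw
    exact F.fixSet_translate z n
  have hd : ∀ z z', fixSet x v t b z ≠ fixSet x v t b z' → Disjoint (O z) (O z') := fun z z' h =>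
    Finset.disjoint_left.2 fun w hw hw' => h ((hOS z w hw).symm.trans (hOS z' w hw'))
  have e1 : fixSet x v t b (x • y) = (pl p r).image px := by rw [F.fixSet_x, hpr]
  have e2 : fixSet x v t b (x • x • y) = ((pl p r).image px).image px := by rw [F.fixSet_x, e1]
  set T := Finset.univ.filter fun z => Far x q z ∧ (1 : Fin 16) ∈ fixSet x v t b z with hT
  have hone : ∀ z, Far x q z → (1 : Fin 16) ∈ fixSet x v t b z → O z ⊆ T := by
    intro z hz hz1 w hw
    refine Finset.mem_filter.2 ⟨Finset.mem_univ _, ?_, by rw [hOS z w hw]; exact hz1⟩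
    obtain ⟨n, -, rfl⟩ := Finset.mem_image.1 hw
    exact F.far_translate hz n
  have hsub : O y ∪ O (x • y) ∪ O (x • x • y) ⊆ T :=
    Finset.union_subset (Finset.union_subset (hone y hy h1) (hone _ hxy (e1 ▸ m1))) (hone _ hxxy (e2 ▸ m2))
  have hT12 : T.card = 12 := by
    rw [hT, ← Fintype.card_subtype, ← Nat.card_eq_fintype_card, F.card_fixed Fx (by decide)]
  have heq := Finset.eq_of_subset_of_card_le hsub (by
    rw [Finset.card_union_of_disjoint, Finset.card_union_of_disjoint, hT12]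
    · have := F.four_le_orbit hy
      have := F.four_le_orbit hxy
      have := F.four_le_orbit hxxy
      simp only [hO]
      omega
    · exact hd _ _ (by rw [hpr, e1]; exact Ne.symm d1)
    · rw [Finset.disjoint_union_left]
      exact ⟨hd _ _ (by rw [hpr, e2]; exact Ne.symm d2), hd _ _ (by rw [e1, e2]; exact Ne.symm d3)⟩)
  have hmem : z ∈ T := Finset.mem_filter.2 ⟨Finset.mem_univ _, hz, hz1⟩
  rw [← heq] at hmem
  simp only [hO, Finset.mem_union, Finset.mem_image, Finset.mem_univ, true_and] at hmem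
  rcases hmem with (⟨m, hm⟩ | ⟨m, hm⟩) | ⟨m, hm⟩
  · exact ⟨m, Or.inl hm.symm⟩
  · exact ⟨m, Or.inr (Or.inl hm.symm)⟩
  · exact ⟨m, Or.inr (Or.inr hm.symm)⟩

theorem exists_through_one : ∃ y, Far x q y ∧ (1 : Fin 16) ∈ fixSet x v t b y := by
  have h := F.card_fixed Fx (n := 1) (by decide)
  haveI : Nonempty {y // Far x q y ∧ (1 : Fin 16) ∈ fixSet x v t b y} :=
    (Nat.card_pos_iff.1 (by omega : 0 < Nat.card {y // Far x q y ∧ (1 : Fin 16) ∈ fixSet x v t b y})).1
  obtain ⟨y, hy⟩ := Classical.arbitrary {y // Far x q y ∧ (1 : Fin 16) ∈ fixSet x v t b y}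
  exact ⟨y, hy⟩

/-- A plane determines the orbit. -/
theorem orbit_of_fixSet_eq {y y' : G ⧸ normTwo x} (hy : Far x q y) (hy' : Far x q y')
    (e : fixSet x v t b y = fixSet x v t b y') : ∃ m, y' = coord x v t b m • y := by
  obtain ⟨y1, hy1, h1⟩ := F.exists_through_one Fx
  obtain ⟨h, hh, rfl⟩ := F.root.far_trans y y1 hy hy1
  have e' : fixSet x v t b (h • y') = fixSet x v t b (h • y) := (F.fixSet_smul_eq hh e).symm
  obtain ⟨p, r, hpr⟩ := F.exists_pl hy1
  obtain ⟨d1, d2, -, -, -⟩ :=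
    plane_triple p r (hpr ▸ h1) (hpr ▸ F.card_fixSet hy1) (hpr ▸ F.fixSet_ne_A Fx hy1)
  obtain ⟨m, hm | hm | hm⟩ := F.through_one Fx hy1 h1 (F.root.far_inv F.pair F.loc hh hy') (e' ▸ h1)
  · obtain ⟨n, hn⟩ := F.conj_coord (inv_mem hh) m
    refine ⟨n, ?_⟩
    rw [hn, inv_inv, mul_smul, mul_smul, ← hm, inv_smul_smul]
  · rw [hm, F.fixSet_translate, F.fixSet_x, hpr] at e'
    exact absurd e' d1
  · rw [hm, F.fixSet_translate, F.fixSet_x, F.fixSet_x, hpr] at e'
    exact absurd e' d2

theorem hit_A_cases {y : G ⧸ normTwo x} (hy : Far x q y) (hA : hitA (fixSet x v t b y)) :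
    ∃ y1, Far x q y1 ∧ (1 : Fin 16) ∈ fixSet x v t b y1 ∧
      (hitB (fixSet x v t b y1) ↔ hitB (fixSet x v t b y)) := by
  obtain ⟨h12, h23, h31, -⟩ : pv 1 = 2 ∧ pv 2 = 3 ∧ pv 3 = 1 ∧ True := by decide
  have hstep : ∀ z, Far x q z → Far x q (v • z) ∧ (hitB (fixSet x v t b (v • z)) ↔ hitB (fixSet x v t b z)) := by
    intro z hz
    obtain ⟨p, r, hpr⟩ := F.exists_pl hz
    refine ⟨F.root.far_inv F.pair F.loc (F.pair.v_mem F.loc) hz, ?_⟩
    rw [F.fixSet_v, hpr]
    exact (hit_invariant p r).2.2.2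
  rcases hA with h | h | h
  · exact ⟨y, hy, h, Iff.rfl⟩
  · obtain ⟨f1, i1⟩ := hstep y hy
    obtain ⟨f2, i2⟩ := hstep _ f1
    refine ⟨_, f2, ?_, i2.trans i1⟩
    rw [F.fixSet_v, F.fixSet_v, ← h31, ← h23]
    exact Finset.mem_image_of_mem _ (Finset.mem_image_of_mem _ h)
  · obtain ⟨f1, i1⟩ := hstep y hy
    refine ⟨_, f1, ?_, i1⟩
    rw [F.fixSet_v, ← h31]
    exact Finset.mem_image_of_mem _ h

/-- A plane meets one four-group if and only if it meets the other. -/
theorem hit_iff {y : G ⧸ normTwo x} (hy : Far x q y) :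
    hitA (fixSet x v t b y) ↔ hitB (fixSet x v t b y) := by
  classical
  haveI := Fintype.ofFinite G
  haveI : Fintype (G ⧸ normTwo x) := Fintype.ofFinite _
  set U := Finset.univ.filter (Far x q) with hU
  have hU60 : U.card = 60 := by
    rw [hU, ← Fintype.card_subtype, ← Nat.card_eq_fintype_card, F.root.card_far]
  let T : Fin 16 → Finset (G ⧸ normTwo x) := fun n => U.filter fun z => n ∈ fixSet x v t b z
  have hT : ∀ n, n ≠ 0 → (T n).card = 12 := by
    intro n hn
    show (U.filter fun z => n ∈ fixSet x v t b z).card = 12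
    rw [hU, Finset.filter_filter, ← Fintype.card_subtype, ← Nat.card_eq_fintype_card, F.card_fixed Fx hn]
  have hdA : ∀ {m n : Fin 16}, (m = 1 ∧ n = 2) ∨ (m = 1 ∧ n = 3) ∨ (m = 2 ∧ n = 3) →
      Disjoint (T m) (T n) := by
    intro m n hmn
    rw [Finset.disjoint_left]
    intro z hz hz'
    obtain ⟨hzU, hzm⟩ := Finset.mem_filter.1 hz
    have hzn := (Finset.mem_filter.1 hz').2
    have hzf := (Finset.mem_filter.1 hzU).2
    obtain ⟨p, r, hpr⟩ := F.exists_pl hzf
    obtain ⟨a1, a2, a3⟩ := one_A p r (hpr ▸ F.card_fixSet hzf) (hpr ▸ F.fixSet_ne_A Fx hzf)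
    rw [hpr] at hzm hzn
    rcases hmn with ⟨rfl, rfl⟩ | ⟨rfl, rfl⟩ | ⟨rfl, rfl⟩
    · exact a1 ⟨hzm, hzn⟩
    · exact a2 ⟨hzm, hzn⟩
    · exact a3 ⟨hzm, hzn⟩
  have hdB : ∀ {m n : Fin 16}, (m = 4 ∧ n = 8) ∨ (m = 4 ∧ n = 12) ∨ (m = 8 ∧ n = 12) →
      Disjoint (T m) (T n) := by
    intro m n hmn
    rw [Finset.disjoint_left]
    intro z hz hz'
    obtain ⟨hzU, hzm⟩ := Finset.mem_filter.1 hz
    have hzn := (Finset.mem_filter.1 hz').2
    have hzf := (Finset.mem_filter.1 hzU).2
    obtain ⟨p, r, hpr⟩ := F.exists_pl hzf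
    obtain ⟨a1, a2, a3⟩ := one_B p r (hpr ▸ F.card_fixSet hzf) (hpr ▸ F.fixSet_ne_B Fx hzf)
    rw [hpr] at hzm hzn
    rcases hmn with ⟨rfl, rfl⟩ | ⟨rfl, rfl⟩ | ⟨rfl, rfl⟩
    · exact a1 ⟨hzm, hzn⟩
    · exact a2 ⟨hzm, hzn⟩
    · exact a3 ⟨hzm, hzn⟩
  set A := U.filter fun z => hitA (fixSet x v t b z) with hA
  set B := U.filter fun z => hitB (fixSet x v t b z) with hB
  have hA36 : A.card = 36 := by
    rw [show A = T 1 ∪ T 2 ∪ T 3 by
      ext z; simp only [hA, T, Finset.mem_filter, Finset.mem_union]; unfold hitA; tauto, Finset.card_union_of_disjoint,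
      Finset.card_union_of_disjoint, hT 1 (by decide), hT 2 (by decide), hT 3 (by decide)]
    · exact hdA (Or.inl ⟨rfl, rfl⟩)
    · rw [Finset.disjoint_union_left]
      exact ⟨hdA (Or.inr (Or.inl ⟨rfl, rfl⟩)), hdA (Or.inr (Or.inr ⟨rfl, rfl⟩))⟩
  have hB36 : B.card = 36 := by
    rw [show B = T 4 ∪ T 8 ∪ T 12 by
      ext z; simp only [hB, T, Finset.mem_filter, Finset.mem_union]; unfold hitB; tauto, Finset.card_union_of_disjoint,
      Finset.card_union_of_disjoint, hT 4 (by decide), hT 8 (by decide), hT 12 (by decide)]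
    · exact hdB (Or.inl ⟨rfl, rfl⟩)
    · rw [Finset.disjoint_union_left]
      exact ⟨hdB (Or.inr (Or.inl ⟨rfl, rfl⟩)), hdB (Or.inr (Or.inr ⟨rfl, rfl⟩))⟩
  obtain ⟨y0, hy0, h0⟩ := F.exists_through_one Fx
  have huniform : ∀ z, Far x q z → (1 : Fin 16) ∈ fixSet x v t b z →
      (hitB (fixSet x v t b z) ↔ hitB (fixSet x v t b y0)) := by
    intro z hz hz1
    obtain ⟨p, r, hpr⟩ := F.exists_pl hy0
    obtain ⟨p', r', hpr'⟩ := F.exists_pl (F.root.far_inv F.pair F.loc (F.pair.x_mem F.loc) hy0)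
    obtain ⟨m, hm | hm | hm⟩ := F.through_one Fx hy0 h0 hz hz1
    · rw [hm, F.fixSet_translate]
    · rw [hm, F.fixSet_translate, F.fixSet_x, hpr]
      exact (hit_invariant p r).2.1
    · rw [hm, F.fixSet_translate, F.fixSet_x, hpr', (hit_invariant p' r').2.1, ← hpr', F.fixSet_x, hpr]
      exact (hit_invariant p r).2.1
  have hall : ∀ z ∈ A, (hitB (fixSet x v t b z) ↔ hitB (fixSet x v t b y0)) := by
    intro z hz
    obtain ⟨hzU, hzA⟩ := Finset.mem_filter.1 hz
    obtain ⟨z1, hz1, h11, hi⟩ := F.hit_A_cases Fx (Finset.mem_filter.1 hzU).2 hzA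
    exact hi.symm.trans (huniform z1 hz1 h11)
  by_cases hb0 : hitB (fixSet x v t b y0)
  · have hsub : A ⊆ B := fun z hz =>
      Finset.mem_filter.2 ⟨(Finset.mem_filter.1 hz).1, (hall z hz).2 hb0⟩
    have heq := Finset.eq_of_subset_of_card_le hsub (by rw [hA36, hB36])
    have hyU : y ∈ U := Finset.mem_filter.2 ⟨Finset.mem_univ _, hy⟩
    refine ⟨fun h => ((Finset.mem_filter.1 (heq ▸ (Finset.mem_filter.2 ⟨hyU, h⟩ : y ∈ A) : y ∈ B))).2,
      fun h => ((Finset.mem_filter.1 (heq.symm ▸ (Finset.mem_filter.2 ⟨hyU, h⟩ : y ∈ B) : y ∈ A))).2⟩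
  · exfalso
    have hdis : Disjoint A B := Finset.disjoint_left.2 fun z hz hz' =>
      hb0 ((hall z hz).1 (Finset.mem_filter.1 hz').2)
    have hle := Finset.card_le_card
      (Finset.union_subset (Finset.filter_subset _ _) (Finset.filter_subset _ _) : A ∪ B ⊆ U)
    rw [Finset.card_union_of_disjoint hdis, hA36, hB36, hU60] at hle
    omega

theorem exists_plane {y : G ⧸ normTwo x} (hy : Far x q y) :
    ∃ i : Fin 15, ∀ n, n ∈ fixSet x v t b y ↔ inPlane i n = true := by
  obtain ⟨p, r, hpr⟩ := F.exists_pl hy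
  have h1 := F.fixSet_ne_A Fx hy
  have h2 := F.fixSet_ne_B Fx hy
  have h3 := F.hit_iff Fx hy
  rw [hpr] at h1 h2 h3 ⊢
  exact good_listed p r (hpr ▸ F.card_fixSet hy) h1 h2 h3

end Frame

end Cfsg.Lib.MTwentyTwo
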