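import Cfsg.Agent.Lib.MTwentyTwo.CentFour

/-!
# The elementary group of order 16: existence

The Sylow 2-subgroup `twoCore x` of the centralizer of `four x` is normal of order 16 and is the product
of two commuting four-groups.
-/

set_option autoImplicit false
set_option linter.style.haveILetI false
set_option linter.unusedSectionVars false

namespace Cfsg.Lib.MTwentyTwo

open Cfsg Cfsg.Lib

universe u

variable {G : Type u} [Group G] [Finite G]

/-- The subgroup generated by the 2-elements centralizing the four-group of `x`. -/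
def twoCore (x : G) : Subgroup G := Subgroup.closure {g | g ∈ centFour x ∧ g ^ 128 = 1}

theorem map_conj_twoCore_le {x y c : G}
    (h : ∀ g ∈ centFour x, c * g * c⁻¹ ∈ centFour y) {g : G} (hg : g ∈ twoCore x) :
    c * g * c⁻¹ ∈ twoCore y := by
  have hle : twoCore x ≤ (twoCore y).comap (MulAut.conj c).toMonoidHom :=
    (Subgroup.closure_le _).2 fun a ha => Subgroup.subset_closure
      ⟨h a ha.1, conj_pow_two (k := 7) ha.2 c⟩
  exact hle hg

namespace Loc

variable (L : Loc G)
include L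

theorem centFour_le {x t : G} (ht : t ∈ four x) : centFour x ≤ Subgroup.centralizer ({t} : Set G) :=
  fun _ hg => mem_cent.2 (mem_centFour.1 hg t ht).symm

theorem two_basic {x : G} (hx : orderOf x = 3) :
    (Nat.card (twoCore x) = 16 ∨ Nat.card (twoCore x) = 64) ∧ twoCore x ≤ centFour x ∧
      Nat.card (centFour x) = 3 * Nat.card (twoCore x) ∧
      (∀ g ∈ centFour x, ∀ k : ℕ, g ^ 2 ^ k = 1 → g ∈ twoCore x) ∧
      (∀ g ∈ centFour x, ∀ r ∈ twoCore x, g * r * g⁻¹ ∈ twoCore x) := by
  classical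
  haveI : Fact (Nat.Prime 3) := ⟨Nat.prime_three⟩
  haveI : Fact (Nat.Prime 2) := ⟨Nat.prime_two⟩
  obtain ⟨t, ht, ht1⟩ := L.exists_four_ne_one hx
  have hcore := L.exists_core hx ht ht1
  have ht2 := L.four_orderOf hx ht ht1
  set C := Subgroup.centralizer ({t} : Set G) with hCdef
  obtain ⟨α, hα, ρ, hα3, hker, hρx, hρV⟩ := hcore
  have hle : centFour x ≤ C := L.centFour_le ht
  set R := centFour x ⊓ ρ.ker.map C.subtype with hR
  have hR64 : ∀ g ∈ R, g ^ 2 ^ 6 = 1 := fun g hg => pow_two_of_card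
    (by rw [Subgroup.card_map_of_injective C.subtype_injective, hker]; norm_num) hg.2
  obtain ⟨j, hj6, hj⟩ : ∃ j, j ≤ 6 ∧ Nat.card R = 2 ^ j := (Nat.dvd_prime_pow Nat.prime_two).1 (by
    have := Subgroup.card_dvd_of_le (inf_le_right : R ≤ ρ.ker.map C.subtype)
    rwa [Subgroup.card_map_of_injective C.subtype_injective, hker,
      show (64 : ℕ) = 2 ^ 6 from rfl] at this)
  have hxc : x ∈ centFour x := L.self_mem_centFour hx
  set f : centFour x →* Equiv.Perm α := ρ.comp (Subgroup.inclusion hle) with hf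
  have hmemR : ∀ g : centFour x, f g = 1 ↔ (g : G) ∈ R := by
    intro g
    constructor
    · intro h
      exact ⟨g.2, Subgroup.inclusion hle g, h, rfl⟩
    · rintro ⟨-, q, hq, hqg⟩
      have : q = Subgroup.inclusion hle g := Subtype.ext hqg
      rw [this] at hq
      exact hq
  have hfker : f.ker = R.subgroupOf (centFour x) := by
    ext g; rw [MonoidHom.mem_ker, Subgroup.mem_subgroupOf, hmemR]
  have hmul : Nat.card R * Nat.card f.range = Nat.card (centFour x) := by
    have h := f.ker.card_mul_index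
    rw [Subgroup.index_ker, hfker,
      Nat.card_congr (Subgroup.subgroupOfEquivOfLe inf_le_left).toEquiv] at h
    exact h
  have hfx : orderOf (f ⟨x, hxc⟩) = 3 := orderOf_eq_prime_of_pow Nat.prime_three
    (by rw [← map_pow, show (⟨x, hxc⟩ : centFour x) ^ 3 = 1 from
      Subtype.ext (hx ▸ pow_orderOf_eq_one x), map_one]) hρx
  have hr6 : Nat.card f.range ∣ 6 := by
    refine (Subgroup.card_subgroup_dvd_card _).trans (dvd_of_eq ?_)
    rw [Nat.card_perm, Nat.card_eq_fintype_card, hα3]; rfl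
  have hr3 : 3 ∣ Nat.card f.range :=
    hfx ▸ Subgroup.orderOf_dvd_natCard _ (MonoidHom.mem_range.2 ⟨_, rfl⟩)
  -- the number of Sylow 3-subgroups
  have hC384 : Nat.card (centFour x) ∣ 384 := L.cent_two t ht2 ▸ Subgroup.card_dvd_of_le hle
  have h12 : Nat.card (Subgroup.centralizer ({x} : Set G) ⊓ centFour x : Subgroup G) = 12 := by
    have e : Subgroup.centralizer ({x} : Set G) ⊓ centFour x = Subgroup.centralizer ({x} : Set G) ⊓ C := by
      refine le_antisymm (inf_le_inf_left _ hle) fun g hg => ⟨hg.1, mem_centFour.2 fun v hv => ?_⟩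
      by_cases hv1 : v = 1
      · rw [hv1, one_mul, mul_one]
      obtain ⟨w, hw, hc, hne⟩ := L.exists_partner hx
      have hmem : ∀ r ∈ four x, g * r * g⁻¹ ∈ four x := fun r hr =>
        L.four_invariant hx (mem_cent.1 hg.1).symm hr
      have hgt : g * t * g⁻¹ = t := conj_eq_iff_commute.2 (mem_cent.1 hg.2)
      by_cases hvt : v = t
      · rw [hvt]; exact (mem_cent.1 hg.2).symm
      have hgv : g * v * g⁻¹ = v := by
        by_contra hne'
        set v' := g * v * g⁻¹ with hv'
        have hv'm : v' ∈ four x := hmem v hv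
        have hv'1 : v' ≠ 1 := fun e => hv1 (conj_eq_one_iff.1 e)
        have hv't : v' ≠ t := fun e => hvt (by
          have := e.trans hgt.symm
          exact mul_left_cancel (mul_right_cancel this))
        -- `g` would swap two elements and have even order modulo the kernel
        have hg2 : g * v' * g⁻¹ = v := by
          have h1 := hmem v' hv'm
          have n1 : g * v' * g⁻¹ ≠ 1 := fun e => hv'1 (conj_eq_one_iff.1 e)
          have n2 : g * v' * g⁻¹ ≠ t := fun e => hv't (by
            have := e.trans hgt.symm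
            exact mul_left_cancel (mul_right_cancel this))
          have n3 : g * v' * g⁻¹ ≠ v' := fun e => hne' (by
            have e2 : v' = v := mul_left_cancel (mul_right_cancel (e.trans hv'))
            exact e2)
          rcases L.four_cases hx hw hc hne ht ht1 hv hv1 with e | e | e
          · exact absurd e hvt
          all_goals
            rcases L.four_cases hx hw hc hne ht ht1 hv'm hv'1 with e' | e' | e'
            · exact absurd e' hv't
            all_goals
              rcases L.four_cases hx hw hc hne ht ht1 h1 n1 with e'' | e'' | e''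
              · exact absurd e'' n2
              all_goals
                first
                  | exact e''.trans e.symm
                  | exact absurd (e'.trans e.symm) hne'
                  | exact absurd (e''.trans e'.symm) n3
        have hord : orderOf g ∣ 12 := by
          have := Subgroup.orderOf_dvd_natCard (Subgroup.centralizer ({x} : Set G) ⊓ C) hg
          rwa [L.card_cent_pair hx ht ht1] at this
        have hsq : (g ^ 2) * v * (g ^ 2)⁻¹ = v := by
          calc (g ^ 2) * v * (g ^ 2)⁻¹ = g * (g * v * g⁻¹) * g⁻¹ := by rw [pow_two]; group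
            _ = v := hg2
        -- the cube of `g` is a 2-element of `C(x)`, hence in the four-group
        have h3 : g ^ 3 ∈ four x := L.four_mem_of_pow hx
          ((show Commute g x from mem_cent.1 hg.1).pow_left 3).eq (k := 2)
          (by rw [← pow_mul]; exact orderOf_dvd_iff_pow_eq_one.1 hord)
        have h3v : g ^ 3 * v * (g ^ 3)⁻¹ = v := by
          rw [conj_eq_iff_commute]; exact L.four_comm hx h3 hv
        apply hne'
        calc g * v * g⁻¹ = g * (g ^ 2 * v * (g ^ 2)⁻¹) * g⁻¹ := by rw [hsq]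
          _ = g ^ 3 * v * (g ^ 3)⁻¹ := by rw [pow_succ' g 2]; group
          _ = v := h3v
      exact (conj_eq_iff_commute.1 hgv).symm
    rw [e, L.card_cent_pair hx ht ht1]
  obtain ⟨k, hk⟩ : ∃ k, Nat.card (centFour x) = 3 * k := by
    have : 3 ∣ Nat.card (centFour x) := hx ▸ Subgroup.orderOf_dvd_natCard _ hxc
    exact this
  have h3k : ¬ 3 ∣ k := fun h => by
    have h9 : 3 * 3 ∣ 384 := (hk ▸ Nat.mul_dvd_mul_left 3 h).trans hC384
    norm_num at h9
  set X := (Subgroup.zpowers x).subgroupOf (centFour x)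
  have hX : Nat.card X = 3 := by
    rw [Nat.card_congr (Subgroup.subgroupOfEquivOfLe (Subgroup.zpowers_le.2 hxc)).toEquiv,
      card_zpowers_three hx]
  obtain ⟨S, hS⟩ := (IsPGroup.of_card (G := ↥X) (p := 3) (n := 1) (by rw [hX, pow_one])).exists_le_sylow
  have hkS : Nat.card (centFour x) = 3 ^ 1 * k := by rw [hk, pow_one]
  have hXS : X = (S : Subgroup (centFour x)) := Subgroup.eq_of_le_of_card_ge hS (by
    rw [Small.card_sylow 1 k hkS h3k S, hX, pow_one])
  have hN : Subgroup.normalizer ((S : Subgroup (centFour x)) : Set (centFour x)) =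
      (Subgroup.centralizer ({x} : Set G) ⊓ centFour x).subgroupOf (centFour x) := by
    ext g
    rw [Subgroup.mem_subgroupOf, Subgroup.mem_inf, and_iff_left g.2, mem_cent]
    constructor
    · intro hg
      have hxS : (⟨x, hxc⟩ : centFour x) ∈ (S : Subgroup (centFour x)) :=
        hXS ▸ (Subgroup.mem_zpowers x : x ∈ _)
      have h := (Subgroup.mem_normalizer_iff.1 hg _).1 hxS
      rw [← hXS] at h
      rcases mem_zpowers_three hx (show (g : G) * x * (g : G)⁻¹ ∈ Subgroup.zpowers x from h) with e | e | e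
      · rw [conj_eq_one_iff] at e; rw [e, orderOf_one] at hx; omega
      · exact conj_eq_iff_commute.1 e
      · exact (L.no_inv hx g.2 e).elim
    · intro hg
      refine Subgroup.mem_normalizer_fintype fun n hn => ?_
      rw [SetLike.mem_coe, ← hXS] at hn ⊢
      show (g : G) * (n : G) * (g : G)⁻¹ ∈ Subgroup.zpowers x
      obtain ⟨i, hi⟩ := Subgroup.mem_zpowers_iff.1 (show (n : G) ∈ Subgroup.zpowers x from hn)
      rw [← hi, ((show Commute (g : G) x from hg).zpow_right i).eq, mul_inv_cancel_right, hi]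
      exact hn
  have hn := Small.card_normalizer_mul S
  rw [hN, Nat.card_congr (Subgroup.subgroupOfEquivOfLe inf_le_right).toEquiv, h12] at hn
  have hmod := (Small.sylow_facts (G := centFour x) (p := 3) 1 k hkS h3k).2
  set n := Nat.card (Sylow 3 (centFour x))
  -- the fixed points of `x`
  have hxR : ∀ r ∈ R, x * r * x⁻¹ ∈ R := by
    rintro _ ⟨hr, q, hq, rfl⟩
    refine ⟨L.centFour_invariant hx rfl hr,
      ⟨x, hle hxc⟩ * q * (⟨x, hle hxc⟩ : C)⁻¹, ρ.normal_ker.conj_mem q hq _, rfl⟩
  have hfix : R ⊓ Subgroup.centralizer ({x} : Set G) = four x := by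
    refine le_antisymm (fun g hg => L.four_mem_of_pow hx (mem_cent.1 hg.2) (hR64 g hg.1))
      fun g hg => ⟨⟨L.four_le_centFour_self hx hg, ⟨g, hle (L.four_le_centFour_self hx hg)⟩,
        hρV _ hg, rfl⟩, mem_cent.2 ((L.four_mem_iff hx).1 hg).1⟩
  have h43 := card_mod_three R hx hxR
  rw [hfix, L.card_four hx] at h43
  have hd3 : Nat.card f.range = 3 := by
    obtain ⟨d, hd⟩ := hr3
    have hd2 : d ∣ 2 := (Nat.mul_dvd_mul_iff_left (show 0 < 3 by norm_num)).1 (hd ▸ hr6)
    rcases (Nat.dvd_prime Nat.prime_two).1 hd2 with e | e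
    · rw [hd, e]
    · exfalso
      rw [hd, e, ← hn] at hmul
      omega
  rw [hd3, ← hn] at hmul
  have hRn : Nat.card R = 4 * n := by omega
  have h2el : ∀ g ∈ centFour x, ∀ k : ℕ, g ^ 2 ^ k = 1 → g ∈ R := by
    intro g hg k hgk
    refine (hmemR ⟨g, hg⟩).1 (orderOf_eq_one_iff.1 ?_)
    have h1 : orderOf (f ⟨g, hg⟩) ∣ 2 ^ k := orderOf_dvd_of_pow_eq_one (by
      rw [← map_pow, show (⟨g, hg⟩ : centFour x) ^ 2 ^ k = 1 from Subtype.ext hgk, map_one])
    have h2 : orderOf (f ⟨g, hg⟩) ∣ 3 :=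
      hd3 ▸ Subgroup.orderOf_dvd_natCard _ (MonoidHom.mem_range.2 ⟨_, rfl⟩)
    exact Nat.eq_one_of_dvd_coprimes ((show Nat.Coprime 2 3 by norm_num).pow_left k) h1 h2
  have heq : twoCore x = R := le_antisymm
    ((Subgroup.closure_le _).2 fun g hg => h2el g hg.1 7 hg.2)
    fun g hg => Subgroup.subset_closure ⟨hg.1, by
      rw [show 128 = 2 ^ 6 * 2 from rfl, pow_mul, hR64 g hg, one_pow]⟩
  -- four is excluded
  have hn1 : n ≠ 1 := by
    intro hn1
    rw [hn1, one_mul] at hn
    set Q := ρ.ker.map C.subtype with hQ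
    have hQ64 : Nat.card Q = 2 ^ 6 := by
      rw [Subgroup.card_map_of_injective C.subtype_injective, hker]; norm_num
    have hVQ : four x ≤ Q := fun g hg =>
      ⟨⟨g, hle (L.four_le_centFour_self hx hg)⟩, hρV _ hg, rfl⟩
    have hQp : IsPGroup 2 Q := IsPGroup.of_card hQ64
    haveI : Group.IsNilpotent Q := hQp.isNilpotent
    have hlt : (four x).subgroupOf Q < ⊤ := by
      refine lt_top_iff_ne_top.2 fun e => ?_
      have := L.card_four hx
      rw [← Nat.card_congr (Subgroup.subgroupOfEquivOfLe hVQ).toEquiv, e, Subgroup.card_top, hQ64] at this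
      norm_num at this
    obtain ⟨q, hq, hqV⟩ := SetLike.exists_of_lt (Group.normalizerCondition_of_isNilpotent _ hlt)
    have hqn : ∀ v ∈ four x, (q : G) * v * (q : G)⁻¹ ∈ four x := fun v hv =>
      (Subgroup.mem_normalizer_iff.1 hq ⟨v, hVQ hv⟩).1 hv
    have hqn' : ∀ v ∈ four x, (q : G)⁻¹ * v * (q : G) ∈ four x := by
      intro v hv
      have h := (Subgroup.mem_normalizer_iff.1 (inv_mem hq) ⟨v, hVQ hv⟩).1 hv
      rw [Subgroup.mem_subgroupOf] at h
      simpa [inv_inv] using h
    have hy : (q : G) * x * (q : G)⁻¹ ∈ centFour x := by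
      refine mem_centFour.2 fun v hv => ?_
      have h := mem_centFour.1 hxc _ (hqn' v hv)
      calc v * ((q : G) * x * (q : G)⁻¹) = q * (((q : G)⁻¹ * v * q) * x) * (q : G)⁻¹ := by group
        _ = q * (x * ((q : G)⁻¹ * v * q)) * (q : G)⁻¹ := by rw [h]
        _ = q * x * (q : G)⁻¹ * v := by group
    have hall : Subgroup.centralizer ({x} : Set G) ⊓ centFour x = centFour x :=
      Subgroup.eq_of_le_of_card_ge inf_le_right (by rw [h12, ← hn])
    have hyx := (hall.symm ▸ hy : (q : G) * x * (q : G)⁻¹ ∈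
      Subgroup.centralizer ({x} : Set G) ⊓ centFour x).1
    have hqC : (q : G) ∈ C := Subgroup.map_subtype_le _ q.2
    have hyz := L.mem_zpowers_of_commute hx ht ht1 (g := (q : G) * x * (q : G)⁻¹) (mem_cent.1 hyx)
      (mem_cent.1 (hle hy)) (by rw [conj_pow, ← hx, pow_orderOf_eq_one, mul_one, mul_inv_cancel])
    have hQn : ∀ c ∈ C, ∀ r ∈ Q, c * r * c⁻¹ ∈ Q := by
      rintro c hc _ ⟨r, hr, rfl⟩
      exact ⟨⟨c, hc⟩ * r * (⟨c, hc⟩ : C)⁻¹, ρ.normal_ker.conj_mem r hr _, rfl⟩
    set d := (q : G) * x * (q : G)⁻¹ * x⁻¹ with hd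
    have hdQ : d ∈ Q := by
      have h := mul_mem q.2 (hQn x (hle hxc) _ (inv_mem q.2))
      rwa [show (q : G) * (x * (q : G)⁻¹ * x⁻¹) = d by rw [hd]; group] at h
    have hdx : d ∈ Subgroup.zpowers x := mul_mem hyz (inv_mem (Subgroup.mem_zpowers x))
    have hd1 : d = 1 := orderOf_eq_one_iff.1 (Nat.eq_one_of_dvd_coprimes
      (show Nat.Coprime (2 ^ 6) 3 by norm_num) (hQ64 ▸ Subgroup.orderOf_dvd_natCard _ hdQ)
      (card_zpowers_three hx ▸ Subgroup.orderOf_dvd_natCard _ hdx))
    apply hqV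
    rw [Subgroup.mem_subgroupOf]
    exact L.four_mem_of_pow hx (conj_eq_iff_commute.1 (mul_inv_eq_one.1 hd1)) (pow_two_of_card hQ64 q.2)
  refine ⟨?_, heq ▸ inf_le_left, by rw [heq, hd3] at *; omega, fun g hg k hk => heq ▸ h2el g hg k hk,
    fun g hg r hr => ?_⟩
  · rw [heq]
    rw [hj] at hRn h43 ⊢
    interval_cases j <;> omega
  · exact map_conj_twoCore_le (fun a ha => mul_mem (mul_mem hg ha) (inv_mem hg)) hr

theorem two_conj {x : G} (hx : orderOf x = 3) (c : G) {g : G} (hg : g ∈ twoCore x) :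
    c * g * c⁻¹ ∈ twoCore (c * x * c⁻¹) :=
  map_conj_twoCore_le (fun _ ha => L.centFour_conj hx c ha) hg

theorem card_two_eq {x y : G} (hx : orderOf x = 3) (hy : orderOf y = 3) :
    Nat.card (twoCore x) = Nat.card (twoCore y) := by
  have key : ∀ a b : G, orderOf a = 3 → orderOf b = 3 → Nat.card (twoCore a) ≤ Nat.card (twoCore b) := by
    intro a b ha hb
    obtain ⟨c, hc⟩ := isConj_iff.1 (L.conj_three a b ha hb)
    refine Nat.card_le_card_of_injective (fun g : twoCore a => (⟨c * g * c⁻¹, hc ▸ L.two_conj ha c g.2⟩ : twoCore b))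
      fun g g' e => Subtype.ext ?_
    have e' : c * (g : G) * c⁻¹ = c * (g' : G) * c⁻¹ := congrArg Subtype.val e
    exact mul_left_cancel (mul_right_cancel e')
  exact le_antisymm (key x y hx hy) (key y x hy hx)

theorem four_le_two {x y : G} (hx : orderOf x = 3) (hy : orderOf y = 3) (h : Rel y x) :
    four y ≤ twoCore x := fun g hg =>
  (L.two_basic hx).2.2.2.1 g (h hg) 1 ((L.four_mem_iff hy).1 hg).2

theorem two_invariant {x w g : G} (hx : orderOf x = 3) (hc : x * w = w * x) (hg : g ∈ twoCore x) :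
    w * g * w⁻¹ ∈ twoCore x := by
  have := L.two_conj hx w hg
  rwa [show w * x * w⁻¹ = x by rw [← hc, mul_inv_cancel_right]] at this

/-- The fixed points of an element on the core are trivial or a four-group. -/
theorem two_fix {a y y' : G} (ha : orderOf a = 3) (hy : orderOf y = 3) (hy' : orderOf y' = 3)
    (hc : y * y' = y' * y) (hne : y' ∉ Subgroup.zpowers y) (hy'a : a * y' = y' * a) :
    (Rel y a ∧ Nat.card (twoCore a ⊓ Subgroup.centralizer ({y} : Set G) : Subgroup G) = 4) ∨
      (¬ Rel y a ∧ Nat.card (twoCore a ⊓ Subgroup.centralizer ({y} : Set G) : Subgroup G) = 1) := by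
  obtain ⟨h1, h2, -⟩ := L.two_basic ha
  have hel : ∀ g ∈ twoCore a ⊓ Subgroup.centralizer ({y} : Set G), g ∈ four y := fun g hg => by
    refine L.four_mem_of_pow hy (mem_cent.1 hg.2) (k := 6) ?_
    rcases h1 with h | h
    · rw [show (2 : ℕ) ^ 6 = 2 ^ 4 * 4 from rfl, pow_mul, pow_two_of_card (k := 4) h hg.1, one_pow]
    · exact pow_two_of_card (k := 6) h hg.1
  by_cases hb : twoCore a ⊓ Subgroup.centralizer ({y} : Set G) = ⊥
  · refine Or.inr ⟨fun h => ?_, by rw [hb, Subgroup.card_bot]⟩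
    obtain ⟨g, hg, hg1⟩ := L.exists_four_ne_one hy
    exact hg1 ((Subgroup.eq_bot_iff_forall _).1 hb g
      ⟨L.four_le_two ha hy h hg, mem_cent.2 ((L.four_mem_iff hy).1 hg).1⟩)
  · obtain ⟨⟨g, hg⟩, hg1⟩ := Subgroup.ne_bot_iff_exists_ne_one.1 hb
    have hsub : four y ≤ twoCore a := L.four_le_of_mem hy hy' hc hne
      (fun r hr => L.two_invariant ha hy'a hr) (hel g hg) hg.1 fun e => hg1 (Subtype.ext e)
    refine Or.inl ⟨fun v hv => h2 (hsub hv), ?_⟩
    rw [show twoCore a ⊓ Subgroup.centralizer ({y} : Set G) = four y from le_antisymm hel fun v hv =>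
      ⟨hsub hv, mem_cent.2 ((L.four_mem_iff hy).1 hv).1⟩, L.card_four hy]

/-- The configuration of four commuting four-groups in a square is impossible. -/
theorem no_square {a z v b : G} (ha : orderOf a = 3) (hz : orderOf z = 3) (hv : orderOf v = 3)
    (hb : orderOf b = 3) (haz : a * z = z * a) (hav : a * v = v * a) (hab : a * b = b * a)
    (hzv : z * v = v * z) (hzb : z * b = b * z) (hvb : v * b = b * v)
    (hza : z ∉ Subgroup.zpowers a) (hvnb : b ∉ Subgroup.zpowers v)
    (hcount : ∀ R : Subgroup G, (∀ g, g = a ∨ g = z ∨ g = v ∨ g = b → ∀ r ∈ R, g * r * g⁻¹ ∈ R) →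
      (Nat.card R + 2 * (Nat.card (R ⊓ Subgroup.centralizer ({a} : Set G) : Subgroup G) +
        Nat.card (R ⊓ Subgroup.centralizer ({z} : Set G) : Subgroup G) +
        Nat.card (R ⊓ Subgroup.centralizer ({v} : Set G) : Subgroup G) +
        Nat.card (R ⊓ Subgroup.centralizer ({b} : Set G) : Subgroup G))) % 9 = 0)
    (h1 : ¬ Rel a z) (h2 : Rel v a) (h3 : Rel v z) (h4 : Rel b a) (h5 : Rel b z)
    (h6 : ¬ Rel v b) : False := by
  set I := twoCore a ⊓ twoCore z with hI
  have hinv : ∀ g, g = a ∨ g = z ∨ g = v ∨ g = b → a * g = g * a ∧ z * g = g * z := by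
    rintro g (rfl | rfl | rfl | rfl)
    · exact ⟨rfl, haz.symm⟩
    · exact ⟨haz, rfl⟩
    · exact ⟨hav, hzv⟩
    · exact ⟨hab, hzb⟩
  have hIinv : ∀ g, g = a ∨ g = z ∨ g = v ∨ g = b → ∀ r ∈ I, g * r * g⁻¹ ∈ I := fun g hg r hr =>
    ⟨L.two_invariant ha (hinv g hg).1 hr.1, L.two_invariant hz (hinv g hg).2 hr.2⟩
  obtain ⟨hta, hta2, -⟩ := L.two_basic ha
  obtain ⟨htz, htz2, -⟩ := L.two_basic hz
  have h64 : ∀ g ∈ I, g ^ 2 ^ 6 = 1 := fun g hg => by
    rcases hta with h | h
    · rw [show (2 : ℕ) ^ 6 = 2 ^ 4 * 4 from rfl, pow_mul, pow_two_of_card (k := 4) h hg.1, one_pow]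
    · exact pow_two_of_card (k := 6) h hg.1
  have hbot : ∀ {p q : G}, orderOf p = 3 → orderOf q = 3 → p * q = q * p →
      q ∉ Subgroup.zpowers p → ¬ Rel p q → ∀ g ∈ four p, g ∈ centFour q → g = 1 := by
    intro p q hp hq hc hne hr g hg hgq
    by_contra hg1
    exact hr (L.four_le_of_mem hp hq hc hne (H := centFour q)
      (fun r hr => mul_mem (mul_mem (L.self_mem_centFour hq) hr) (inv_mem (L.self_mem_centFour hq)))
      hg hgq hg1)
  have hca : Nat.card (I ⊓ Subgroup.centralizer ({a} : Set G) : Subgroup G) = 1 := by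
    rw [Subgroup.card_eq_one, Subgroup.eq_bot_iff_forall]
    exact fun g hg => hbot ha hz haz hza h1 g
      (L.four_mem_of_pow ha (mem_cent.1 hg.2) (h64 g hg.1)) (htz2 hg.1.2)
  have hcz : Nat.card (I ⊓ Subgroup.centralizer ({z} : Set G) : Subgroup G) = 1 := by
    rw [Subgroup.card_eq_one, Subgroup.eq_bot_iff_forall]
    exact fun g hg => hbot hz ha haz.symm (not_mem_zpowers_symm ha hz hza) (fun h => h1 h.symm) g
      (L.four_mem_of_pow hz (mem_cent.1 hg.2) (h64 g hg.1)) (hta2 hg.1.1)
  have hfour : ∀ {y : G}, orderOf y = 3 → four y ≤ I →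
      Nat.card (I ⊓ Subgroup.centralizer ({y} : Set G) : Subgroup G) = 4 := by
    intro y hy hle
    rw [show I ⊓ Subgroup.centralizer ({y} : Set G) = four y from le_antisymm
      (fun g hg => L.four_mem_of_pow hy (mem_cent.1 hg.2) (h64 g hg.1))
      (fun g hg => ⟨hle hg, mem_cent.2 ((L.four_mem_iff hy).1 hg).1⟩), L.card_four hy]
  have hvI : four v ≤ I := le_inf (L.four_le_two ha hv h2) (L.four_le_two hz hv h3)
  have hbI : four b ≤ I := le_inf (L.four_le_two ha hb h4) (L.four_le_two hz hb h5)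
  have hc := hcount I hIinv
  rw [hca, hcz, hfour hv hvI, hfour hb hbI] at hc
  have hdvd : Nat.card I ∣ 2 ^ 6 := by
    have := Subgroup.card_dvd_of_le (inf_le_left : I ≤ twoCore a)
    rcases hta with h | h <;> rw [h] at this
    · exact this.trans (by norm_num)
    · rwa [show (2 : ℕ) ^ 6 = 64 from rfl]
  obtain ⟨j, hj, hj'⟩ := (Nat.dvd_prime_pow Nat.prime_two).1 hdvd
  have hI16 : Nat.card I = 16 := by
    rw [hj'] at hc ⊢
    interval_cases j <;> omega
  -- the centre of `I`
  haveI : Fact (Nat.Prime 2) := ⟨Nat.prime_two⟩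
  haveI : Nontrivial I := by rw [← Finite.one_lt_card_iff_nontrivial, hI16]; norm_num
  haveI hnt := (IsPGroup.of_card (G := I) (p := 2) (n := 4) (by rw [hI16]; norm_num)).center_nontrivial
  set Z := (Subgroup.center I).map I.subtype with hZ
  have hZI : Z ≤ I := Subgroup.map_subtype_le _
  have hZinv : ∀ g, g = a ∨ g = z ∨ g = v ∨ g = b → ∀ r ∈ Z, g * r * g⁻¹ ∈ Z := by
    rintro g hg _ ⟨r, hr, rfl⟩
    refine ⟨⟨g * r * g⁻¹, hIinv g hg r r.2⟩, Subgroup.mem_center_iff.2 fun s => Subtype.ext ?_, rfl⟩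
    have hg3 : g⁻¹ = g * g := by
      have ho : orderOf g = 3 := by rcases hg with rfl | rfl | rfl | rfl <;> assumption
      exact (eq_inv_of_mul_eq_one_left (by rw [← pow_two, ← pow_succ, show (2 : ℕ) + 1 = orderOf g by rw [ho], pow_orderOf_eq_one])).symm
    have hs : g⁻¹ * (s : G) * g ∈ I := by
      have := hIinv g hg _ (hIinv g hg s s.2)
      rw [show g * (g * (s : G) * g⁻¹) * g⁻¹ = (g * g) * s * (g * g)⁻¹ by group, ← hg3, inv_inv] at this
      exact this
    have e : g⁻¹ * (s : G) * g * r = r * (g⁻¹ * (s : G) * g) :=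
      congrArg Subtype.val (Subgroup.mem_center_iff.1 hr ⟨_, hs⟩)
    show (s : G) * (g * r * g⁻¹) = g * r * g⁻¹ * s
    calc (s : G) * (g * r * g⁻¹) = g * (g⁻¹ * (s : G) * g * r) * g⁻¹ := by group
      _ = g * (r * (g⁻¹ * (s : G) * g)) * g⁻¹ := by rw [e]
      _ = g * r * g⁻¹ * s := by group
  have hle_one : ∀ {y : G}, Nat.card (I ⊓ Subgroup.centralizer ({y} : Set G) : Subgroup G) = 1 →
      Nat.card (Z ⊓ Subgroup.centralizer ({y} : Set G) : Subgroup G) = 1 := by
    intro y hy
    have := Subgroup.card_le_of_le (inf_le_inf_right (Subgroup.centralizer ({y} : Set G)) hZI)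
    have h0 : 0 < Nat.card (Z ⊓ Subgroup.centralizer ({y} : Set G) : Subgroup G) := Nat.card_pos
    omega
  have hkey : ∀ {y y' : G}, orderOf y = 3 → orderOf y' = 3 → y * y' = y' * y →
      y' ∉ Subgroup.zpowers y → (y' = a ∨ y' = z ∨ y' = v ∨ y' = b) →
      four y ≤ Z ∨ Nat.card (Z ⊓ Subgroup.centralizer ({y} : Set G) : Subgroup G) = 1 := by
    intro y y' hy hy' hc hne hmem
    by_cases hbot' : Z ⊓ Subgroup.centralizer ({y} : Set G) = ⊥
    · exact Or.inr (by rw [hbot', Subgroup.card_bot])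
    · obtain ⟨⟨g, hg⟩, hg1⟩ := Subgroup.ne_bot_iff_exists_ne_one.1 hbot'
      exact Or.inl (L.four_le_of_mem hy hy' hc hne (hZinv y' hmem)
        (L.four_mem_of_pow hy (mem_cent.1 hg.2) (h64 g (hZI hg.1))) hg.1 fun e => hg1 (Subtype.ext e))
  have hcentral : ∀ {p q : G}, four p ≤ Z → four q ≤ I → Rel p q := by
    intro p q hp hq g hg
    obtain ⟨r, hr, rfl⟩ := hp hg
    exact mem_centFour.2 fun s hs => congrArg Subtype.val (Subgroup.mem_center_iff.1 hr ⟨s, hq hs⟩)
  rcases hkey hv hb hvb hvnb (Or.inr (Or.inr (Or.inr rfl))) with h | hcv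
  · exact h6 (hcentral h hbI)
  rcases hkey hb hv hvb.symm (not_mem_zpowers_symm hv hb hvnb) (Or.inr (Or.inr (Or.inl rfl))) with h | hcb
  · exact h6 (hcentral h hvI).symm
  have hc' := hcount Z hZinv
  rw [hle_one hca, hle_one hcz, hcv, hcb] at hc'
  have hZd : Nat.card Z ∣ 2 ^ 4 := by
    have := Subgroup.card_dvd_of_le hZI
    rwa [hI16, show (16 : ℕ) = 2 ^ 4 from rfl] at this
  have hZ1 : 1 < Nat.card Z := by
    rw [hZ, Subgroup.card_map_of_injective I.subtype_injective, Finite.one_lt_card_iff_nontrivial]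
    exact hnt
  obtain ⟨i, hi, hi'⟩ := (Nat.dvd_prime_pow Nat.prime_two).1 hZd
  rw [hi'] at hc' hZ1
  interval_cases i <;> omega

/-- The core has order 16 and contains a second commuting four-group. -/
theorem two_sixteen {x : G} (hx : orderOf x = 3) :
    Nat.card (twoCore x) = 16 ∧ ∃ v : G, orderOf v = 3 ∧ x * v = v * x ∧ v ∉ Subgroup.zpowers x ∧
      Rel v x := by
  classical
  obtain ⟨w, hw, hc, hne⟩ := L.exists_partner hx
  have hx3 : x ^ 3 = 1 := hx ▸ pow_orderOf_eq_one x
  have hw3 : w ^ 3 = 1 := hw ▸ pow_orderOf_eq_one w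
  have hcc : Commute x w := hc
  have hwx : x ∉ Subgroup.zpowers w := not_mem_zpowers_symm hx hw hne
  set p3 := x * w with hp3
  set p4 := x * w ^ 2 with hp4
  have hc13 : x * p3 = p3 * x := ((Commute.refl x).mul_right hcc).eq
  have hc14 : x * p4 = p4 * x := ((Commute.refl x).mul_right (hcc.pow_right 2)).eq
  have hc23 : w * p3 = p3 * w := (hcc.symm.mul_right (Commute.refl w)).eq
  have hc24 : w * p4 = p4 * w := (hcc.symm.mul_right ((Commute.refl w).pow_right 2)).eq
  have hc34 : p3 * p4 = p4 * p3 :=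
    ((show Commute x p4 from hc14).mul_left (show Commute w p4 from hc24)).eq
  have hn13 : p3 ∉ Subgroup.zpowers x := fun h => hne (by
    have := mul_mem (inv_mem (Subgroup.mem_zpowers x)) h
    rwa [hp3, inv_mul_cancel_left] at this)
  have hn14 : p4 ∉ Subgroup.zpowers x := fun h => hne (by
    have := mul_mem (inv_mem (Subgroup.mem_zpowers x)) h
    rw [hp4, inv_mul_cancel_left] at this
    have h' := mul_mem this this
    rwa [← pow_add, pow_succ, hw3, one_mul] at h')
  have hn23 : p3 ∉ Subgroup.zpowers w := fun h => hwx (by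
    have := mul_mem h (inv_mem (Subgroup.mem_zpowers w))
    rwa [hp3, mul_inv_cancel_right] at this)
  have hn24 : p4 ∉ Subgroup.zpowers w := fun h => hwx (by
    have := mul_mem h (inv_mem (pow_mem (Subgroup.mem_zpowers w) 2))
    rwa [hp4, mul_inv_cancel_right] at this)
  have ho3 : orderOf p3 = 3 := orderOf_eq_prime_of_pow Nat.prime_three
    (by rw [hp3, hcc.mul_pow, hx3, hw3, one_mul]) fun e => hn13 (e ▸ one_mem _)
  have ho4 : orderOf p4 = 3 := orderOf_eq_prime_of_pow Nat.prime_three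
    (by rw [hp4, (hcc.pow_right 2).mul_pow, hx3, ← pow_mul, mul_comm 2 3, pow_mul, hw3, one_pow,
      one_mul]) fun e => hn14 (e ▸ one_mem _)
  have hn34 : p4 ∉ Subgroup.zpowers p3 := fun h => by
    have hd : p3⁻¹ * p4 = w := by
      rw [hp3, hp4, mul_inv_rev, pow_two]; group
    have h' : w ∈ Subgroup.zpowers p3 := hd ▸ mul_mem (inv_mem (Subgroup.mem_zpowers p3)) h
    exact not_mem_zpowers_symm hw ho3 hn23 h'
  have hcount : ∀ R : Subgroup G, (∀ r ∈ R, x * r * x⁻¹ ∈ R) → (∀ r ∈ R, w * r * w⁻¹ ∈ R) →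
      (Nat.card R + 2 * (Nat.card (R ⊓ Subgroup.centralizer ({x} : Set G) : Subgroup G) +
        Nat.card (R ⊓ Subgroup.centralizer ({w} : Set G) : Subgroup G) +
        Nat.card (R ⊓ Subgroup.centralizer ({p3} : Set G) : Subgroup G) +
        Nat.card (R ⊓ Subgroup.centralizer ({p4} : Set G) : Subgroup G))) % 9 = 0 :=
    fun R h1 h2 => burnside_nine R hx hw hc hne h1 h2
  have hrow : ∀ {a : G}, orderOf a = 3 → a * x = x * a → a * w = w * a →
      a * p3 = p3 * a → a * p4 = p4 * a →
      (Nat.card (twoCore a) + 2 * ((if Rel x a then 4 else 1) + (if Rel w a then 4 else 1) +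
        (if Rel p3 a then 4 else 1) + (if Rel p4 a then 4 else 1))) % 9 = 0 := by
    intro a ha hax haw ha3 ha4
    have h := hcount (twoCore a) (fun r hr => L.two_invariant ha hax hr)
      (fun r hr => L.two_invariant ha haw hr)
    have e : ∀ {y y' : G}, orderOf y = 3 → orderOf y' = 3 → y * y' = y' * y →
        y' ∉ Subgroup.zpowers y → a * y' = y' * a →
        Nat.card (twoCore a ⊓ Subgroup.centralizer ({y} : Set G) : Subgroup G) =
          if Rel y a then 4 else 1 := by
      intro y y' hy hy' h1 h2 h3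
      rcases L.two_fix ha hy hy' h1 h2 h3 with ⟨h, h'⟩ | ⟨h, h'⟩
      · rw [if_pos h, h']
      · rw [if_neg h, h']
    rwa [e hx hw hc hne haw, e hw hx hc.symm hwx hax,
      e ho3 hx hc13.symm (not_mem_zpowers_symm hx ho3 hn13) hax,
      e ho4 hx hc14.symm (not_mem_zpowers_symm hx ho4 hn14) hax] at h
  have hself : ∀ {a : G}, orderOf a = 3 → Rel a a := fun ha => L.four_le_centFour_self ha
  have r1 := hrow hx rfl hc hc13 hc14
  have r2 := hrow hw hc.symm rfl hc23 hc24
  have r3 := hrow ho3 hc13.symm hc23.symm rfl hc34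
  have r4 := hrow ho4 hc14.symm hc24.symm hc34.symm rfl
  simp only [if_pos (hself hx)] at r1
  simp only [if_pos (hself hw)] at r2
  simp only [if_pos (hself ho3)] at r3
  simp only [if_pos (hself ho4)] at r4
  rw [L.card_two_eq hw hx] at r2
  rw [L.card_two_eq ho3 hx] at r3
  rw [L.card_two_eq ho4 hx] at r4
  rcases (L.two_basic hx).1 with h16 | h64
  · refine ⟨h16, ?_⟩
    rw [h16] at r1
    by_cases e2 : Rel w x
    · exact ⟨w, hw, hc, hne, e2⟩
    by_cases e3 : Rel p3 x
    · exact ⟨p3, ho3, hc13, hn13, e3⟩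
    by_cases e4 : Rel p4 x
    · exact ⟨p4, ho4, hc14, hn14, e4⟩
    rw [if_neg e2, if_neg e3, if_neg e4] at r1
    norm_num at r1
  · exfalso
    rw [h64] at r1 r2 r3 r4
    have sym : ∀ a b : G, Rel a b ↔ Rel b a := fun a b => ⟨Rel.symm, Rel.symm⟩
    simp only [sym x w, sym x p3, sym x p4] at r2 r3 r4
    simp only [sym w p3, sym w p4] at r3 r4
    simp only [sym p3 p4] at r4
    have hgen : ∀ R : Subgroup G, (∀ g, g = x ∨ g = w ∨ g = p3 ∨ g = p4 → ∀ r ∈ R, g * r * g⁻¹ ∈ R) →
        (Nat.card R + 2 * (Nat.card (R ⊓ Subgroup.centralizer ({x} : Set G) : Subgroup G) +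
        Nat.card (R ⊓ Subgroup.centralizer ({w} : Set G) : Subgroup G) +
        Nat.card (R ⊓ Subgroup.centralizer ({p3} : Set G) : Subgroup G) +
        Nat.card (R ⊓ Subgroup.centralizer ({p4} : Set G) : Subgroup G))) % 9 = 0 :=
      fun R h => hcount R (h x (Or.inl rfl)) (h w (Or.inr (Or.inl rfl)))
    have r := And.intro r1 (And.intro r2 (And.intro r3 r4))
    by_cases e12 : Rel w x <;> by_cases e13 : Rel p3 x <;> by_cases e14 : Rel p4 x <;>
      by_cases e23 : Rel p3 w <;> by_cases e24 : Rel p4 w <;> by_cases e34 : Rel p4 p3 <;>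
      norm_num [e12, e13, e14, e23, e24, e34] at r
    all_goals first
      | exact L.no_square hx ho4 hw ho3 hc14 hc hc13 hc24.symm hc34.symm hc23 hn14 hn23
          (fun R h => by
            have := hgen R fun g hg => h g (by tauto)
            omega) (fun h => e14 h.symm) e12 e24.symm e13 e34.symm (fun h => e23 h.symm)
      | exact L.no_square hx ho3 hw ho4 hc13 hc hc14 hc23.symm hc34 hc24 hn13 hn24
          (fun R h => by
            have := hgen R fun g hg => h g (by tauto)
            omega) (fun h => e13 h.symm) e12 e23.symm e14 e34 (fun h => e24 h.symm)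
      | exact L.no_square hx hw ho3 ho4 hc hc13 hc14 hc23 hc24 hc34 hne hn34
          (fun R h => by
            have := hgen R fun g hg => h g (by tauto)
            omega) (fun h => e12 h.symm) e13 e23 e14 e24 (fun h => e34 h.symm)

end Loc

end Cfsg.Lib.MTwentyTwo
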